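import Mathlib
import Cfsg.Prelude.Def_OddOrderLocal
import Cfsg.Agent.Lib.Helper23.FittingHall

set_option autoImplicit false

/-!
# (B1) of helper67's BGTypeII request (S1381): for type-P data with `W₁` of prime order `p`,
`p ∈ κ(M)`.  Written by helper68.
-/

namespace Cfsg.Agent.Helper68.BGTypeII

open Subgroup Cfsg

variable {G : Type*} [Group G] [Finite G]

/-- **(B1)** for type-P data with `W₁` of prime order `p`: `p ∈ κ(M)`. -/
theorem card_mem_kappa_of_typeP {M W₁ U' W₂ : Subgroup G} (hP : IsTypePWith M W₁ U' W₂)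
    (hprime : (Nat.card W₁).Prime)
    (hσ : IsPiHallOf (sigma M) (sigmaCore M) M) (hσD : sigmaCore M ≤ ⁅M, M⁆)
    (hFσ : fittingHallOf M ≤ sigmaCore M) :
    Nat.card W₁ ∈ kappa M := by
  classical
  have : Fact (Nat.card W₁).Prime := ⟨hprime⟩
  obtain ⟨hDM, hWM, hDW, hprod⟩ := hP.W₁_compl
  have hcard : Nat.card M = Nat.card ↥⁅M, M⁆ * Nat.card W₁ :=
    Cfsg.Agent.Helper23.card_of_isComplIn hP.W₁_compl
  have hpM : Nat.card W₁ ∣ Nat.card M := Dvd.intro_left _ hcard.symm
  have hrel : (⁅M, M⁆ : Subgroup G).relIndex M = Nat.card W₁ := by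
    have h1 := Subgroup.relIndex_mul_relIndex ⊥ ⁅M, M⁆ M bot_le hDM
    rw [Subgroup.relIndex_bot_left, Subgroup.relIndex_bot_left] at h1
    have hpos : 0 < Nat.card ↥⁅M, M⁆ := Nat.card_pos
    rw [hcard] at h1
    exact Nat.eq_of_mul_eq_mul_left hpos h1
  rw [kappa, Set.mem_ofPred_eq]
  refine ⟨hprime, hpM, ?_, ?_⟩
  · intro hpσ
    apply hσ.2.2 _ hprime hpσ
    rw [← Subgroup.relIndex_mul_relIndex (sigmaCore M) ⁅M, M⁆ M hσD hDM, hrel]
    exact Dvd.intro_left _ rfl
  · have hW₁card : Nat.card (W₁.subgroupOf M) = Nat.card W₁ :=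
      Nat.card_congr (Subgroup.subgroupOfEquivOfLe hWM).toEquiv
    have hpg : IsPGroup (Nat.card W₁) (W₁.subgroupOf M) :=
      IsPGroup.of_card (n := 1) (by rw [hW₁card, pow_one])
    have hidx : ¬ Nat.card W₁ ∣ (W₁.subgroupOf M).index := by
      have hc : (Nat.card W₁).Coprime (W₁.relIndex M) := hP.W₁_hall
      intro hd
      have h2 : Nat.card W₁ ∣ Nat.gcd (Nat.card W₁) (W₁.relIndex M) := Nat.dvd_gcd dvd_rfl hd
      rw [Nat.Coprime.gcd_eq_one hc] at h2
      exact hprime.one_lt.ne' (Nat.dvd_one.mp h2)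
    let S : Sylow (Nat.card W₁) M := hpg.toSylow hidx
    have hScard : Nat.card S = Nat.card W₁ := hW₁card
    obtain ⟨w, hw, hw1⟩ : ∃ w ∈ W₁, w ≠ 1 := by
      by_contra hcon
      push Not at hcon
      exact hP.W₁_ne ((Subgroup.eq_bot_iff_forall _).2 hcon)
    obtain ⟨-, hW2ne, -⟩ := hP.selfNormalizing
    obtain ⟨z, hz, hz1⟩ : ∃ z ∈ W₂, z ≠ 1 := by
      by_contra hcon
      push Not at hcon
      exact hW2ne ((Subgroup.eq_bot_iff_forall _).2 hcon)
    have hzc : z ∈ ⁅M, M⁆ ⊓ Subgroup.centralizer ({w} : Set G) := by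
      rw [hP.W₂_centralizer w hw hw1]; exact hz
    have hwz : w * z = z * w := (Subgroup.mem_centralizer_iff.1 hzc.2) w rfl
    have hzσ : z ∈ sigmaCore M := hFσ ((hP.W₂_le hz).1)
    intro P
    obtain ⟨m, hm⟩ := MulAction.exists_smul_eq M S P
    constructor
    · have hcardP : Nat.card P = Nat.card W₁ := by
        rw [Sylow.card_eq_multiplicity P, ← Sylow.card_eq_multiplicity S]
        exact hScard
      exact isCyclic_of_prime_card hcardP
    · have hwS : (⟨w, hWM hw⟩ : M) ∈ (S : Subgroup M) := by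
        show (⟨w, hWM hw⟩ : M) ∈ W₁.subgroupOf M
        exact Subgroup.mem_subgroupOf.2 hw
      refine ⟨m * ⟨w, hWM hw⟩ * m⁻¹, ?_, ?_, (m : G) * z * (m : G)⁻¹, ?_, ?_, ?_⟩
      · rw [← hm, Sylow.coe_subgroup_smul]
        have h3 := Subgroup.smul_mem_pointwise_smul (⟨w, hWM hw⟩ : M) (MulAut.conj m)
          (S : Subgroup M) hwS
        rwa [MulAut.smul_def, MulAut.conj_apply] at h3
      · intro h1
        rw [conj_eq_one_iff] at h1
        exact hw1 (congrArg Subtype.val h1)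
      · obtain ⟨z', hz', rfl⟩ := Subgroup.mem_map.1 hzσ
        refine Subgroup.mem_map.2 ⟨m * z' * m⁻¹,
          (piCore_normal (sigma M) M).conj_mem z' hz' m, ?_⟩
        simp
      · intro h1
        rw [conj_eq_one_iff] at h1
        exact hz1 h1
      · push_cast
        have h4 : (m : G) * w * (m : G)⁻¹ * ((m : G) * z * (m : G)⁻¹)
            = (m : G) * (w * z) * (m : G)⁻¹ := by group
        rw [h4, hwz]
        group

end Cfsg.Agent.Helper68.BGTypeII
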