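import Mathlib
import Cfsg.Agent.Lib.Helper97.FXDefs
import Cfsg.Agent.Lib.Helper48.SympRep
import Cfsg.Agent.Lib.Helper86.ESREC

/-!
# FX server (helper97, S3818): piece (MINN) exists_min_normal by helper68
-/

set_option autoImplicit false

namespace Cfsg.Agent.Helper68.FX

open Cfsg.Agent.Helper97.FX Cfsg.Agent.Helper48.SympRep

universe u

section GT

theorem exists_min_normal {G : Type*} [Group G] [Finite G] [Group.IsSolvable G] (x : G)
    (hgen : Subgroup.normalClosure ({x} : Set G) = ⊤) (hx : x ∉ Subgroup.center G) :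
    ∃ (N : Subgroup G) (r : ℕ), N.Normal ∧ r.Prime ∧ IsPGroup r N ∧ (∃ n ∈ N, x * n ≠ n * x) ∧
      (∀ M : Subgroup G, M.Normal → M < N → M ≤ Subgroup.center G) := by
  classical
  have hex : ∃ c : ℕ, ∃ N : Subgroup G, N.Normal ∧ (∃ n ∈ N, x * n ≠ n * x) ∧ Nat.card N = c := by
    rw [Subgroup.mem_center_iff] at hx
    push Not at hx
    obtain ⟨g, hg⟩ := hx
    exact ⟨_, ⊤, inferInstance, ⟨g, Subgroup.mem_top g, fun h => hg h.symm⟩, rfl⟩
  obtain ⟨N, hNn, hNx, hNc⟩ := Nat.find_spec hex
  have hmin : ∀ M : Subgroup G, M.Normal → (∃ n ∈ M, x * n ≠ n * x) →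
      Nat.card N ≤ Nat.card M := by
    intro M hM hMx
    rw [hNc]
    exact Nat.find_min' hex ⟨M, hM, hMx, rfl⟩
  have hcent : ∀ M : Subgroup G, M.Normal → M < N → M ≤ Subgroup.center G := by
    intro M hM hlt
    have hxM : ∀ m ∈ M, x * m = m * x := by
      intro m hm
      by_contra hne
      have := hmin M hM ⟨m, hm, hne⟩
      exact hlt.ne (Subgroup.eq_of_le_of_card_ge hlt.le this)
    have hxC : x ∈ Subgroup.centralizer (M : Set G) := by
      rw [Subgroup.mem_centralizer_iff]
      intro m hm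
      exact (hxM m hm).symm
    have : (Subgroup.centralizer (M : Set G)).Normal := inferInstance
    have hle : Subgroup.normalClosure ({x} : Set G) ≤ Subgroup.centralizer (M : Set G) :=
      Subgroup.normalClosure_le_normal (by simpa using hxC)
    rw [hgen] at hle
    intro m hm
    rw [Subgroup.mem_center_iff]
    intro g
    have := hle (Subgroup.mem_top g)
    rw [Subgroup.mem_centralizer_iff] at this
    exact (this m hm).symm
  have := hNn
  obtain ⟨n₀, hn₀, hn₀x⟩ := hNx
  have hNbot : N ≠ ⊥ := by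
    intro h
    rw [h, Subgroup.mem_bot] at hn₀
    apply hn₀x
    rw [hn₀]; simp
  have hN'lt : ⁅N, N⁆ < N := Group.IsSolvable.commutator_lt_of_ne_bot hNbot
  have hN'c : ⁅N, N⁆ ≤ Subgroup.center G := hcent _ inferInstance hN'lt
  have hnil : Group.IsNilpotent ↥N := by
    refine @Subgroup.isNilpotent_of_ker_le_center _ _ _ _ (Abelianization.of (G := ↥N)) ?_ inferInstance
    rw [Abelianization.ker_of]
    intro c hc
    have hc' : (c : G) ∈ ⁅N, N⁆ := by
      rw [← Subgroup.map_subtype_commutator N]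
      exact ⟨c, hc, rfl⟩
    have h1 := hN'c hc'
    rw [Subgroup.mem_center_iff] at h1 ⊢
    intro h
    exact Subtype.ext (h1 h)
  by_cases hcase : ∃ (q : ℕ) (_ : Fact q.Prime) (P : Sylow q ↥N), (P : Subgroup ↥N) = ⊤
  · obtain ⟨q, hq, P, hP⟩ := hcase
    refine ⟨N, q, hNn, hq.out, ?_, ⟨n₀, hn₀, hn₀x⟩, hcent⟩
    intro g
    have hg : g ∈ (P : Subgroup ↥N) := by rw [hP]; exact Subgroup.mem_top g
    obtain ⟨k, hk⟩ := P.isPGroup' ⟨g, hg⟩
    refine ⟨k, ?_⟩
    have := congrArg Subtype.val hk
    simpa using this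
  · exfalso
    push Not at hcase
    have hPc : ∀ (q : ℕ) [Fact q.Prime] (P : Sylow q ↥N),
        (P : Subgroup ↥N) ≤ (Subgroup.center G).subgroupOf N := by
      intro q hq P
      have : (P : Subgroup ↥N).Normal := inferInstance
      have : (P : Subgroup ↥N).Characteristic := Sylow.characteristic_of_normal P inferInstance
      have hnorm : ((P : Subgroup ↥N).map N.subtype).Normal :=
        ConjAct.normal_of_characteristic_of_normal
      have hlt : (P : Subgroup ↥N).map N.subtype < N := by
        refine lt_of_le_of_ne (Subgroup.map_subtype_le _) (fun heq => hcase q hq P ?_)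
        apply Subgroup.map_injective N.subtype_injective
        rw [heq, ← MonoidHom.range_eq_map, Subgroup.range_subtype]
      have hc := hcent _ hnorm hlt
      intro g hg
      rw [Subgroup.mem_subgroupOf]
      exact hc ⟨g, hg, rfl⟩
    have hCtop : (Subgroup.center G).subgroupOf N = ⊤ := by
      by_contra hne
      have hidx : ((Subgroup.center G).subgroupOf N).index ≠ 1 :=
        fun h => hne (Subgroup.index_eq_one.mp h)
      obtain ⟨q, hq, hqd⟩ := Nat.exists_prime_and_dvd hidx
      have : Fact q.Prime := ⟨hq⟩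
      obtain ⟨P⟩ : Nonempty (Sylow q ↥N) := inferInstance
      have h1 : ((Subgroup.center G).subgroupOf N).index ∣ (P : Subgroup ↥N).index :=
        Subgroup.index_dvd_of_le (hPc q P)
      exact P.not_dvd_index (hqd.trans h1)
    have h2 : (⟨n₀, hn₀⟩ : ↥N) ∈ (Subgroup.center G).subgroupOf N := by
      rw [hCtop]; exact Subgroup.mem_top _
    rw [Subgroup.mem_subgroupOf, Subgroup.mem_center_iff] at h2
    exact hn₀x (h2 x)

end GT

end Cfsg.Agent.Helper68.FX
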