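import Mathlib
import Cfsg.Prelude.Def_LieTypeDatum
import Cfsg.Agent.Lib.Helper43.GF.Defs
import Cfsg.Agent.Lib.Helper5.OrthAut4
import Cfsg.Agent.Lib.Helper43.OrthMinus
import Cfsg.Agent.Lib.Helper43.OrthPlus
import Cfsg.Agent.Lib.Helper43.SpinorSum

/-!
# GF server (helper43, S2717), piece (SP1): the twisted image of `SO(Q₀)` lies in `Ω(Q)` (odd characteristic).
-/

set_option autoImplicit false
set_option linter.unusedVariables false

namespace Cfsg.Agent.Helper68.GF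

open Matrix QuadraticMap Cfsg.Agent.Helper43 Cfsg.Agent.Helper43.GF Cfsg.Agent.Helper5.OrthAut
  Cfsg.Agent.Helper40.AutPOm

section aux

variable {F₀ : Type*} [Field F₀] {F : Type*} [Field F]
  {ι ι' : Type} [Fintype ι] [DecidableEq ι] [Fintype ι'] [DecidableEq ι']

theorem h68_polar_tw {Q' : QuadraticForm F (ι' → F)} {Q : QuadraticForm F (ι → F)}
    (T : TwData Q' Q) (u v : ι' → F) :
    polar (⇑Q) (T.H *ᵥ u) (T.H *ᵥ v) = polar (⇑Q') u v := by
  unfold QuadraticMap.polar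
  rw [← Matrix.mulVec_add, T.hQ, T.hQ, T.hQ]

/-- conjugating a reflection by the isometry of a twisting datum -/
theorem h68_conj_refl {Q' : QuadraticForm F (ι' → F)} {Q : QuadraticForm F (ι → F)}
    (T : TwData Q' Q) (y : ι' → F) :
    T.H * Cfsg.reflectionMatrix (⇑Q') y * T.H' = Cfsg.reflectionMatrix (⇑Q) (T.H *ᵥ y) := by
  apply matrix_ext_mulVec
  intro x
  have hx : x = T.H *ᵥ (T.H' *ᵥ x) := by
    rw [Matrix.mulVec_mulVec, T.hHH', Matrix.one_mulVec]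
  have h1 : (T.H * Cfsg.reflectionMatrix (⇑Q') y * T.H') *ᵥ x =
      T.H *ᵥ (Cfsg.reflectionMatrix (⇑Q') y *ᵥ (T.H' *ᵥ x)) := by
    rw [Matrix.mulVec_mulVec, Matrix.mulVec_mulVec]
  rw [h1, Cfsg.Agent.Helper13.reflectionMatrix_mulVec,
    Cfsg.Agent.Helper13.reflectionMatrix_mulVec, Matrix.mulVec_sub, Matrix.mulVec_smul, ← hx,
    T.hQ]
  have h2 : polar (⇑Q) (T.H *ᵥ y) x = polar (⇑Q') y (T.H' *ᵥ x) := by
    conv_lhs => rw [hx]
    exact h68_polar_tw T y (T.H' *ᵥ x)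
  rw [h2]

theorem h68_isBC_stdMinus (emb : F₀ →+* F) (k : ℕ) (a₀ b₀ : F₀) :
    IsBC emb ⇑(stdMinus F₀ k a₀ b₀) ⇑(stdMinus F k (emb a₀) (emb b₀)) := by
  intro v
  rw [stdMinus_apply, stdMinus_apply]
  unfold Cfsg.quadFormMinus
  simp only [mapV_apply, map_add, map_sum, map_mul, map_pow]

theorem h68_tw_list (emb : F₀ →+* F) {Q₀ : QuadraticForm F₀ (ι' → F₀)}
    {Q' : QuadraticForm F (ι' → F)} {Q : QuadraticForm F (ι → F)}
    (hB : IsBC emb ⇑Q₀ ⇑Q') (T : TwData Q' Q) (l : List (ι' → F₀)) :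
    T.H * ((l.map (Cfsg.reflectionMatrix (⇑Q₀))).prod).map emb * T.H' =
      ((l.map (fun w => T.H *ᵥ mapV emb w)).map
        (fun v => Cfsg.reflectionMatrix (⇑Q) v)).prod := by
  induction l with
  | nil =>
    rw [List.map_nil, List.prod_nil, List.map_nil, List.map_nil, List.prod_nil,
      Matrix.map_one emb (map_zero emb) (map_one emb), Matrix.mul_one, T.hHH']
  | cons w l ih =>
    simp only [List.map_cons, List.prod_cons]
    rw [Matrix.map_mul, ← ih, ← h68_conj_refl T, ← hB.reflectionMatrix w]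
    simp only [Matrix.mul_assoc]
    rw [← Matrix.mul_assoc T.H' T.H, T.hH'H, Matrix.one_mul]

theorem h68_isSquare_list_prod {R : Type*} [CommMonoid R] (L : List R)
    (h : ∀ x ∈ L, IsSquare x) : IsSquare L.prod := by
  induction L with
  | nil => exact ⟨1, by simp⟩
  | cons a L ih =>
    rw [List.prod_cons]
    exact (h a (by simp)).mul (ih (fun x hx => h x (by simp [hx])))

theorem h68_isSquare_emb [Fintype F₀] [Fintype F] (emb : F₀ →+* F)
    (hcard : Fintype.card F = Fintype.card F₀ ^ 2) (h2 : (2 : F) ≠ 0) (c : F₀) :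
    IsSquare (emb c) := by
  by_cases hc : c = 0
  · rw [hc, map_zero]
    exact ⟨0, by simp⟩
  have h2' : (2 : F₀) ≠ 0 := by
    intro h
    apply h2
    have h3 : emb 2 = emb 0 := congrArg emb h
    rw [map_ofNat, map_zero] at h3
    exact h3
  have hchar : ringChar F ≠ 2 := by
    intro h
    apply h2
    have h3 := CharP.cast_eq_zero F (ringChar F)
    rw [h] at h3
    exact_mod_cast h3
  have hec : emb c ≠ 0 := (map_ne_zero emb).2 hc
  rw [FiniteField.isSquare_iff hchar hec]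
  have hodd : Fintype.card F₀ % 2 = 1 := Cfsg.Agent.Lead.POmegaCard.odd_card_of_two_ne_zero h2'
  have h1 : c ^ (Fintype.card F₀ - 1) = 1 := FiniteField.pow_card_sub_one_eq_one c hc
  have hdiv : Fintype.card F / 2 = (Fintype.card F₀ - 1) * ((Fintype.card F₀ + 1) / 2) := by
    rw [hcard]
    obtain ⟨m, hm⟩ : ∃ m, Fintype.card F₀ = 2 * m + 1 := ⟨Fintype.card F₀ / 2, by omega⟩
    rw [hm]
    have e1 : (2 * m + 1) ^ 2 / 2 = 2 * m * (m + 1) := by
      have e3 : (2 * m + 1) ^ 2 = 2 * (2 * m * (m + 1)) + 1 := by ring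
      rw [e3]
      omega
    have e2 : (2 * m + 1 + 1) / 2 = m + 1 := by omega
    rw [e1, e2, Nat.add_sub_cancel]
  rw [hdiv, ← map_pow, pow_mul, h1, one_pow, map_one]

end aux

/-! (SP1) ODD characteristic: the twisted image of `SO(Q₀)` lies in `Ω(Q)`. -/
theorem tw_SO_mem_Omega {F₀ F : Type*} [Field F₀] [Fintype F₀] [Field F] [Fintype F] (emb : F₀ →+* F)
    (hcard : Fintype.card F = Fintype.card F₀ ^ 2) (h2 : (2 : F) ≠ 0) {k : ℕ} (hk : 1 ≤ k) (a₀ b₀ : F₀)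
    (hab : ∀ z₁ z₂ : F₀, z₁ ^ 2 + a₀ * z₁ * z₂ + b₀ * z₂ ^ 2 = 0 → z₁ = 0 ∧ z₂ = 0)
    (T : TwData (stdMinus F k (emb a₀) (emb b₀)) (stdPlus F (k + 1)))
    (s₀ : GL ((Fin k ⊕ Fin k) ⊕ Fin 2) F₀) (hs₀ : s₀ ∈ SOG (stdMinus F₀ k a₀ b₀)) :
    T.tw emb s₀ ∈ OmGL (⇑(stdPlus F (k + 1))) := by
  classical
  have hB : IsBC emb ⇑(stdMinus F₀ k a₀ b₀) ⇑(stdMinus F k (emb a₀) (emb b₀)) :=
    h68_isBC_stdMinus emb k a₀ b₀
  have h2' : (2 : F₀) ≠ 0 := by
    intro h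
    apply h2
    have h3 : emb 2 = emb 0 := congrArg emb h
    rw [map_ofNat, map_zero] at h3
    exact h3
  have hnd₀ : (polarBilin (stdMinus F₀ k a₀ b₀)).Nondegenerate := stdMinus_nondegenerate k hab
  have hnd : (polarBilin (stdPlus F (k + 1))).Nondegenerate := stdPlus_nondegenerate F (k + 1)
  have hodd : Fintype.card F₀ % 2 = 1 := Cfsg.Agent.Lead.POmegaCard.odd_card_of_two_ne_zero h2'
  have hiso : ∀ u, stdMinus F₀ k a₀ b₀ (s₀.1 *ᵥ u) = stdMinus F₀ k a₀ b₀ u :=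
    fun u => hs₀.1 u u
  obtain ⟨l, hl, hM⟩ := Cfsg.Agent.S0786.matrix_cd_all (stdMinus F₀ k a₀ b₀) hnd₀
    (Or.inl (by omega)) s₀.1 hiso
  have hdet : s₀.1.det = 1 := by
    have h3 := hs₀.2
    have h4 := congrArg (fun u : F₀ˣ => (u : F₀)) (MonoidHom.mem_ker.mp h3)
    exact h4
  have heven : Even l.length := by
    have h4 : ((l.map (Cfsg.reflectionMatrix (⇑(stdMinus F₀ k a₀ b₀)))).prod).det =
        (-1) ^ l.length := det_list_reflection (stdMinus F₀ k a₀ b₀) l hl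
    rw [← hM, hdet] at h4
    have hne : (-1 : F₀) ≠ 1 := by
      intro h
      apply h2'
      have e : (2 : F₀) = 1 - (-1) := by ring
      rw [e, h, sub_self]
    exact (neg_one_pow_eq_one_iff_even hne).1 h4.symm
  set vs : List (Fin (k + 1) ⊕ Fin (k + 1) → F) := l.map (fun w => T.H *ᵥ mapV emb w) with hvsdef
  have hQv : ∀ w : (Fin k ⊕ Fin k) ⊕ Fin 2 → F₀,
      stdPlus F (k + 1) (T.H *ᵥ mapV emb w) = emb (stdMinus F₀ k a₀ b₀ w) := by
    intro w
    rw [T.hQ, hB w]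
  have hvs : ∀ v ∈ vs, stdPlus F (k + 1) v ≠ 0 := by
    intro v hv
    obtain ⟨w, hw, rfl⟩ := List.mem_map.1 hv
    rw [hQv]
    exact (map_ne_zero emb).2 (hl w hw)
  set g : ↥(Cfsg.isometryGroup F ⇑(stdPlus F (k + 1))) :=
    (vs.map (reflIso' (stdPlus F (k + 1)))).prod with hgdef
  have hg : (g : GL (Fin (k + 1) ⊕ Fin (k + 1)) F).1 =
      (vs.map (fun v => Cfsg.reflectionMatrix (⇑(stdPlus F (k + 1))) v)).prod := by
    rw [← coeMatHom_apply (stdPlus F (k + 1)) g, hgdef, map_list_prod, List.map_map]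
    congr 1
    apply List.map_congr_left
    intro v hv
    rw [Function.comp_apply, coeMatHom_apply, reflIso'_coe (stdPlus F (k + 1)) (hvs v hv)]
  have hsq : IsSquare (vs.map (fun v => stdPlus F (k + 1) v)).prod := by
    apply h68_isSquare_list_prod
    intro x hx
    obtain ⟨v, hv, rfl⟩ := List.mem_map.1 hx
    obtain ⟨w, hw, rfl⟩ := List.mem_map.1 hv
    rw [hQv]
    exact h68_isSquare_emb emb hcard h2 _
  have hΩ : g ∈ Cfsg.Omega F ⇑(stdPlus F (k + 1)) :=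
    (mem_Omega_iff_of_list_all (stdPlus F (k + 1)) h2 hnd g vs hvs hg).2
      ⟨by rw [hvsdef, List.length_map]; exact heven, hsq⟩
  refine (mem_OmGL _ _).2 ⟨⟨g, hΩ⟩, ?_⟩
  apply Units.ext
  show (g : GL (Fin (k + 1) ⊕ Fin (k + 1)) F).1 = _
  rw [hg, T.tw_coe, hM, h68_tw_list emb hB T l]

end Cfsg.Agent.Helper68.GF
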