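import Mathlib
import Cfsg.Prelude.Def_OddOrder
import Cfsg.Prelude.Def_OddOrderLocal
import Cfsg.Agent.S1415
import Cfsg.Agent.S1427
import Cfsg.Agent.S1428
import Cfsg.Agent.Lib.Helper79.BG10.Conj

/-!
# BG 13.9 request (R7): the Hall `τ₁(M)`-subgroup of a complement `E` acts in a prime manner on `M_σ`
(from S1415: `E₁` cyclic, S1427: cyclic Sylow subgroups of `E` act in a prime manner, S1428).
-/

set_option autoImplicit false

namespace Cfsg.Agent.Helper68.BG139Req

open Subgroup Cfsg.Agent.Helper16 Cfsg.Agent.Helper79.BG10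

variable {G : Type*} [Group G] [Finite G]

/-- a subgroup `K` lies in `H` as soon as, for every prime `r` dividing `|K|`, some subgroup of `K`
of order the full `r`-part of `|K|` lies in `H` -/
theorem le_of_forall_sylow_le {K H : Subgroup G}
    (h : ∀ r : ℕ, r.Prime → r ∣ Nat.card K → ∃ T : Subgroup G, T ≤ K ∧
      Nat.card T = r ^ (Nat.card K).factorization r ∧ T ≤ H) : K ≤ H := by
  have hdvd : Nat.card K ∣ Nat.card (K ⊓ H : Subgroup G) := by
    rw [← Nat.factorization_le_iff_dvd Nat.card_pos.ne' Nat.card_pos.ne', Finsupp.le_def]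
    intro r
    by_cases hr : r.Prime
    · by_cases hrK : r ∣ Nat.card K
      · obtain ⟨T, hTK, hTc, hTH⟩ := h r hr hrK
        have h1 : r ^ (Nat.card K).factorization r ∣ Nat.card (K ⊓ H : Subgroup G) := by
          rw [← hTc]; exact Subgroup.card_dvd_of_le (le_inf hTK hTH)
        exact (hr.pow_dvd_iff_le_factorization Nat.card_pos.ne').mp h1
      · rw [Nat.factorization_eq_zero_of_not_dvd hrK]; exact Nat.zero_le _
    · rw [Nat.factorization_eq_zero_of_not_prime _ hr]; exact Nat.zero_le _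
  have hle : Nat.card K ≤ Nat.card (K ⊓ H : Subgroup G) := Nat.le_of_dvd Nat.card_pos hdvd
  have h2 : (K ⊓ H : Subgroup G) = K := Subgroup.eq_of_le_of_card_ge inf_le_left hle
  rw [← h2]; exact inf_le_right

/-- elements of a cyclic subgroup commute -/
theorem commute_of_isCyclic {E1 : Subgroup G} (hc : IsCyclic E1) {a b : G} (ha : a ∈ E1)
    (hb : b ∈ E1) : a * b = b * a := by
  obtain ⟨⟨g, hg⟩, hgen⟩ := hc.exists_generator
  obtain ⟨i, hi⟩ := mem_zpowers_iff.mp (hgen ⟨a, ha⟩)
  obtain ⟨j, hj⟩ := mem_zpowers_iff.mp (hgen ⟨b, hb⟩)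
  have hi' : g ^ i = a := by simpa using congrArg Subtype.val hi
  have hj' : g ^ j = b := by simpa using congrArg Subtype.val hj
  rw [← hi', ← hj', ← zpow_add, ← zpow_add, add_comm]

/-- (R7) prime action of the Hall `τ₁`-subgroup. -/
theorem prime_action_tau1 {G : Type*} [Group G] [Finite G] (hG : Cfsg.IsMinSimpleOddOrder G)
    (M : Subgroup G) (hM : IsCoatom M) (E : Subgroup G) (hE : Cfsg.IsComplIn E (Cfsg.sigmaCore M) M)
    (E1 : Subgroup G) (hE1 : Cfsg.IsPiHallOf (Cfsg.tau1 M) E1 E) (x : G) (hx : x ∈ E1) (hx1 : x ≠ 1) :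
    Cfsg.sigmaCore M ⊓ Subgroup.centralizer ({x} : Set G) ≤
      Cfsg.sigmaCore M ⊓ Subgroup.centralizer (E1 : Set G) := by
  classical
  have hcyc : IsCyclic E1 := (Cfsg.Agent.S1415.result hG M hM E hE).2.1 E1 hE1
  obtain ⟨hE1E, hE1π, hE1idx⟩ := hE1
  -- a prime `p` dividing the order of `x`
  have ho1 : orderOf x ≠ 1 := fun h => hx1 (orderOf_eq_one_iff.mp h)
  obtain ⟨p, hp, hpx⟩ := Nat.exists_prime_and_dvd ho1
  have hpE1 : p ∣ Nat.card E1 := hpx.trans (Subgroup.orderOf_dvd_natCard E1 hx)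
  have hpτ : p ∈ Cfsg.tau1 M := hE1π p hp hpE1
  have ho0 : orderOf x ≠ 0 := (orderOf_pos x).ne'
  set z : G := x ^ (orderOf x / p) with hz
  have hzo : orderOf z = p := orderOf_pow_orderOf_div ho0 hpx
  have hzE1 : z ∈ E1 := pow_mem hx _
  have hPcard : Nat.card (zpowers z) = p := by rw [Nat.card_zpowers, hzo]
  have hPE1 : zpowers z ≤ E1 := by rwa [zpowers_le]
  intro y hy
  obtain ⟨hyσ, hyx⟩ := Subgroup.mem_inf.mp hy
  refine Subgroup.mem_inf.mpr ⟨hyσ, ?_⟩
  have hyx' : x * y = y * x := (Subgroup.mem_centralizer_iff.mp hyx) x rfl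
  -- `y` centralizes `P = ⟨z⟩`
  have hyP : y ∈ Cfsg.sigmaCore M ⊓ centralizer ((zpowers z : Subgroup G) : Set G) := by
    refine Subgroup.mem_inf.mpr ⟨hyσ, ?_⟩
    rw [Subgroup.mem_centralizer_iff]
    intro h hh
    obtain ⟨k, rfl⟩ := mem_zpowers_iff.mp hh
    have hc : Commute x y := hyx'
    exact ((hc.pow_left _).zpow_left k).eq
  -- it suffices that every Sylow subgroup of `E1` centralizes `y`
  have key : E1 ≤ centralizer ({y} : Set G) := by
    apply le_of_forall_sylow_le
    intro r hr hrE1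
    haveI : Fact r.Prime := ⟨hr⟩
    obtain ⟨S₁⟩ : Nonempty (Sylow r ↥E1) := inferInstance
    have hTE1syl : IsSylowIn r E1 ((S₁ : Subgroup ↥E1).map E1.subtype) := ⟨S₁, rfl⟩
    obtain ⟨T, hTdef⟩ : ∃ T : Subgroup G, T = (S₁ : Subgroup ↥E1).map E1.subtype := ⟨_, rfl⟩
    rw [← hTdef] at hTE1syl
    have hTE1 : T ≤ E1 := hTE1syl.le
    have hTcard : Nat.card T = r ^ (Nat.card E1).factorization r := hTE1syl.card
    have hrτ : r ∈ Cfsg.tau1 M := hE1π r hr hrE1
    refine ⟨T, hTE1, hTcard, ?_⟩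
    -- `T` is a Sylow `r`-subgroup of `E`
    have hfac : (Nat.card E).factorization r = (Nat.card E1).factorization r := by
      have h1 : Nat.card (E1.subgroupOf E) * (E1.subgroupOf E).index = Nat.card E :=
        Subgroup.card_mul_index _
      have h2 : Nat.card (E1.subgroupOf E) = Nat.card E1 :=
        Nat.card_congr (Subgroup.subgroupOfEquivOfLe hE1E).toEquiv
      have h3 : ¬ r ∣ (E1.subgroupOf E).index := hE1idx r hr hrτ
      rw [← h1, h2, Nat.factorization_mul Nat.card_pos.ne' Subgroup.index_ne_zero_of_finite]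
      simp [Nat.factorization_eq_zero_of_not_dvd h3]
    have hTEsyl : IsSylowIn r E T := isSylowIn_of_card (hTE1.trans hE1E) (by rw [hTcard, hfac])
    obtain ⟨S, hS⟩ := hTEsyl
    -- `T` is nontrivial and cyclic
    have hk : 1 ≤ (Nat.card E1).factorization r :=
      (hr.dvd_iff_one_le_factorization Nat.card_pos.ne').mp hrE1
    have hrT : r ∣ Nat.card T := by rw [hTcard]; exact dvd_pow_self r (by omega)
    have hT1 : T ≠ ⊥ := by
      intro h
      rw [h, Subgroup.card_bot] at hrT
      exact hr.one_lt.ne' (Nat.dvd_one.mp hrT)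
    have hS1 : (S : Subgroup ↥E) ≠ ⊥ := by
      intro h
      apply hT1
      rw [← hS, h, Subgroup.map_bot]
    haveI := hcyc
    have hcT' : IsCyclic ↥(T.subgroupOf E1) := inferInstance
    have hcT : IsCyclic ↥T :=
      isCyclic_of_surjective (Subgroup.subgroupOfEquivOfLe hTE1).toMonoidHom
        (Subgroup.subgroupOfEquivOfLe hTE1).surjective
    have hcS : IsCyclic ↥(S : Subgroup ↥E) := by
      have hcmap : IsCyclic ↥((S : Subgroup ↥E).map E.subtype) := by rw [hS]; exact hcT
      have e := Subgroup.equivMapOfInjective (S : Subgroup ↥E) E.subtype E.subtype_injective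
      exact isCyclic_of_surjective e.symm.toMonoidHom e.symm.surjective
    have h27 := Cfsg.Agent.S1427.result hG M hM E hE r S hS1 hcS
    rw [hS] at h27
    -- an element `u` of order `r` in `T`
    obtain ⟨⟨u, huT⟩, huo⟩ := exists_prime_orderOf_dvd_card' (G := ↥T) r hrT
    have huo' : orderOf u = r := by rw [← huo, Subgroup.orderOf_mk]
    have hu1 : u ≠ 1 := by
      intro h
      rw [h, orderOf_one] at huo'
      exact hr.one_lt.ne huo'
    have hRcard : Nat.card (zpowers u) = r := by rw [Nat.card_zpowers, huo']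
    have hRE : zpowers u ≤ E ⊓ centralizer ((zpowers z : Subgroup G) : Set G) := by
      rw [zpowers_le]
      refine Subgroup.mem_inf.mpr ⟨hE1E (hTE1 huT), ?_⟩
      rw [Subgroup.mem_centralizer_iff]
      intro h hh
      exact commute_of_isCyclic hcyc (hPE1 hh) (hTE1 huT)
    have h28 := Cfsg.Agent.S1428.result hG M hM E hE p hpτ (zpowers z) (hPE1.trans hE1E) hPcard
      (zpowers u) hRE (by rw [hRcard]; exact hr)
    have hyR := h28 hyP
    have hyu : y ∈ Cfsg.sigmaCore M ⊓ centralizer ({u} : Set G) := by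
      refine Subgroup.mem_inf.mpr ⟨hyσ, ?_⟩
      rw [Subgroup.mem_centralizer_iff]
      intro h hh
      rw [Set.mem_singleton_iff] at hh
      subst hh
      exact (Subgroup.mem_centralizer_iff.mp (Subgroup.mem_inf.mp hyR).2) h (mem_zpowers h)
    have hyT : y ∈ Cfsg.sigmaCore M ⊓ centralizer (T : Set G) := by
      rw [← h27 u huT hu1]; exact hyu
    intro t ht
    rw [Subgroup.mem_centralizer_iff]
    intro h hh
    rw [Set.mem_singleton_iff] at hh
    subst hh
    exact ((Subgroup.mem_centralizer_iff.mp (Subgroup.mem_inf.mp hyT).2) t ht).symm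
  rw [Subgroup.mem_centralizer_iff]
  intro e he
  have := (Subgroup.mem_centralizer_iff.mp (key he)) y rfl
  exact this.symm

end Cfsg.Agent.Helper68.BG139Req
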