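import Mathlib
import Cfsg.Agent.Lib.Helper67.BGCruxDefs
import Cfsg.Agent.Lib.Helper60.BG161C2a
import Cfsg.Agent.Lib.Helper45.BG143
import Cfsg.Agent.Lib.Helper89.BG12Tools
import Cfsg.Agent.Lib.Helper22.Radical
import Cfsg.Agent.Lib.Helper23.FittingHall

/-!
# CRUX (L8) of S1430/S1431, package (C7) = STEP B: `C(E₁) ≤ C`  (helper68 for helper67's server)

Statement verbatim from `tools/bgcrux_sigs_helper67.lean.txt`; paper proof = its docstring (B1)-(B8).
-/

set_option autoImplicit false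
set_option linter.unusedVariables false
set_option linter.style.haveILetI false
set_option linter.unusedSectionVars false

namespace Cfsg.Agent.Helper68.BGCrux

open Subgroup Cfsg
open Cfsg.Agent.Helper52 (sylCard)
open Cfsg.Agent.Helper67.BGCrux
open Cfsg.Agent.Helper79.BG10 (cj mem_cj conj_mem_cj cj_mul cj_one cj_mono cj_le_iff card_cj
  isPGroup_cj cj_eq_self_of_mem cj_eq_self_of_mem_normalizer cj_inv_cj cj_cj_inv)

variable {G : Type*} [Group G] [Finite G]

/-! ### general lemmas -/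

/-- a subgroup `K` lies in `H` as soon as, for every prime `r` dividing `|K|`, some subgroup of `K`
of order the full `r`-part of `|K|` lies in `H` -/
theorem c7_le_of_forall_sylow_le {K H : Subgroup G}
    (h : ∀ r : ℕ, r.Prime → r ∣ Nat.card K → ∃ T : Subgroup G, T ≤ K ∧
      Nat.card T = r ^ (Nat.card K).factorization r ∧ T ≤ H) : K ≤ H := by
  have hdvd : Nat.card K ∣ Nat.card (K ⊓ H : Subgroup G) := by
    rw [← Nat.factorization_le_iff_dvd Nat.card_pos.ne' Nat.card_pos.ne', Finsupp.le_def]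
    intro r
    by_cases hr : r.Prime
    · by_cases hrK : r ∣ Nat.card K
      · obtain ⟨T, hTK, hTc, hTH⟩ := h r hr hrK
        have h1 : r ^ (Nat.card K).factorization r ∣ Nat.card (K ⊓ H : Subgroup G) := by
          rw [← hTc]; exact Subgroup.card_dvd_of_le (le_inf hTK hTH)
        exact (hr.pow_dvd_iff_le_factorization Nat.card_pos.ne').mp h1
      · rw [Nat.factorization_eq_zero_of_not_dvd hrK]; exact Nat.zero_le _
    · rw [Nat.factorization_eq_zero_of_not_prime _ hr]; exact Nat.zero_le _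
  have hle : Nat.card K ≤ Nat.card (K ⊓ H : Subgroup G) := Nat.le_of_dvd Nat.card_pos hdvd
  have h2 : (K ⊓ H : Subgroup G) = K := Subgroup.eq_of_le_of_card_ge inf_le_left hle
  rw [← h2]; exact inf_le_right

/-- a subgroup of `E` whose order is coprime to the index of the normal subgroup `F` lies in `F` -/
theorem c7_le_of_coprime_relIndex {F E K : Subgroup G} (hN : E ≤ normalizer (F : Set G))
    (hKE : K ≤ E) (hcop : (Nat.card K).Coprime (F.relIndex E)) : K ≤ F := by
  haveI : (F.subgroupOf E).Normal := Subgroup.normal_subgroupOf_of_le_normalizer hN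
  intro k hk
  have hkE : k ∈ E := hKE hk
  set q : E ⧸ F.subgroupOf E := QuotientGroup.mk (⟨k, hkE⟩ : E) with hq
  have h1 : orderOf q ∣ Nat.card K := by
    have ha : orderOf q ∣ orderOf (⟨k, hkE⟩ : E) :=
      orderOf_map_dvd (QuotientGroup.mk' (F.subgroupOf E)) _
    have hb : orderOf (⟨k, hkE⟩ : E) = orderOf k := Subgroup.orderOf_mk k hkE
    have hc : orderOf k ∣ Nat.card K := by
      have := orderOf_dvd_natCard (⟨k, hk⟩ : K)
      rwa [Subgroup.orderOf_mk] at this
    exact ha.trans (hb ▸ hc)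
  have h2 : orderOf q ∣ F.relIndex E := by
    unfold Subgroup.relIndex
    rw [Subgroup.index_eq_card]
    exact orderOf_dvd_natCard q
  have h3 : orderOf q = 1 := Nat.Coprime.eq_one_of_dvd (Nat.Coprime.coprime_dvd_left h1 hcop) h2
  have h4 : q = 1 := orderOf_eq_one_iff.mp h3
  have h5 : (⟨k, hkE⟩ : E) ∈ F.subgroupOf E := (QuotientGroup.eq_one_iff _).mp h4
  exact Subgroup.mem_subgroupOf.mp h5

/-- elements of a subgroup of prime order commute -/
theorem c7_comm_of_prime_card {Y : Subgroup G} (hY : (Nat.card Y).Prime) :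
    ∀ a ∈ Y, ∀ b ∈ Y, a * b = b * a := by
  intro a ha b hb
  by_cases ha1 : a = 1
  · rw [ha1, one_mul, mul_one]
  · obtain ⟨k, hk⟩ := mem_zpowers_iff.mp
      (Cfsg.Agent.Helper60.BG161.mem_zpowers_of_prime_card hY ha ha1 b hb)
    rw [← hk]
    exact ((Commute.refl a).zpow_right k).eq

/-- a subgroup of prime order not centralizing a subgroup of prime order acts fixed-point-freely -/
theorem c7_fpf_of_prime {Z Y : Subgroup G} (hZ : (Nat.card Z).Prime) (hY : (Nat.card Y).Prime)
    (hZY : ¬ Z ≤ centralizer (Y : Set G)) {z : G} (hz : z ∈ Z) (hz1 : z ≠ 1) :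
    ∀ u ∈ Y, z * u = u * z → u = 1 := by
  intro u hu hzu
  by_contra hu1
  apply hZY
  have h1 : z ∈ centralizer (Y : Set G) := by
    apply Cfsg.Agent.Helper60.BG161.mem_centralizer_of_prime_card hY hu hu1
    rw [mem_centralizer_singleton_iff]
    exact hzu
  intro z' hz'
  obtain ⟨k, hk⟩ := mem_zpowers_iff.mp
    (Cfsg.Agent.Helper60.BG161.mem_zpowers_of_prime_card hZ hz hz1 z' hz')
  rw [← hk]
  exact Subgroup.zpow_mem _ h1 k

/-! ### complements of `M_σ` -/

theorem c7_relIndex_sigmaCore {M E : Subgroup G} (hE : IsComplIn E (sigmaCore M) M) :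
    (sigmaCore M).relIndex M = Nat.card E := by
  have hc : Nat.card M = Nat.card E * Nat.card (sigmaCore M) :=
    Cfsg.Agent.Helper23.card_of_isComplIn hE
  have h1 := Subgroup.relIndex_mul_relIndex ⊥ (sigmaCore M) M bot_le hE.2.1
  rw [Subgroup.relIndex_bot_left, Subgroup.relIndex_bot_left, hc, mul_comm] at h1
  exact Nat.eq_of_mul_eq_mul_right Nat.card_pos h1

theorem c7_not_mem_sigma_of_dvd {M E : Subgroup G}
    (hHall : IsPiHallOf (sigma M) (sigmaCore M) M) (hE : IsComplIn E (sigmaCore M) M)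
    {p : ℕ} (hp : p.Prime) (hpE : p ∣ Nat.card E) : p ∉ sigma M := fun h =>
  hHall.2.2 p hp h (by rw [c7_relIndex_sigmaCore hE]; exact hpE)

theorem c7_coprime_compl {M E : Subgroup G}
    (hHall : IsPiHallOf (sigma M) (sigmaCore M) M) (hE : IsComplIn E (sigmaCore M) M) :
    (Nat.card E).Coprime (Nat.card (sigmaCore M)) := by
  apply Nat.coprime_of_dvd
  intro k hk h1 h2
  exact c7_not_mem_sigma_of_dvd hHall hE hk h1 (hHall.2.1 k hk h2)

/-- a `σ(H)'`-subgroup of a solvable `H` lies in some complement of `H_σ` -/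
theorem c7_exists_compl_ge {H K : Subgroup G} (hsol : Group.IsSolvable H)
    (hHall : IsPiHallOf (sigma H) (sigmaCore H) H) (hKH : K ≤ H)
    (hK : ∀ p : ℕ, p.Prime → p ∣ Nat.card K → p ∉ sigma H) :
    ∃ E' : Subgroup G, IsComplIn E' (sigmaCore H) H ∧ K ≤ E' := by
  obtain ⟨E0, hE0⟩ := Cfsg.Agent.Helper55.BGB.exists_compl_sigmaCore hHall
  obtain ⟨h, hh, hle⟩ := Cfsg.Agent.Helper60.BG161.exists_conj_le_compl hsol hHall hE0 hKH hK
  refine ⟨cj h⁻¹ E0, ?_, ?_⟩
  · have h1 := Cfsg.Agent.Helper60.BG161.isComplIn_cj hE0 h⁻¹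
    rw [cj_eq_self_of_mem (inv_mem hh),
      cj_eq_self_of_mem_normalizer
        (Cfsg.Agent.Helper55.BGB.le_normalizer_sigmaCore H (inv_mem hh))] at h1
    exact h1
  · rw [← cj_le_iff]; exact hle

/-! ### (C7) Step B -/

/-- **(C7) STEP B**: `C(E₁) ≤ C`, given that `E` centralizes `C`. -/
theorem stepB (hG : IsMinSimpleOddOrder G) (rows : Rows G) (inp : Inputs G)
    {M E Y H E1 E3 : Subgroup G} {s : ℕ} (cfg : Cfg M E Y s) (es : EStruct M E E1 E3)
    (hs : HSide M E Y H s) (hEY : E ≤ normalizer (Y : Set G)) (hYE3 : Y ≤ E3)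
    (f3 : ∀ q : ℕ, q.Prime → q ∣ Nat.card ↥(sigmaCore M ⊓ centralizer (Y : Set G)) →
      q ∈ kappa H ∧ ∀ Q : Subgroup G, Q ≤ sigmaCore M ⊓ centralizer (Y : Set G) → IsPGroup q Q → IsCyclic Q)
    (hA : E ≤ centralizer ((sigmaCore M ⊓ centralizer (Y : Set G) : Subgroup G) : Set G))
    (hC1 : ∀ M' E' : Subgroup G, IsCoatom M' → IsComplIn E' (sigmaCore M') M' → tau2 M' = ∅ →
      ∃ F1 F3 : Subgroup G, EStruct M' E' F1 F3)
    (hF : ∀ {p q r : ℕ}, p.Prime → q.Prime → r.Prime → p ≠ 2 → q ≠ 2 → p ≠ q → p ≠ r → q ≠ r →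
      ∀ (S K : Subgroup G) (x : G), IsPGroup p S → IsPGroup q K → (∀ a ∈ K, ∀ b ∈ K, a * b = b * a) →
      K ≤ normalizer (S : Set G) → x ∈ normalizer (S : Set G) → x ∈ normalizer (K : Set G) → x ^ r = 1 →
      (∀ u ∈ K, x * u = u * x → u = 1) → S ⊓ centralizer ({x} : Set G) ≤ centralizer (K : Set G) →
      S ≤ centralizer (K : Set G)) :
    sigmaCore M ⊓ centralizer (E1 : Set G) ≤ sigmaCore M ⊓ centralizer (Y : Set G) := by
  classical
  have hM := cfg.hM
  have hE := cfg.hE
  have hHallM : IsPiHallOf (sigma M) (sigmaCore M) M := (rows.r1350 M hM).1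
  have hHallH : IsPiHallOf (sigma H) (sigmaCore H) H := (rows.r1350 H hs.hH).1
  have hsP : s.Prime := cfg.hs.1
  have hsσ : s ∉ sigma M := cfg.hs.2.1
  have hYP : (Nat.card Y).Prime := by rw [cfg.hY]; exact hsP
  have hEM : E ≤ M := hE.1
  have hMsM : sigmaCore M ≤ M := hE.2.1
  by_cases hall : ∀ Z : Subgroup G, Z ≤ E1 → (Nat.card Z).Prime → Z ≤ centralizer (Y : Set G)
  · -- every subgroup of prime order of `E1` centralizes `Y`
    have hE1ne : E1 ≠ ⊥ := by
      intro h0
      have hYbot : Y ≤ E3 ⊓ centralizer (E1 : Set G) := by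
        refine le_inf hYE3 ?_
        intro y _
        rw [mem_centralizer_iff]
        intro e he
        have he' : e ∈ E1 := he
        rw [h0, Subgroup.mem_bot] at he'
        rw [he', one_mul, mul_one]
      rw [es.fpf, le_bot_iff] at hYbot
      rw [hYbot, Subgroup.card_bot] at hYP
      exact Nat.not_prime_one hYP
    have hcard1 : Nat.card E1 ≠ 1 := fun h => hE1ne (Subgroup.card_eq_one.mp h)
    obtain ⟨t, ht, htdvd⟩ := Nat.exists_prime_and_dvd hcard1
    haveI := Fact.mk ht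
    obtain ⟨x, hx⟩ := exists_prime_orderOf_dvd_card' (G := E1) t htdvd
    have hZcard : Nat.card (zpowers (x : G)) = t := by
      rw [Nat.card_zpowers, Subgroup.orderOf_coe, hx]
    have hZE1 : zpowers (x : G) ≤ E1 := (zpowers_le).2 x.2
    have hZE : zpowers (x : G) ≤ E := hZE1.trans es.hE1.1
    have htτ : t ∈ tau1 M := es.hE1.2.1 t ht htdvd
    have hZc : zpowers (x : G) ≤ centralizer (Y : Set G) := hall _ hZE1 (by rw [hZcard]; exact ht)
    have key := inp.s1428 M hM E hE t htτ (zpowers (x : G)) hZE hZcard Y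
      (le_inf cfg.hYE (Subgroup.le_centralizer_iff.mp hZc)) hYP
    exact (inf_le_inf_left _ (Subgroup.centralizer_le hZE1)).trans key
  · exfalso
    push Not at hall
    obtain ⟨Z, hZE1, hZP, hZY⟩ := hall
    obtain ⟨t, hZcard⟩ : ∃ t : ℕ, Nat.card Z = t := ⟨_, rfl⟩
    have ht : t.Prime := hZcard ▸ hZP
    haveI := Fact.mk ht
    haveI := Fact.mk hsP
    have hZE : Z ≤ E := hZE1.trans es.hE1.1
    have hZM : Z ≤ M := hZE.trans hEM
    have hZH : Z ≤ H := hZE.trans hs.hEH
    have htτ : t ∈ tau1 M := es.hE1.2.1 t ht (hZcard ▸ Subgroup.card_dvd_of_le hZE1)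
    have htσ : t ∉ sigma M := htτ.2.1
    have hZne : Z ≠ ⊥ := by
      intro h0
      rw [h0, Subgroup.card_bot] at hZP
      exact Nat.not_prime_one hZP
    obtain ⟨z, hz, hz1⟩ : ∃ z ∈ Z, z ≠ 1 := by
      by_contra hcon
      push Not at hcon
      exact hZne ((Subgroup.eq_bot_iff_forall _).2 hcon)
    have hzt : z ^ t = 1 := by
      have h1 : (⟨z, hz⟩ : Z) ^ Nat.card Z = 1 := pow_card_eq_one'
      have h2 : (((⟨z, hz⟩ : Z) ^ Nat.card Z : Z) : G) = ((1 : Z) : G) := congrArg Subtype.val h1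
      rw [Subgroup.coe_pow, Subgroup.coe_one, hZcard] at h2
      exact h2
    have hfpf := c7_fpf_of_prime hZP hYP hZY hz hz1
    have hZp : IsPGroup t Z := IsPGroup.of_card (n := 1) (by rw [hZcard, pow_one])
    have hYp : IsPGroup s Y := IsPGroup.of_card (n := 1) (by rw [cfg.hY, pow_one])
    have hYne : Y ≠ ⊥ := by
      intro h0
      rw [h0, Subgroup.card_bot] at hYP
      exact Nat.not_prime_one hYP
    -- the subgroup `C`
    set C : Subgroup G := sigmaCore M ⊓ centralizer (Y : Set G) with hCdef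
    have hCMs : C ≤ sigmaCore M := inf_le_left
    have hCH : C ≤ H := by
      have : C = sigmaCore M ⊓ H := hs.hMsH.symm
      rw [this]; exact inf_le_right
    have hZcC : Z ≤ centralizer (C : Set G) := hZE.trans hA
    have hCcZ : C ≤ centralizer (Z : Set G) := Subgroup.le_centralizer_iff.mp hZcC
    -- (B1)
    have hYMs : ¬ sigmaCore M ≤ centralizer (Y : Set G) := by
      intro hle
      have hMsH : sigmaCore M ≤ H := by
        have h1 : sigmaCore M ≤ sigmaCore M ⊓ centralizer (Y : Set G) := le_inf le_rfl hle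
        rw [← hs.hMsH] at h1
        exact h1.trans inf_le_right
      have hMH : M ≤ H := by
        intro m hm
        obtain ⟨a, ha, b, hb, rfl⟩ := hE.2.2.2 m hm
        exact H.mul_mem (hs.hEH ha) (hMsH hb)
      have hHM : H = M := (hM.le_iff_eq hs.hH.1).mp hMH
      exact hs.hnc 1 (by rw [hHM]; exact (cj_one M).symm)
    have hB1 : ¬ (sigmaCore M ⊓ centralizer (Z : Set G) ≤ C) := by
      intro hle
      apply hYMs
      have hYZN : Y ⊔ Z ≤ normalizer ((sigmaCore M : Subgroup G) : Set G) :=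
        (sup_le cfg.hYE hZE).trans (hEM.trans (Cfsg.Agent.Helper55.BGB.le_normalizer_sigmaCore M))
      have hcop : (Nat.card (Y ⊔ Z : Subgroup G)).Coprime (Nat.card (sigmaCore M)) :=
        Nat.Coprime.coprime_dvd_left (Subgroup.card_dvd_of_le (sup_le cfg.hYE hZE))
          (c7_coprime_compl hHallM hE)
      have hMsne : sigmaCore M ≠ ⊤ := ne_top_of_le_ne_top hM.1 hMsM
      have hsolv : Group.IsSolvable (Y ⊔ Z : Subgroup G) ∨ Group.IsSolvable (sigmaCore M) :=
        Or.inr (Cfsg.Agent.Helper34.BG.solvable_of_ne_top hG hMsne)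
      apply c7_le_of_forall_sylow_le
      intro p hp hpdvd
      haveI := Fact.mk hp
      obtain ⟨S, hSMs, hSc, hSN⟩ :=
        Cfsg.Agent.Helper52.exists_invariant_sylow (Y ⊔ Z) (sigmaCore M) hYZN hcop hsolv p
      refine ⟨S, hSMs, hSc, ?_⟩
      have hSp : IsPGroup p S := IsPGroup.of_card hSc
      by_cases hS1 : S = ⊥
      · rw [hS1]; exact bot_le
      have hpS : p ∣ Nat.card S := by
        rcases hSp.card_eq_or_dvd with h | h
        · exact absurd (Subgroup.card_eq_one.mp h) hS1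
        · exact h
      have hpσ : p ∈ sigma M := hHallM.2.1 p hp (hpS.trans (Subgroup.card_dvd_of_le hSMs))
      have hp2 : p ≠ 2 := Cfsg.Agent.Helper34.BG.prime_ne_two hG S hpS
      have hs2 : s ≠ 2 := Cfsg.Agent.Helper34.BG.prime_ne_two hG Y (by rw [cfg.hY])
      have hps : p ≠ s := fun h => hsσ (h ▸ hpσ)
      have hpt : p ≠ t := fun h => htσ (h ▸ hpσ)
      have hst : s ≠ t := fun h => htτ.2.2.2.1 (h ▸ cfg.hs.2.2.1)
      apply hF hp hsP ht hp2 hs2 hps hpt hst S Y z hSp hYp (c7_comm_of_prime_card hYP)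
        (le_sup_left.trans hSN) (hSN (le_sup_right (a := Y) hz)) (hEY (hZE hz)) hzt hfpf
      intro g hg
      have hgZ : g ∈ centralizer (Z : Set G) :=
        Cfsg.Agent.Helper60.BG161.mem_centralizer_of_prime_card hZP hz hz1 hg.2
      exact (hle ⟨hSMs hg.1, hgZ⟩).2
    -- (B2)
    have hCZ : C ≤ sigmaCore M ⊓ centralizer (Z : Set G) := le_inf hCMs hCcZ
    have hCZne : sigmaCore M ⊓ centralizer (Z : Set G) ≠ ⊥ := ne_bot_of_le_ne_bot cfg.hC hCZ
    have hZtop : Z ≠ ⊤ := ne_top_of_le_ne_top hM.1 hZM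
    obtain ⟨L, hL, hNL⟩ := Cfsg.Agent.Helper34.BG.exists_coatom_ge
      (Cfsg.Agent.Helper34.BG.normalizer_ne_top hG hZne hZtop)
    have hZLσ : Z ≤ sigmaCore L :=
      inp.l6 M hM t ht htσ htτ.2.2.2.2 Z hZM hZcard hCZne L hL hNL
    have htL : t ∈ sigma L :=
      (rows.r1350 L hL).1.2.1 t ht (hZcard ▸ Subgroup.card_dvd_of_le hZLσ)
    have hZL : Z ≤ L := le_normalizer.trans hNL
    -- (B3)
    have htH : t ∉ sigma H := by
      intro htH
      obtain ⟨g, hg⟩ := inp.sp H L hs.hH hL ⟨t, htH, htL⟩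
      have hg' : L = cj g H := hg
      have h1 : cj g⁻¹ Z ≤ H := by
        rw [cj_le_iff, inv_inv, ← hg']; exact hZL
      obtain ⟨m, hm, c, hc, hmc⟩ := (rows.r1404 H hs.hH t htH Z hZp hZne hZH).1 g⁻¹ h1
      have hcL : c ∈ L := hNL (Subgroup.centralizer_le_normalizer _ hc)
      have hgeq : g = c⁻¹ * m⁻¹ := by
        rw [← inv_inv g, hmc, mul_inv_rev]
      have hLH : L = H := by
        have h2 : L = cj c⁻¹ H := by
          rw [hg', hgeq, cj_mul, cj_eq_self_of_mem (inv_mem hm)]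
        have h3 : cj c L = H := by rw [h2, cj_cj_inv]
        rw [cj_eq_self_of_mem hcL] at h3
        exact h3
      apply hB1
      intro x hx
      have hxH : x ∈ H := by
        rw [← hLH]; exact hNL (Subgroup.centralizer_le_normalizer _ hx.2)
      have hx2 : x ∈ sigmaCore M ⊓ H := ⟨hx.1, hxH⟩
      rw [hs.hMsH] at hx2
      exact hx2
    -- (B4)
    have hZNC : Z ≤ normalizer (C : Set G) := hZcC.trans (Subgroup.centralizer_le_normalizer _)
    have hKσ : ∀ p' : ℕ, p'.Prime → p' ∣ Nat.card (C ⊔ Z : Subgroup G) → p' ∉ sigma H := by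
      intro p' hp' hdvd
      have h1 : p' ∣ Nat.card Z * Nat.card C := by
        rw [sup_comm] at hdvd
        exact hdvd.trans (Cfsg.Agent.Helper22.card_sup_dvd_of_le_normalizer hZNC)
      rcases (Nat.Prime.dvd_mul hp').1 h1 with h | h
      · have h2 : p' = t := (Nat.prime_dvd_prime_iff_eq hp' ht).1 (hZcard ▸ h)
        rw [h2]; exact htH
      · exact hs.hdisj p' (hHallM.2.1 p' hp' (h.trans (Subgroup.card_dvd_of_le hCMs)))
    have hsolH : Group.IsSolvable H := Cfsg.Agent.Helper34.BG.solvable_of_ne_top hG hs.hH.1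
    obtain ⟨EH, hEH, hKEH⟩ := c7_exists_compl_ge hsolH hHallH (sup_le hCH hZH) hKσ
    have hCEH : C ≤ EH := le_sup_left.trans hKEH
    have hZEH : Z ≤ EH := le_sup_right.trans hKEH
    -- (B5)
    have hCcomm : C ≤ ⁅sigmaCore M, sigmaCore M⁆ := by
      intro c hc
      have hcE : c ∈ centralizer (E : Set G) := by
        rw [mem_centralizer_iff]
        intro e he
        exact ((mem_centralizer_iff.mp (hA he)) c hc).symm
      exact (rows.r1426 M hM E hE).1 (Subgroup.mem_inf.mpr ⟨hCMs hc, hcE⟩)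
    have hNX : ∀ X : Subgroup G, X ≤ C → ∀ q : ℕ, q.Prime → Nat.card X = q →
        normalizer (X : Set G) ≤ M := by
      intro X hXC q hq hXq
      haveI := Fact.mk hq
      have hqσ : q ∈ sigma M :=
        hHallM.2.1 q hq (hXq ▸ Subgroup.card_dvd_of_le (hXC.trans hCMs))
      have hXM : X ≤ M := hXC.trans (hCMs.trans hMsM)
      obtain ⟨P⟩ : Nonempty (Sylow q ↥(sigmaCore M)) := inferInstance
      have h23 := (rows.r1423 M hM q hqσ X hXM hXq P (Or.inr (hXC.trans hCcomm))).1.1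
      have hXp : IsPGroup q X := IsPGroup.of_card (n := 1) (by rw [hXq, pow_one])
      have hX1 : X ≠ ⊥ := by
        intro h0
        rw [h0, Subgroup.card_bot] at hXq
        exact Nat.not_prime_one (hXq ▸ hq)
      rw [(rows.r1404 M hM q hqσ X hXp hX1 hXM).2]
      exact sup_le inf_le_left h23
    -- (B6), (B7)
    have hprimes : ∀ q : ℕ, q.Prime → q ∣ Nat.card C → q ∈ tau3 H := by
      intro q hq hqC
      haveI := Fact.mk hq
      obtain ⟨x, hx⟩ := exists_prime_orderOf_dvd_card' (G := C) q hqC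
      have hXq : Nat.card (zpowers (x : G)) = q := by
        rw [Nat.card_zpowers, Subgroup.orderOf_coe, hx]
      have hXC : zpowers (x : G) ≤ C := (zpowers_le).2 x.2
      have hκ : q ∈ kappa H := (f3 q hq hqC).1
      have hrk : PRankLE q 1 H := Cfsg.Agent.Helper45.BG143.pRankLE_one_of_kappa hκ
      have hnot1 : q ∉ tau1 H := by
        intro hτ1
        have hZX : Z ≤ centralizer ((zpowers (x : G) : Subgroup G) : Set G) :=
          hZcC.trans (Subgroup.centralizer_le hXC)
        have key := inp.s1428 H hs.hH EH hEH q hτ1 (zpowers (x : G)) (hXC.trans hCEH) hXq Z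
          (le_inf hZEH hZX) hZP
        have hYX : Y ≤ centralizer ((zpowers (x : G) : Subgroup G) : Set G) :=
          Subgroup.le_centralizer_iff.mp (hXC.trans inf_le_right)
        have hY2 : Y ≤ centralizer (Z : Set G) :=
          ((le_inf hs.hYσ hYX).trans key).trans inf_le_right
        exact hZY (Subgroup.le_centralizer_iff.mp hY2)
      refine ⟨hq, hκ.2.2.1, ?_, hrk⟩
      by_contra hnd
      exact hnot1 ⟨hq, hκ.2.2.1, hκ.2.1, hnd, hrk⟩
    -- a subgroup `X0 ≤ C` of prime order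
    have hCcard1 : Nat.card C ≠ 1 := fun h => cfg.hC (Subgroup.card_eq_one.mp h)
    obtain ⟨q0, hq0, hq0C⟩ := Nat.exists_prime_and_dvd hCcard1
    haveI := Fact.mk hq0
    obtain ⟨x0, hx0⟩ := exists_prime_orderOf_dvd_card' (G := C) q0 hq0C
    set X0 : Subgroup G := zpowers (x0 : G) with hX0def
    have hX0q : Nat.card X0 = q0 := by
      rw [hX0def, Nat.card_zpowers, Subgroup.orderOf_coe, hx0]
    have hX0C : X0 ≤ C := (zpowers_le).2 x0.2
    have hYX0 : Y ≤ centralizer (X0 : Set G) :=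
      Subgroup.le_centralizer_iff.mp (hX0C.trans inf_le_right)
    have hne0 : sigmaCore H ⊓ centralizer (X0 : Set G) ≠ ⊥ :=
      ne_bot_of_le_ne_bot hYne (le_inf hs.hYσ hYX0)
    have hτ2H : tau2 H = ∅ :=
      inp.q5 H hs.hH EH hEH q0 (hprimes q0 hq0 hq0C) X0 (hX0C.trans hCEH) hX0q hne0
    obtain ⟨F1, F3, esH⟩ := hC1 H EH hs.hH hEH hτ2H
    have hCF3 : C ≤ F3 := by
      apply c7_le_of_coprime_relIndex esH.norm3 hCEH
      apply Nat.coprime_of_dvd
      intro k hk h1 h2
      exact esH.hE3.2.2 k hk (hprimes k hk h1) h2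
    -- (B8)
    have hX0F3 : X0 ≤ F3 := hX0C.trans hCF3
    have hEHN : EH ≤ normalizer (X0 : Set G) :=
      esH.norm3.trans
        (Cfsg.Agent.Helper89.BG12.normalizer_le_normalizer_of_le_cyclic esH.cyc3 hX0F3)
    have hEHM : EH ≤ M := hEHN.trans (hNX X0 hX0C q0 hq0 hX0q)
    have hEHle : EH ≤ C ⊔ E := by
      have h1 : EH ≤ M ⊓ H := le_inf hEHM hEH.1
      rw [hs.hMH] at h1
      exact h1
    have hCX0 : C ≤ centralizer (X0 : Set G) := by
      intro c hc
      rw [mem_centralizer_iff]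
      intro x hx
      have hcyc := esH.cyc3
      obtain ⟨⟨g, hg⟩, hgen⟩ := hcyc.exists_generator
      obtain ⟨i, hi⟩ := mem_zpowers_iff.mp (hgen ⟨c, hCF3 hc⟩)
      obtain ⟨j, hj⟩ := mem_zpowers_iff.mp (hgen ⟨x, hX0F3 hx⟩)
      have hi' : g ^ i = c := by simpa using congrArg Subtype.val hi
      have hj' : g ^ j = x := by simpa using congrArg Subtype.val hj
      rw [← hi', ← hj', ← zpow_add, ← zpow_add, add_comm]
    have hEX0 : E ≤ centralizer (X0 : Set G) := hA.trans (Subgroup.centralizer_le hX0C)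
    have hEHc : EH ≤ centralizer (X0 : Set G) := hEHle.trans (sup_le hCX0 hEX0)
    have hF1 : F1 ≤ centralizer (X0 : Set G) := esH.hE1.1.trans hEHc
    have hX0bot : X0 ≤ F3 ⊓ centralizer (F1 : Set G) :=
      le_inf hX0F3 (Subgroup.le_centralizer_iff.mp hF1)
    rw [esH.fpf, le_bot_iff] at hX0bot
    rw [hX0bot, Subgroup.card_bot] at hX0q
    exact Nat.not_prime_one (hX0q ▸ hq0)

end Cfsg.Agent.Helper68.BGCrux
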