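import Mathlib
import Cfsg.Prelude.Def_OddOrderLocal
import Cfsg.Agent.Lib.Helper23.FittingHall

set_option autoImplicit false

/-!
# BG157 server (helper2, S1383), piece (G): every prime divisor of `#W₁` of type-P data lies in `κ(M)`.
Generalises `Cfsg.Agent.Helper68.BGTypeII.card_mem_kappa_of_typeP`.  Written by helper68.
-/

namespace Cfsg.Agent.Helper68.BG157

open Subgroup Cfsg

variable {G : Type*} [Group G] [Finite G]

theorem mem_kappa_of_typeP {M W₁ U' W₂ : Subgroup G} (hP : IsTypePWith M W₁ U' W₂)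
    (hσ : IsPiHallOf (sigma M) (sigmaCore M) M) (hσD : sigmaCore M ≤ ⁅M, M⁆)
    (hFσ : fittingHallOf M ≤ sigmaCore M) (q : ℕ) (hq : q.Prime) (hqW : q ∣ Nat.card W₁) :
    q ∈ kappa M := by
  classical
  have : Fact q.Prime := ⟨hq⟩
  obtain ⟨hDM, hWM, hDW, hprod⟩ := hP.W₁_compl
  have hcard : Nat.card M = Nat.card ↥⁅M, M⁆ * Nat.card W₁ :=
    Cfsg.Agent.Helper23.card_of_isComplIn hP.W₁_compl
  have hqM : q ∣ Nat.card M := hqW.trans (Dvd.intro_left _ hcard.symm)
  have hrel : (⁅M, M⁆ : Subgroup G).relIndex M = Nat.card W₁ := by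
    have h1 := Subgroup.relIndex_mul_relIndex ⊥ ⁅M, M⁆ M bot_le hDM
    rw [Subgroup.relIndex_bot_left, Subgroup.relIndex_bot_left] at h1
    have hpos : 0 < Nat.card ↥⁅M, M⁆ := Nat.card_pos
    rw [hcard] at h1
    exact Nat.eq_of_mul_eq_mul_left hpos h1
  rw [kappa, Set.mem_ofPred_eq]
  refine ⟨hq, hqM, ?_, ?_⟩
  · intro hqσ
    apply hσ.2.2 _ hq hqσ
    rw [← Subgroup.relIndex_mul_relIndex (sigmaCore M) ⁅M, M⁆ M hσD hDM, hrel]
    exact hqW.mul_left _
  · -- an element of order `q` in `W₁` and a Sylow `q`-subgroup of `W₁` containing it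
    obtain ⟨w₀, hw₀⟩ := exists_prime_orderOf_dvd_card' q hqW
    have hzp : IsPGroup q (Subgroup.zpowers w₀) :=
      IsPGroup.of_card (n := 1) (by rw [Nat.card_zpowers, hw₀, pow_one])
    obtain ⟨Q₀, hQ₀⟩ := hzp.exists_le_sylow
    have hw₀Q : w₀ ∈ (Q₀ : Subgroup W₁) := hQ₀ (Subgroup.mem_zpowers w₀)
    have hw₀1 : w₀ ≠ 1 := by
      intro h
      rw [h, orderOf_one] at hw₀
      exact hq.one_lt.ne hw₀
    set Q : Subgroup G := (Q₀ : Subgroup W₁).map W₁.subtype with hQdef
    have hQW : Q ≤ W₁ := Subgroup.map_subtype_le _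
    have hXp : IsPGroup q (Q.subgroupOf M) := (Q₀.2.map W₁.subtype).comap_subtype
    have hidx : ¬ q ∣ (Q.subgroupOf M).index := by
      have h1 : Q.relIndex W₁ * W₁.relIndex M = Q.relIndex M :=
        Subgroup.relIndex_mul_relIndex Q W₁ M hQW hWM
      have h2 : Q.relIndex W₁ = (Q₀ : Subgroup W₁).index := by
        show (Q.subgroupOf W₁).index = _
        rw [hQdef]
        congr 1
        exact Subgroup.comap_map_eq_self_of_injective W₁.subtype_injective _
      have h3 : ¬ q ∣ Q.relIndex W₁ := by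
        rw [h2]
        exact Q₀.not_dvd_index
      have h4 : ¬ q ∣ W₁.relIndex M := by
        have hc : (Nat.card W₁).Coprime (W₁.relIndex M) := hP.W₁_hall
        exact (Nat.Prime.coprime_iff_not_dvd hq).1 (Nat.Coprime.coprime_dvd_left hqW hc)
      show ¬ q ∣ Q.relIndex M
      rw [← h1]
      intro h5
      rcases (Nat.Prime.dvd_mul hq).1 h5 with h6 | h6
      · exact h3 h6
      · exact h4 h6
    let S : Sylow q M := hXp.toSylow hidx
    -- `S` is cyclic
    have hcycY : IsCyclic (W₁.subgroupOf M) := by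
      have := hP.W₁_cyclic
      exact (Subgroup.subgroupOfEquivOfLe hWM).isCyclic.2 inferInstance
    have hXY : Q.subgroupOf M ≤ W₁.subgroupOf M := Subgroup.subgroupOf_mono M hQW
    have hcycX : IsCyclic (Q.subgroupOf M) := by
      have := hcycY
      have h1 : IsCyclic ((Q.subgroupOf M).subgroupOf (W₁.subgroupOf M)) := inferInstance
      exact (Subgroup.subgroupOfEquivOfLe hXY).isCyclic.1 h1
    -- the elements
    have hw : (w₀ : G) ∈ W₁ := w₀.2
    have hw1 : (w₀ : G) ≠ 1 := fun h => hw₀1 (Subtype.ext h)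
    obtain ⟨-, hW2ne, -⟩ := hP.selfNormalizing
    obtain ⟨z, hz, hz1⟩ : ∃ z ∈ W₂, z ≠ 1 := by
      by_contra hcon
      push Not at hcon
      exact hW2ne ((Subgroup.eq_bot_iff_forall _).2 hcon)
    have hzc : z ∈ ⁅M, M⁆ ⊓ Subgroup.centralizer ({(w₀ : G)} : Set G) := by
      rw [hP.W₂_centralizer (w₀ : G) hw hw1]
      exact hz
    have hwz : (w₀ : G) * z = z * (w₀ : G) := (Subgroup.mem_centralizer_iff.1 hzc.2) _ rfl
    have hzσ : z ∈ sigmaCore M := hFσ ((hP.W₂_le hz).1)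
    have hwS : (⟨(w₀ : G), hWM hw⟩ : M) ∈ (S : Subgroup M) := by
      show (⟨(w₀ : G), hWM hw⟩ : M) ∈ Q.subgroupOf M
      rw [Subgroup.mem_subgroupOf]
      exact Subgroup.mem_map.2 ⟨w₀, hw₀Q, rfl⟩
    intro P
    obtain ⟨m, hm⟩ := MulAction.exists_smul_eq M S P
    constructor
    · rw [← hm]
      exact (Sylow.equivSMul S m).isCyclic.1 hcycX
    · refine ⟨m * ⟨(w₀ : G), hWM hw⟩ * m⁻¹, ?_, ?_, (m : G) * z * (m : G)⁻¹, ?_, ?_, ?_⟩
      · rw [← hm, Sylow.coe_subgroup_smul]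
        have h3 := Subgroup.smul_mem_pointwise_smul (⟨(w₀ : G), hWM hw⟩ : M) (MulAut.conj m)
          (S : Subgroup M) hwS
        rwa [MulAut.smul_def, MulAut.conj_apply] at h3
      · intro h1
        rw [conj_eq_one_iff] at h1
        exact hw1 (congrArg Subtype.val h1)
      · obtain ⟨z', hz', rfl⟩ := Subgroup.mem_map.1 hzσ
        refine Subgroup.mem_map.2 ⟨m * z' * m⁻¹,
          (piCore_normal (sigma M) M).conj_mem z' hz' m, ?_⟩
        simp
      · intro h1
        rw [conj_eq_one_iff] at h1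
        exact hz1 h1
      · push_cast
        have h4 : (m : G) * (w₀ : G) * (m : G)⁻¹ * ((m : G) * z * (m : G)⁻¹)
            = (m : G) * ((w₀ : G) * z) * (m : G)⁻¹ := by group
        rw [h4, hwz]
        group

end Cfsg.Agent.Helper68.BG157
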