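import Mathlib
import Cfsg.Agent.Lib.Helper30.BG144cDefs
import Cfsg.Agent.Lib.Helper58.BG139R12
import Cfsg.Agent.Lib.Helper78.BG121
import Cfsg.Agent.Lib.Helper60.BG161C2a
import Cfsg.Agent.Lib.Helper45.BG143

/-!
# B-G 14.4(c) (row S1376), piece (E) of helper30's server: `E = M ∩ N*` is a cyclic Frobenius
complement of `M` once `E` is abelian and `τ₂(M) = κ(M) = ∅`.  (helper68)
-/

set_option autoImplicit false
set_option linter.unusedVariables false
set_option linter.unusedSectionVars false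
set_option linter.style.haveILetI false

namespace Cfsg.Agent.Helper68.BG144c

open Cfsg Subgroup
open Cfsg.Agent.Helper30.BG144c

universe u

variable {G : Type u} [Group G] [Finite G]

/-- a finite group with commuting elements and cyclic Sylow subgroups is cyclic -/
theorem isCyclic_of_comm_of_sylow_cyclic {A : Type*} [Group A] [Finite A]
    (hcomm : ∀ a b : A, a * b = b * a)
    (h : ∀ (r : ℕ) [Fact r.Prime] (P : Sylow r A), IsCyclic (P : Subgroup A)) : IsCyclic A := by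
  letI : CommGroup A := { (inferInstance : Group A) with mul_comm := hcomm }
  apply IsCyclic.of_exponent_eq_card
  apply Nat.dvd_antisymm Group.exponent_dvd_nat_card
  rw [Nat.dvd_iff_prime_pow_dvd_dvd]
  intro r k hr hrk
  haveI := Fact.mk hr
  obtain ⟨P⟩ : Nonempty (Sylow r A) := inferInstance
  haveI := h r P
  obtain ⟨g, hg⟩ := IsCyclic.exists_ofOrder_eq_natCard (α := (P : Subgroup A))
  have h1 : orderOf (g : A) = r ^ (Nat.card A).factorization r := by
    rw [Subgroup.orderOf_coe, hg]; exact P.card_eq_multiplicity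
  have h2 : r ^ k ∣ r ^ (Nat.card A).factorization r := by
    apply pow_dvd_pow
    exact (hr.pow_dvd_iff_le_factorization Nat.card_pos.ne').mp hrk
  exact h2.trans (h1 ▸ Monoid.order_dvd_exponent (g : A))

/-- (E) frob_of_tau2_empty -/
theorem frob_of_tau2_empty (hG : IsMinSimpleOddOrder G) (r1350 : R1350 G)
    {M N Nst : Subgroup G} (hM : IsCoatom M) {x0 : G} {q p : ℕ} {K U : Subgroup G}
    (A : SetupA M N x0 q K U) (B : SetupB M N Nst x0 K U p)
    (hcomm : ∀ a ∈ M ⊓ Nst, ∀ b ∈ M ⊓ Nst, a * b = b * a) (ht2 : tau2 M = ∅) :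
    ∃ E : Subgroup ↥M, IsFrobeniusComplement E ∧ IsCyclic E := by
  classical
  have hHall : IsPiHallOf (sigma M) (sigmaCore M) M := (r1350 M hM).1
  have hE : IsComplIn (M ⊓ Nst) (sigmaCore M) M := B.hE
  have hE0M : M ⊓ Nst ≤ M := inf_le_left
  have hdisj : (M ⊓ Nst) ⊓ sigmaCore M = ⊥ := hE.2.2.1
  -- rank one
  have hrank : ∀ r : ℕ, r.Prime → r ∣ Nat.card (M ⊓ Nst : Subgroup G) →
      r ∉ sigma M ∧ PRankLE r 1 M := by
    intro r hr hrd
    refine ⟨Cfsg.Agent.Helper78.BG121.not_mem_sigma_of_dvd hHall hE hr hrd, ?_⟩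
    rcases Cfsg.Agent.Helper58.BG139Req.mem_tau1_or_tau3_of_dvd hG M hM ht2 (M ⊓ Nst) hE r hr hrd
      with h | h
    · exact h.2.2.2.2
    · exact h.2.2.2
  -- fixed-point-freeness
  have hfpf : ∀ z ∈ M ⊓ Nst, z ≠ 1 → ∀ y ∈ sigmaCore M, z * y = y * z → y = 1 := by
    intro z hz hz1 y hy hzy
    by_contra hy1
    have ho : orderOf z ≠ 1 := fun h => hz1 (orderOf_eq_one_iff.mp h)
    obtain ⟨r, hr, hrd⟩ := Nat.exists_prime_and_dvd ho
    have hopos : orderOf z ≠ 0 := (orderOf_pos z).ne'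
    have hz'o : orderOf (z ^ (orderOf z / r)) = r := orderOf_pow_orderOf_div hopos hrd
    have hz'E : z ^ (orderOf z / r) ∈ M ⊓ Nst := Subgroup.pow_mem _ hz _
    have hrE : r ∣ Nat.card (M ⊓ Nst : Subgroup G) := by
      rw [← hz'o]; exact Subgroup.orderOf_dvd_natCard _ hz'E
    obtain ⟨hrσ, hr1⟩ := hrank r hr hrE
    have hcz : z ^ (orderOf z / r) * y = y * z ^ (orderOf z / r) :=
      ((Commute.pow_left (show Commute z y from hzy) _)).eq
    have hκ := Cfsg.Agent.Helper60.BG161.mem_kappa_of_prankLE_one hG hr hrσ hr1 (hE0M hz'E)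
      hz'o hy hy1 hcz
    rw [B.hκ] at hκ
    exact hκ
  refine ⟨(M ⊓ Nst).subgroupOf M, ⟨?_, ?_, ?_⟩, ?_⟩
  · -- `≠ ⊥`
    intro h0
    obtain ⟨k, hk, hk1⟩ : ∃ k ∈ K, k ≠ 1 := by
      by_contra hcon
      push Not at hcon
      exact A.hK1 ((Subgroup.eq_bot_iff_forall _).2 hcon)
    have hkE : k ∈ M ⊓ Nst := B.hKE hk
    have h1 : (⟨k, hE0M hkE⟩ : M) ∈ (M ⊓ Nst).subgroupOf M := Subgroup.mem_subgroupOf.2 hkE
    rw [h0, Subgroup.mem_bot] at h1
    exact hk1 (congrArg Subtype.val h1)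
  · -- `≠ ⊤`
    intro h0
    have hx0M : x0 ∈ M := hE.2.1 A.hx0
    have h1 : (⟨x0, hx0M⟩ : M) ∈ (M ⊓ Nst).subgroupOf M := by rw [h0]; exact Subgroup.mem_top _
    have hx0E : x0 ∈ M ⊓ Nst := Subgroup.mem_subgroupOf.1 h1
    have h2 : x0 ∈ (M ⊓ Nst) ⊓ sigmaCore M := Subgroup.mem_inf.2 ⟨hx0E, A.hx0⟩
    rw [hdisj, Subgroup.mem_bot] at h2
    have h3 : orderOf x0 = 1 := by rw [h2, orderOf_one]
    rw [A.hx0o] at h3
    exact A.hq.one_lt.ne' h3
  · -- the Frobenius condition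
    intro g hg
    rw [eq_bot_iff]
    intro y hy
    rw [Subgroup.mem_bot]
    have hy1 : y ∈ (M ⊓ Nst).subgroupOf M := hy.1
    obtain ⟨z, hz, hzy⟩ := (Subgroup.mem_smul_pointwise_iff_exists _ _ _).mp hy.2
    have hzy' : g * z * g⁻¹ = y := hzy
    have hzE : (z : G) ∈ M ⊓ Nst := Subgroup.mem_subgroupOf.1 hz
    have hyE : (y : G) ∈ M ⊓ Nst := Subgroup.mem_subgroupOf.1 hy1
    have hgE : (g : G) ∉ M ⊓ Nst := fun h => hg (Subgroup.mem_subgroupOf.2 h)
    obtain ⟨e, he, b, hb, hgeb⟩ := hE.2.2.2 (g : G) g.2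
    have hb1 : b ≠ 1 := by
      intro h
      rw [h, mul_one] at hgeb
      exact hgE (hgeb ▸ he)
    have hyG : (y : G) = e * b * (z : G) * b⁻¹ * e⁻¹ := by
      have h1 : (y : G) = (g : G) * (z : G) * (g : G)⁻¹ := by
        rw [← hzy']; simp
      rw [h1, hgeb]; group
    have hbz : b * (z : G) * b⁻¹ ∈ M ⊓ Nst := by
      have h1 : b * (z : G) * b⁻¹ = e⁻¹ * (y : G) * e := by rw [hyG]; group
      rw [h1]
      exact Subgroup.mul_mem _ (Subgroup.mul_mem _ (Subgroup.inv_mem _ he) hyE) he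
    have hw1 : b * (z : G) * b⁻¹ * (z : G)⁻¹ ∈ M ⊓ Nst :=
      Subgroup.mul_mem _ hbz (Subgroup.inv_mem _ hzE)
    have hw2 : b * (z : G) * b⁻¹ * (z : G)⁻¹ ∈ sigmaCore M := by
      have h1 : b * (z : G) * b⁻¹ * (z : G)⁻¹ = b * ((z : G) * b⁻¹ * (z : G)⁻¹) := by group
      rw [h1]
      exact Subgroup.mul_mem _ hb
        (Cfsg.Agent.Helper45.BG143.conj_mem_sigmaCore z.2 (Subgroup.inv_mem _ hb))
    have hw : b * (z : G) * b⁻¹ * (z : G)⁻¹ = 1 := by
      have h1 : b * (z : G) * b⁻¹ * (z : G)⁻¹ ∈ (M ⊓ Nst) ⊓ sigmaCore M :=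
        Subgroup.mem_inf.2 ⟨hw1, hw2⟩
      rw [hdisj, Subgroup.mem_bot] at h1
      exact h1
    have hcomm' : (z : G) * b = b * (z : G) := by
      have h1 : b * (z : G) = (b * (z : G) * b⁻¹ * (z : G)⁻¹) * ((z : G) * b) := by group
      rw [h1, hw, one_mul]
    have hz1 : (z : G) = 1 := by
      by_contra hne
      exact hb1 (hfpf (z : G) hzE hne b hb hcomm')
    have hz1' : z = 1 := Subtype.ext hz1
    rw [← hzy', hz1']
    group
  · -- cyclic
    apply isCyclic_of_comm_of_sylow_cyclic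
    · intro a b
      apply Subtype.ext
      apply Subtype.ext
      have := hcomm (a : M) (Subgroup.mem_subgroupOf.1 a.2) (b : M) (Subgroup.mem_subgroupOf.1 b.2)
      simpa using this
    · intro r _ P
      have hr : r.Prime := Fact.out
      by_cases hP1 : (P : Subgroup ↥((M ⊓ Nst).subgroupOf M)) = ⊥
      · rw [hP1]; exact isCyclic_of_subsingleton
      have hrd0 : r ∣ Nat.card ↥((M ⊓ Nst).subgroupOf M) := by
        by_contra hnd
        apply hP1
        have h1 := P.card_eq_multiplicity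
        rw [Nat.factorization_eq_zero_of_not_dvd hnd, pow_zero] at h1
        exact Subgroup.card_eq_one.mp h1
      have hrd : r ∣ Nat.card (M ⊓ Nst : Subgroup G) := by
        rwa [Nat.card_congr (Subgroup.subgroupOfEquivOfLe hE0M).toEquiv] at hrd0
      obtain ⟨hrσ, hr1⟩ := hrank r hr hrd
      have hr2 : r ≠ 2 := Cfsg.Agent.Helper34.BG.prime_ne_two hG (M ⊓ Nst) hrd
      have hrk : PRankLE r 1 ↥(P : Subgroup ↥((M ⊓ Nst).subgroupOf M)) :=
        Cfsg.Agent.Helper34.BG.pRankLE_subgroup_type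
          (Cfsg.Agent.Helper34.BG.pRankLE_subgroup_type hr1 ((M ⊓ Nst).subgroupOf M))
          (P : Subgroup ↥((M ⊓ Nst).subgroupOf M))
      exact Cfsg.Agent.Helper34.BG.isCyclic_of_pRankLE_one hr2 P.isPGroup' hrk

end Cfsg.Agent.Helper68.BG144c
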