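import Mathlib
import Cfsg.Agent.Lib.Helper31.G2Defs
import Cfsg.Agent.Lib.Helper31.SGAll

set_option autoImplicit false

/-!
# S3795 (Gross, `p = 2`) : piece (STRUCT) `g2_struct` for helper31's G2 server
-/

namespace Cfsg.Agent.Helper68.G2

open Module Subgroup Cfsg.Agent.Helper31.SG Cfsg.Agent.Helper31.G2

universe u uG uK uV

/-- (STRUCT) structure of the minimal configuration. -/
theorem g2_struct {G : Type*} [Group G] [Finite G] {q s : ℕ} (hq : q.Prime) (hs : s.Prime)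
    (hq2 : q ≠ 2) (hqs : q ≠ s) (S Q : Subgroup G) (x : G) (n : ℕ)
    (hS : IsPGroup s S) (hQ : IsPGroup q Q)
    (hQS : ∀ g ∈ Q, ∀ a ∈ S, g * a * g⁻¹ ∈ S) (hxS : ∀ a ∈ S, x * a * x⁻¹ ∈ S)
    (hxQ : ∀ g ∈ Q, x * g * x⁻¹ ∈ Q) (hx : x ^ 2 ^ (n + 1) = 1)
    (hNC : ∃ g ∈ Q, ∃ a ∈ S, cm (x ^ 2 ^ n) g * a ≠ a * cm (x ^ 2 ^ n) g)
    (hminQ : ∀ Q₁ : Subgroup G, Q₁ ≤ Q → Q₁ ≠ Q → (∀ g ∈ Q₁, x * g * x⁻¹ ∈ Q₁) →
      ∀ g ∈ Q₁, ∀ a ∈ S, cm (x ^ 2 ^ n) g * a = a * cm (x ^ 2 ^ n) g)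
    (hminS : ∀ S₁ : Subgroup G, S₁ ≤ S → S₁ ≠ S → (∀ g ∈ Q, ∀ a ∈ S₁, g * a * g⁻¹ ∈ S₁) →
      (∀ a ∈ S₁, x * a * x⁻¹ ∈ S₁) →
      ∀ g ∈ Q, ∀ a ∈ S₁, cm (x ^ 2 ^ n) g * a = a * cm (x ^ 2 ^ n) g) :
    (∀ S₁ : Subgroup G, S₁ ≤ S → S₁ ≠ S → (∀ g ∈ Q, ∀ a ∈ S₁, g * a * g⁻¹ ∈ S₁) →
      (∀ a ∈ S₁, x * a * x⁻¹ ∈ S₁) → S₁ ≤ S ⊓ centralizer (Q : Set G)) ∧
    (∀ a ∈ S, ∀ b ∈ S, a * b * a⁻¹ * b⁻¹ ∈ S ⊓ centralizer (Q : Set G)) ∧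
    (∀ a ∈ S, a ^ s ∈ S ⊓ centralizer (Q : Set G)) ∧
    (∀ z ∈ S ⊓ centralizer (Q : Set G), ∀ a ∈ S, z * a = a * z) ∧
    (∃ g ∈ Q, ∃ a ∈ S, cm (x ^ 2 ^ n) g * a * (cm (x ^ 2 ^ n) g)⁻¹ * a⁻¹ ∉
      S ⊓ centralizer (Q : Set G)) := by
  classical
  haveI : Fact s.Prime := ⟨hs⟩
  haveI : Fact q.Prime := ⟨hq⟩
  have hpowinv : ∀ H : Subgroup G, (∀ g ∈ H, x * g * x⁻¹ ∈ H) →
      ∀ m : ℕ, ∀ g ∈ H, x ^ m * g * (x ^ m)⁻¹ ∈ H := by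
    intro H hH m
    induction m with
    | zero => intro g hg; simpa using hg
    | succ m ih =>
      intro g hg
      have e : x ^ (m + 1) * g * (x ^ (m + 1))⁻¹ = x * (x ^ m * g * (x ^ m)⁻¹) * x⁻¹ := by
        rw [pow_succ']; group
      rw [e]; exact hH _ (ih g hg)
  obtain ⟨τ, hτ⟩ : ∃ τ : G, τ = x ^ 2 ^ n := ⟨_, rfl⟩
  obtain ⟨Z, hZdef⟩ : ∃ Z : Subgroup G, Z = S ⊓ centralizer (Q : Set G) := ⟨_, rfl⟩
  rw [← hτ] at hNC hminQ hminS ⊢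
  rw [← hZdef]
  have hZmem : ∀ a : G, a ∈ Z ↔ a ∈ S ∧ ∀ h ∈ Q, h * a = a * h := by
    intro a
    rw [hZdef, mem_inf, mem_centralizer_iff]
    rfl
  have hZS : Z ≤ S := by rw [hZdef]; exact inf_le_left
  have hτ2 : τ ^ 2 ^ 1 = 1 := by
    rw [hτ, ← pow_mul, pow_one, ← pow_succ]; exact hx
  have hτinv : ∀ H : Subgroup G, (∀ g ∈ H, x * g * x⁻¹ ∈ H) → ∀ g ∈ H, τ * g * τ⁻¹ ∈ H := by
    intro H hH g hg
    rw [hτ]; exact hpowinv H hH (2 ^ n) g hg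
  have hxτ : Commute x τ := by
    rw [hτ]; exact (Commute.refl x).pow_right _
  have hcmQ : ∀ g ∈ Q, cm τ g ∈ Q := fun g hg =>
    Q.mul_mem (Q.inv_mem hg) (hτinv Q hxQ g hg)
  have hcmx : ∀ g : G, x * cm τ g * x⁻¹ = cm τ (x * g * x⁻¹) := by
    intro g
    unfold cm
    have h2 : τ⁻¹ * x⁻¹ = x⁻¹ * τ⁻¹ := (Commute.inv_inv hxτ).eq.symm
    calc x * (g⁻¹ * (τ * g * τ⁻¹)) * x⁻¹
        = (x * g * x⁻¹)⁻¹ * ((x * τ) * g * (τ⁻¹ * x⁻¹)) := by group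
      _ = (x * g * x⁻¹)⁻¹ * ((τ * x) * g * (x⁻¹ * τ⁻¹)) := by rw [hxτ.eq, h2]
      _ = (x * g * x⁻¹)⁻¹ * (τ * (x * g * x⁻¹) * τ⁻¹) := by group
  -- the subgroup generated by the `cm τ g`
  obtain ⟨Q₀, hQ₀def⟩ : ∃ Q₀ : Subgroup G, Q₀ = closure {c | ∃ g ∈ Q, c = cm τ g} := ⟨_, rfl⟩
  have hsub : ∀ g ∈ Q, cm τ g ∈ Q₀ := by
    intro g hg; rw [hQ₀def]; exact subset_closure ⟨g, hg, rfl⟩
  have hQ₀le : ∀ K : Subgroup G, (∀ g ∈ Q, cm τ g ∈ K) → Q₀ ≤ K := by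
    intro K hK
    rw [hQ₀def, closure_le]
    rintro _ ⟨g, hg, rfl⟩
    exact hK g hg
  have hQ₀Q : Q₀ ≤ Q := hQ₀le Q hcmQ
  have hQ₀x : ∀ h ∈ Q₀, x * h * x⁻¹ ∈ Q₀ := by
    intro h hh
    have hle : Q₀ ≤ Q₀.comap (MulAut.conj x).toMonoidHom := hQ₀le _ (fun g hg => by
      show x * cm τ g * x⁻¹ ∈ Q₀
      rw [hcmx]; exact hsub _ (hxQ g hg))
    exact hle hh
  have hQ₀eq : Q₀ = Q := by
    by_contra hne
    obtain ⟨g, hg, a, ha, hga⟩ := hNC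
    apply hga
    have hodd : ¬ 2 ∣ Nat.card Q₀ := by
      intro h2
      obtain ⟨k, hk⟩ := IsPGroup.iff_card.mp (hQ.to_le hQ₀Q)
      rw [hk] at h2
      have h3 := Nat.Prime.dvd_of_dvd_pow Nat.prime_two h2
      exact hq2 ((Nat.prime_dvd_prime_iff_eq Nat.prime_two hq).mp h3).symm
    obtain ⟨r, hr, hfix⟩ := Cfsg.Agent.Helper7.SG.sg_coset_fixed Nat.prime_two Q₀ hodd τ g hτ2
      (hτinv Q₀ hQ₀x) (show g⁻¹ * (τ * g * τ⁻¹) ∈ Q₀ from hsub g hg)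
    have e : cm τ g = cm τ r⁻¹ := by
      unfold cm
      have h1 : τ * g * τ⁻¹ = g * r * (τ * r⁻¹ * τ⁻¹) := by
        calc τ * g * τ⁻¹ = (τ * (g * r) * τ⁻¹) * (τ * r⁻¹ * τ⁻¹) := by group
          _ = g * r * (τ * r⁻¹ * τ⁻¹) := by rw [hfix]
      rw [h1]; group
    rw [e]
    exact hminQ Q₀ hQ₀Q hne hQ₀x r⁻¹ (Q₀.inv_mem hr) a ha
  have hgen : ∀ K : Subgroup G, (∀ g ∈ Q, cm τ g ∈ K) → Q ≤ K := by
    intro K hK
    exact hQ₀eq.symm.le.trans (hQ₀le K hK)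
  -- conclusion (1)
  have hc1 : ∀ S₁ : Subgroup G, S₁ ≤ S → S₁ ≠ S → (∀ g ∈ Q, ∀ a ∈ S₁, g * a * g⁻¹ ∈ S₁) →
      (∀ a ∈ S₁, x * a * x⁻¹ ∈ S₁) → S₁ ≤ Z := by
    intro S₁ h1 h2 h3 h4 a ha
    rw [hZmem]
    refine ⟨h1 ha, fun h hh => ?_⟩
    have hle : Q ≤ centralizer ({a} : Set G) := hgen _ (by
      intro g hg
      rw [mem_centralizer_iff]
      intro b hb
      rw [Set.mem_singleton_iff.mp hb]
      exact (hminS S₁ h1 h2 h3 h4 g hg a ha).symm)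
    exact (mem_centralizer_iff.mp (hle hh) a (Set.mem_singleton a)).symm
  -- `Z ≠ S`
  have hZne : Z ≠ S := by
    intro hZS'
    obtain ⟨g, hg, a, ha, hga⟩ := hNC
    apply hga
    have haZ : a ∈ Z := by rw [hZS']; exact ha
    exact ((hZmem a).mp haZ).2 _ (hcmQ g hg)
  have hSbot : S ≠ ⊥ := by
    intro h
    apply hZne
    refine le_antisymm hZS ?_
    rw [h]; exact bot_le
  -- central commutators force `S ≤ C(Q)`
  have hcentral : (∀ a ∈ S, ∀ g ∈ Q, a * g * a⁻¹ * g⁻¹ ∈ Z) → False := by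
    intro hall
    apply hZne
    refine le_antisymm hZS ?_
    intro a ha
    rw [hZmem]
    refine ⟨ha, fun g hg => ?_⟩
    obtain ⟨z, hz⟩ : ∃ z : G, z = a * g * a⁻¹ * g⁻¹ := ⟨_, rfl⟩
    have hzZ : z ∈ Z := by rw [hz]; exact hall a ha g hg
    have hzS : z ∈ S := hZS hzZ
    have hzg : g * z = z * g := ((hZmem z).mp hzZ).2 g hg
    obtain ⟨i, hi⟩ := hQ ⟨g, hg⟩
    obtain ⟨j, hj⟩ := hS ⟨z, hzS⟩
    have hi' : g ^ q ^ i = 1 := by simpa using congrArg Subtype.val hi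
    have hj' : z ^ s ^ j = 1 := by simpa using congrArg Subtype.val hj
    have h1 : a * g * a⁻¹ = z * g := by rw [hz]; group
    have h2 : (a * g * a⁻¹) ^ q ^ i = z ^ q ^ i * g ^ q ^ i := by
      rw [h1]; exact Commute.mul_pow (show Commute z g from hzg.symm) _
    rw [conj_pow, hi'] at h2
    have h3 : z ^ q ^ i = 1 := by simpa using h2.symm
    have hz1 : z = 1 := by
      have hd1 : orderOf z ∣ q ^ i := orderOf_dvd_of_pow_eq_one h3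
      have hd2 : orderOf z ∣ s ^ j := orderOf_dvd_of_pow_eq_one hj'
      have hcop : Nat.Coprime (q ^ i) (s ^ j) :=
        Nat.Coprime.pow _ _ ((Nat.coprime_primes hq hs).mpr hqs)
      exact orderOf_eq_one_iff.mp (Nat.eq_one_of_dvd_coprimes hcop hd1 hd2)
    rw [hz] at hz1
    have h4 : a * g * a⁻¹ = g := mul_inv_eq_one.mp hz1
    have h5 : a * g = g * a := mul_inv_eq_iff_eq_mul.mp h4
    exact h5.symm
  -- the Frattini-like subgroup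
  obtain ⟨U, hUdef⟩ : ∃ U : Subgroup G, U = closure ({c | ∃ a ∈ S, c = a ^ s} ∪
      {c | ∃ a ∈ S, ∃ b ∈ S, c = a * b * a⁻¹ * b⁻¹}) := ⟨_, rfl⟩
  have hUg1 : ∀ a ∈ S, a ^ s ∈ U := fun a ha => by
    rw [hUdef]; exact subset_closure (Or.inl ⟨a, ha, rfl⟩)
  have hUg2 : ∀ a ∈ S, ∀ b ∈ S, a * b * a⁻¹ * b⁻¹ ∈ U := fun a ha b hb => by
    rw [hUdef]; exact subset_closure (Or.inr ⟨a, ha, b, hb, rfl⟩)
  have hUle : ∀ K : Subgroup G, (∀ a ∈ S, a ^ s ∈ K) →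
      (∀ a ∈ S, ∀ b ∈ S, a * b * a⁻¹ * b⁻¹ ∈ K) → U ≤ K := by
    intro K h1 h2
    rw [hUdef, closure_le]
    rintro c (⟨a, ha, rfl⟩ | ⟨a, ha, b, hb, rfl⟩)
    · exact h1 a ha
    · exact h2 a ha b hb
  have hUS : U ≤ S := hUle S (fun a ha => S.pow_mem ha s) (fun a ha b hb =>
    S.mul_mem (S.mul_mem (S.mul_mem ha hb) (S.inv_mem ha)) (S.inv_mem hb))
  have hUconj : ∀ y : G, (∀ a ∈ S, y * a * y⁻¹ ∈ S) → ∀ u ∈ U, y * u * y⁻¹ ∈ U := by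
    intro y hy u hu
    have hle : U ≤ U.comap (MulAut.conj y).toMonoidHom := hUle _
      (fun a ha => by
        show y * a ^ s * y⁻¹ ∈ U
        rw [← conj_pow]; exact hUg1 _ (hy a ha))
      (fun a ha b hb => by
        show y * (a * b * a⁻¹ * b⁻¹) * y⁻¹ ∈ U
        have e : y * (a * b * a⁻¹ * b⁻¹) * y⁻¹ =
            (y * a * y⁻¹) * (y * b * y⁻¹) * (y * a * y⁻¹)⁻¹ * (y * b * y⁻¹)⁻¹ := by group
        rw [e]; exact hUg2 _ (hy a ha) _ (hy b hb))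
    exact hle hu
  have hUne : U ≠ S := by
    intro hUS'
    obtain ⟨k, hk⟩ := IsPGroup.iff_card.mp hS
    have hk0 : k ≠ 0 := by
      rintro rfl
      rw [pow_zero] at hk
      exact hSbot (Subgroup.card_eq_one.mp hk)
    obtain ⟨M, hM⟩ := Sylow.exists_subgroup_card_pow_prime (G := ↥S) s (n := k - 1)
      (by rw [hk]; exact pow_dvd_pow s (Nat.sub_le k 1))
    have hidx : M.index = s := by
      have h1 := M.card_mul_index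
      rw [hM, hk] at h1
      have h2 : s ^ k = s ^ (k - 1) * s := by
        rw [← pow_succ]; congr 1; omega
      rw [h2] at h1
      exact Nat.eq_of_mul_eq_mul_left (pow_pos hs.pos _) h1
    haveI hMn : M.Normal := Subgroup.normal_of_index_eq_minFac_card (by
      rw [hidx, hk, hs.pow_minFac hk0])
    have hqcard : Nat.card (↥S ⧸ M) = s := hidx
    haveI : IsCyclic (↥S ⧸ M) := isCyclic_of_prime_card hqcard
    have hqc : ∀ u v : ↥S ⧸ M, u * v = v * u := fun u v =>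
      (IsCyclic.commGroup (α := ↥S ⧸ M)).mul_comm u v
    have hcomM : ∀ u v : ↥S, u * v * u⁻¹ * v⁻¹ ∈ M := by
      intro u v
      rw [← QuotientGroup.eq_one_iff]
      simp only [QuotientGroup.mk_mul, QuotientGroup.mk_inv]
      rw [hqc (u : ↥S ⧸ M) (v : ↥S ⧸ M)]; group
    have hUM : U ≤ M.map S.subtype := hUle _
      (fun a ha => mem_map.mpr ⟨(⟨a, ha⟩ : ↥S) ^ s, by
        have := M.pow_index_mem (⟨a, ha⟩ : ↥S)
        rwa [hidx] at this, by simp⟩)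
      (fun a ha b hb => mem_map.mpr
        ⟨(⟨a, ha⟩ : ↥S) * ⟨b, hb⟩ * (⟨a, ha⟩ : ↥S)⁻¹ * (⟨b, hb⟩ : ↥S)⁻¹, hcomM _ _, by simp⟩)
    have hMtop : M = ⊤ := by
      rw [eq_top_iff]
      intro y _
      have hyU : (y : G) ∈ U := by rw [hUS']; exact y.2
      obtain ⟨y', hy', hyy⟩ := mem_map.mp (hUM hyU)
      have : y' = y := Subtype.ext hyy
      rw [← this]; exact hy'
    rw [hMtop, index_top] at hidx
    exact hs.one_lt.ne hidx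
  have hUZ : U ≤ Z := hc1 U hUS hUne (fun g hg u hu => hUconj g (hQS g hg) u hu)
    (fun u hu => hUconj x hxS u hu)
  have hc2 : ∀ a ∈ S, ∀ b ∈ S, a * b * a⁻¹ * b⁻¹ ∈ Z := fun a ha b hb => hUZ (hUg2 a ha b hb)
  have hc3 : ∀ a ∈ S, a ^ s ∈ Z := fun a ha => hUZ (hUg1 a ha)
  -- `⁅S, Q⁆ = S`
  have hTS : ⁅S, Q⁆ ≤ S := by
    rw [commutator_le]
    intro a ha g hg
    rw [commutatorElement_def]
    have e : a * g * a⁻¹ * g⁻¹ = a * (g * a⁻¹ * g⁻¹) := by group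
    rw [e]; exact S.mul_mem ha (hQS g hg _ (S.inv_mem ha))
  have hTconj : ∀ y : G, (∀ a ∈ S, y * a * y⁻¹ ∈ S) → (∀ g ∈ Q, y * g * y⁻¹ ∈ Q) →
      ∀ t ∈ ⁅S, Q⁆, y * t * y⁻¹ ∈ ⁅S, Q⁆ := by
    intro y hyS hyQ t ht
    have hle : ⁅S, Q⁆ ≤ (⁅S, Q⁆).comap (MulAut.conj y).toMonoidHom := by
      rw [commutator_le]
      intro a ha g hg
      show y * (a * g * a⁻¹ * g⁻¹) * y⁻¹ ∈ ⁅S, Q⁆
      have e : y * (a * g * a⁻¹ * g⁻¹) * y⁻¹ =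
          (y * a * y⁻¹) * (y * g * y⁻¹) * (y * a * y⁻¹)⁻¹ * (y * g * y⁻¹)⁻¹ := by group
      rw [e]; exact commutator_mem_commutator (hyS a ha) (hyQ g hg)
    exact hle ht
  have hTeq : ⁅S, Q⁆ = S := by
    by_contra hne
    have hTZ : ⁅S, Q⁆ ≤ Z := hc1 _ hTS hne
      (fun g hg t ht => hTconj g (hQS g hg)
        (fun h hh => Q.mul_mem (Q.mul_mem hg hh) (Q.inv_mem hg)) t ht)
      (fun t ht => hTconj x hxS hxQ t ht)
    apply hcentral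
    intro a ha g hg
    have := hTZ (commutator_mem_commutator ha hg)
    rwa [commutatorElement_def] at this
  -- conclusion (4)
  have hc4 : ∀ z ∈ Z, ∀ a ∈ S, z * a = a * z := by
    have h1 : ⁅⁅S, Z⁆, Q⁆ = ⊥ := by
      rw [commutator_eq_bot_iff_le_centralizer, commutator_le]
      intro a ha z hz
      have hm : a * z * a⁻¹ * z⁻¹ ∈ Z := hc2 a ha z (hZS hz)
      rw [hZdef] at hm
      show a * z * a⁻¹ * z⁻¹ ∈ centralizer (Q : Set G)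
      exact (mem_inf.mp hm).2
    have h2 : ⁅⁅Z, Q⁆, S⁆ = ⊥ := by
      have h0 : ⁅Z, Q⁆ = ⊥ := by
        rw [commutator_eq_bot_iff_le_centralizer, hZdef]; exact inf_le_right
      rw [h0, commutator_bot_left]
    have h3 : ⁅⁅Q, S⁆, Z⁆ = ⊥ := commutator_commutator_eq_bot_of_rotate h1 h2
    rw [commutator_comm Q S, hTeq, commutator_eq_bot_iff_le_centralizer] at h3
    intro z hz a ha
    exact mem_centralizer_iff.mp (h3 ha) z hz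
  -- conclusion (5)
  have hc5 : ∃ g ∈ Q, ∃ a ∈ S, cm τ g * a * (cm τ g)⁻¹ * a⁻¹ ∉ Z := by
    by_contra hcon
    push Not at hcon
    let N : Subgroup G :=
      { carrier := {h | h ∈ Q ∧ ∀ a ∈ S, h * a * h⁻¹ * a⁻¹ ∈ Z}
        one_mem' := ⟨Q.one_mem, fun a _ => by
          have e : (1 : G) * a * (1 : G)⁻¹ * a⁻¹ = 1 := by group
          rw [e]; exact Z.one_mem⟩
        mul_mem' := by
          rintro h₁ h₂ ⟨h1Q, h1⟩ ⟨h2Q, h2⟩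
          refine ⟨Q.mul_mem h1Q h2Q, fun a ha => ?_⟩
          obtain ⟨z₂, hz₂⟩ : ∃ z₂ : G, z₂ = h₂ * a * h₂⁻¹ * a⁻¹ := ⟨_, rfl⟩
          have hz₂Z : z₂ ∈ Z := by rw [hz₂]; exact h2 a ha
          have hc : h₁ * z₂ = z₂ * h₁ := ((hZmem _).mp hz₂Z).2 h₁ h1Q
          have e : h₁ * h₂ * a * (h₁ * h₂)⁻¹ * a⁻¹ =
              (h₁ * z₂) * h₁⁻¹ * (h₁ * a * h₁⁻¹ * a⁻¹) := by rw [hz₂]; group
          rw [e, hc]
          have e2 : z₂ * h₁ * h₁⁻¹ * (h₁ * a * h₁⁻¹ * a⁻¹) = z₂ * (h₁ * a * h₁⁻¹ * a⁻¹) := by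
            group
          rw [e2]; exact Z.mul_mem hz₂Z (h1 a ha)
        inv_mem' := by
          rintro h ⟨hQ', h1⟩
          refine ⟨Q.inv_mem hQ', fun a ha => ?_⟩
          obtain ⟨z, hz⟩ : ∃ z : G, z = h * a * h⁻¹ * a⁻¹ := ⟨_, rfl⟩
          have hzZ : z ∈ Z := by rw [hz]; exact h1 a ha
          have hc : Commute h z := ((hZmem _).mp hzZ).2 h hQ'
          have e : h⁻¹ * a * h⁻¹⁻¹ * a⁻¹ = h⁻¹ * (z⁻¹ * h) := by rw [hz]; group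
          rw [e, ← hc.inv_right.eq]
          have e2 : h⁻¹ * (h * z⁻¹) = z⁻¹ := by group
          rw [e2]; exact Z.inv_mem hzZ }
    have hN : ∀ h : G, h ∈ N ↔ (h ∈ Q ∧ ∀ a ∈ S, h * a * h⁻¹ * a⁻¹ ∈ Z) := fun h => Iff.rfl
    have hQN : Q ≤ N := hgen N (fun g hg => (hN _).mpr ⟨hcmQ g hg, fun a ha => hcon g hg a ha⟩)
    apply hcentral
    intro a ha g hg
    have h1 := ((hN g).mp (hQN hg)).2 a ha
    have e : a * g * a⁻¹ * g⁻¹ = (g * a * g⁻¹ * a⁻¹)⁻¹ := by group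
    rw [e]; exact Z.inv_mem h1
  exact ⟨hc1, hc2, hc3, hc4, hc5⟩

end Cfsg.Agent.Helper68.G2
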