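import Mathlib
import Cfsg.Agent.Lib.Helper31.SCHDefs
import Cfsg.Agent.Lib.Helper55.Cores

/-!
# SCH server (helper31, S4394): piece (G3b1) dagger by helper68
-/

set_option autoImplicit false

namespace Cfsg.Agent.Helper68.SCH
open Cfsg Cfsg.Agent.Helper31.SCH

section G
variable {G : Type*} [Group G] [Finite G] {p : ℕ} [Fact p.Prime]

/-- a `p`-element of `O_{p,p'}(G)` lies in `O_p(G)` -/
theorem h68_Kc_inf_sylow_le (P : Sylow p G) : Kc p G ⊓ (P : Subgroup G) ≤ pCore p G := by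
  intro y hy
  have hn : (pCore p G).Normal := Cfsg.pCore_normal p G
  have hyK : (QuotientGroup.mk' (pCore p G) y) ∈ pPrimeCore p (G ⧸ pCore p G) := hy.1
  obtain ⟨k, hk⟩ := P.isPGroup' ⟨y, hy.2⟩
  have hk' : y ^ p ^ k = 1 := by
    have := congrArg Subtype.val hk
    simpa using this
  have h1 : orderOf (QuotientGroup.mk' (pCore p G) y) ∣ p ^ k := by
    apply orderOf_dvd_of_pow_eq_one
    rw [← map_pow, hk', map_one]
  have h2 : orderOf (QuotientGroup.mk' (pCore p G) y) ∣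
      Nat.card (pPrimeCore p (G ⧸ pCore p G)) := by
    have := orderOf_dvd_natCard (⟨_, hyK⟩ : ↥(pPrimeCore p (G ⧸ pCore p G)))
    rwa [Subgroup.orderOf_mk] at this
  have hcop : (Nat.card (pPrimeCore p (G ⧸ pCore p G))).Coprime (p ^ k) :=
    (Cfsg.Agent.Helper55.pPrimeCore_coprime p).pow_right k
  have h3 : orderOf (QuotientGroup.mk' (pCore p G) y) = 1 :=
    Nat.eq_one_of_dvd_coprimes hcop h2 h1
  rw [orderOf_eq_one_iff] at h3
  exact (QuotientGroup.eq_one_iff y).mp h3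

theorem dagger (P : Sylow p G)
    (hsub : ∀ G₁ : Subgroup G, (P : Subgroup G) ≤ G₁ → G₁ ≠ ⊤ →
      ∀ g ∈ G₁, ∀ x ∈ (P : Subgroup G), g * x * g⁻¹ ∈ (P : Subgroup G))
    (U : Subgroup G) (hHU : pCore p G ≤ U) (hUK : U ≤ Kc p G) (hUne : U ≠ Kc p G)
    (hPU : ∀ x ∈ (P : Subgroup G), ∀ u ∈ U, x * u * x⁻¹ ∈ U) :
    ∀ u ∈ U, ∀ x ∈ (P : Subgroup G), cmt u x ∈ pCore p G := by
  -- the product set `U P` is a subgroup
  let S : Subgroup G :=
    { carrier := {y | ∃ u ∈ U, ∃ x ∈ (P : Subgroup G), y = u * x}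
      one_mem' := ⟨1, U.one_mem, 1, (P : Subgroup G).one_mem, by simp⟩
      mul_mem' := by
        rintro _ _ ⟨u, hu, x, hx, rfl⟩ ⟨u', hu', x', hx', rfl⟩
        refine ⟨u * (x * u' * x⁻¹), U.mul_mem hu (hPU x hx u' hu'), x * x',
          (P : Subgroup G).mul_mem hx hx', by group⟩
      inv_mem' := by
        rintro _ ⟨u, hu, x, hx, rfl⟩
        refine ⟨x⁻¹ * u⁻¹ * (x⁻¹)⁻¹, hPU x⁻¹ ((P : Subgroup G).inv_mem hx) u⁻¹ (U.inv_mem hu),
          x⁻¹, (P : Subgroup G).inv_mem hx, by group⟩ }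
  have hUS : U ≤ S := fun u hu => ⟨u, hu, 1, (P : Subgroup G).one_mem, by simp⟩
  have hPS : (P : Subgroup G) ≤ S := fun x hx => ⟨1, U.one_mem, x, hx, by simp⟩
  have hne : U ⊔ (P : Subgroup G) ≠ ⊤ := by
    intro htop
    apply hUne
    apply le_antisymm hUK
    intro k hk
    have hkS : k ∈ S := (sup_le hUS hPS) (htop ▸ Subgroup.mem_top k)
    obtain ⟨u, hu, x, hx, rfl⟩ := hkS
    have hxK : x ∈ Kc p G := by
      have h1 : x = u⁻¹ * (u * x) := by group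
      rw [h1]
      exact (Kc p G).mul_mem ((Kc p G).inv_mem (hUK hu)) hk
    have hxO : x ∈ pCore p G := h68_Kc_inf_sylow_le P ⟨hxK, hx⟩
    exact U.mul_mem hu (hHU hxO)
  intro u hu x hx
  have h1 : u * x * u⁻¹ ∈ (P : Subgroup G) :=
    hsub (U ⊔ (P : Subgroup G)) le_sup_right hne u ((le_sup_left : U ≤ U ⊔ (P : Subgroup G)) hu) x hx
  have hcP : cmt u x ∈ (P : Subgroup G) := by
    unfold cmt
    exact (P : Subgroup G).mul_mem h1 ((P : Subgroup G).inv_mem hx)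
  have hcU : cmt u x ∈ U := by
    have h2 : cmt u x = u * (x * u⁻¹ * x⁻¹) := by unfold cmt; group
    rw [h2]
    exact U.mul_mem hu (hPU x hx u⁻¹ (U.inv_mem hu))
  exact h68_Kc_inf_sylow_le P ⟨hUK hcU, hcP⟩

end G

end Cfsg.Agent.Helper68.SCH
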