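import Mathlib
import Cfsg.Agent.Lib.Helper31.SCHDefs
import Cfsg.Agent.Lib.Helper31.SCHTB

/-!
# SCH server (helper31, S4394): piece (G5) quad_contra by helper68
-/

set_option autoImplicit false
set_option linter.style.haveILetI false

namespace Cfsg.Agent.Helper68.SCH
open Cfsg Cfsg.Agent.Helper31.SCH

section G
variable {G : Type*} [Group G] [Finite G] {p : ℕ} [Fact p.Prime]

/-- the commutative group structure on an abelian subgroup -/
@[reducible] def h68CommGroup (H : Subgroup G) (h : ∀ x ∈ H, ∀ y ∈ H, x * y = y * x) :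
    CommGroup ↥H :=
  { (inferInstance : Group ↥H) with mul_comm := fun a b => Subtype.ext (h a a.2 b b.2) }

open Cfsg.Agent.Helper48.Wreath in
theorem h68_quad_core (hp5 : 5 ≤ p) (hsol : IsPSolvable p G) {W : Type*} [CommGroup W] [Finite W]
    [Module (ZMod p) (Additive W)] (φ : G →* MulAut W) (hker : φ.ker = pCore p G) (g : G)
    (hg : g ^ p ∈ pCore p G) (hg' : g ∉ pCore p G)
    (hquad : ∀ w : W, φ g (φ g w / w) / (φ g w / w) = 1) : False := by
  have htb := Cfsg.Agent.Helper31.SCH.tb_lower_strong hsol φ hker g 0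
    (by simpa using hg) (by simpa using hg')
  apply htb
  have hstep : ∀ w : W, (linRep p φ g - 1) (Additive.ofMul w) = Additive.ofMul (φ g w / w) := by
    intro w
    show Additive.ofMul (φ g w) - Additive.ofMul w = Additive.ofMul _
    rw [← ofMul_div]
  have hsq : (linRep p φ g - 1) ^ 2 = 0 := by
    apply LinearMap.ext
    intro v
    induction v using Additive.rec with
    | ofMul w =>
      rw [pow_two, Module.End.mul_apply, hstep, hstep, hquad]
      rfl
  have he : p ^ 0 * (p - 1) - 1 = 2 + (p - 4) := by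
    rw [pow_zero, one_mul]; omega
  rw [he, pow_add, hsq, zero_mul]

theorem quad_contra (hp5 : 5 ≤ p) (hsol : IsPSolvable p G)
    (hC : Subgroup.centralizer (pCore p G : Set G) ≤ pCore p G)
    (hHab : ∀ x ∈ pCore p G, ∀ y ∈ pCore p G, x * y = y * x)
    (hHexp : ∀ x ∈ pCore p G, x ^ p = 1) (g : G) (hg : g ^ p ∈ pCore p G) (hg' : g ∉ pCore p G)
    (hquad : ∀ w ∈ pCore p G, cmt g (cmt g w) = 1) : False := by
  have hn : (pCore p G).Normal := Cfsg.pCore_normal p G
  letI iC : CommGroup ↥(pCore p G) := h68CommGroup (pCore p G) hHab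
  have hexp : ∀ v : Additive ↥(pCore p G), p • v = 0 := by
    intro v
    induction v using Additive.rec with
    | ofMul w =>
      rw [← ofMul_pow]
      have h1 : w ^ p = 1 := Subtype.ext (by simpa using hHexp w w.2)
      rw [h1]; rfl
  letI iM : Module (ZMod p) (Additive ↥(pCore p G)) := AddCommGroup.zmodModule hexp
  have hφ : ∀ (x : G) (w : ↥(pCore p G)),
      (((MulAut.conjNormal : G →* MulAut ↥(pCore p G)) x w : ↥(pCore p G)) : G) = x * w * x⁻¹ :=
    fun x w => MulAut.conjNormal_apply x w
  have hker : (MulAut.conjNormal : G →* MulAut ↥(pCore p G)).ker = pCore p G := by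
    ext x
    rw [MonoidHom.mem_ker]
    constructor
    · intro hx
      apply hC
      rw [Subgroup.mem_centralizer_iff]
      intro w hw
      have h1 := hφ x ⟨w, hw⟩
      rw [hx] at h1
      have h2 : w = x * w * x⁻¹ := h1
      calc w * x = x * w * x⁻¹ * x := by rw [← h2]
        _ = x * w := by group
    · intro hx
      ext w
      rw [hφ]
      have h1 := hHab x hx w w.2
      show x * w * x⁻¹ = w
      rw [h1]; group
  refine h68_quad_core hp5 hsol (W := ↥(pCore p G))
    (MulAut.conjNormal : G →* MulAut ↥(pCore p G)) hker g hg hg' ?_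
  intro w
  apply Subtype.ext
  have h1 : ∀ v : ↥(pCore p G),
      ((((MulAut.conjNormal : G →* MulAut ↥(pCore p G)) g v / v : ↥(pCore p G))) : G) =
        cmt g (v : G) := by
    intro v
    rw [div_eq_mul_inv, Subgroup.coe_mul, Subgroup.coe_inv, hφ]
    rfl
  rw [h1, h1]
  exact hquad w w.2

end G

end Cfsg.Agent.Helper68.SCH
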