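import Mathlib
import Cfsg.Agent.Lib.Helper31.SCHDefs

/-!
# SCH server (helper31, S4394): piece (P11) endgame_two by helper68
-/

set_option autoImplicit false
set_option linter.unusedSectionVars false
set_option linter.unusedVariables false

namespace Cfsg.Agent.Helper68.SCH
open Cfsg Cfsg.Agent.Helper31.SCH

section P
variable {P : Type*} [Group P] [Finite P] {p : ℕ} [Fact p.Prime]

theorem endgame_two (α : MulAut P) (hα3 : α ^ 3 = 1)
    (hfix : ∀ x : P, α x = x ↔ x ∈ Subgroup.center P)
    (hnf : ∀ x : P, x ∉ Subgroup.center P → x⁻¹ * α x ∉ Subgroup.center P)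
    (hna : ∃ a b : P, a * b ≠ b * a)
    (hidx : (Subgroup.center P).index = 4) (H : Subgroup P) (hZH : Subgroup.center P ≤ H)
    (hHidx : H.index = 2) (hHexp : ∀ x ∈ H, x ^ 2 = 1) : False := by
  classical
  have hαZ : ∀ y : P, α y ∈ Subgroup.center P ↔ y ∈ Subgroup.center P := by
    intro y
    constructor
    · intro h
      have h1 : α (α y) = α y := (hfix (α y)).mpr h
      have h2 : α y = y := α.injective h1
      exact (hfix y).mp h2
    · intro h
      rw [(hfix y).mpr h]; exact h
  have hα3' : ∀ y : P, α (α (α y)) = y := by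
    intro y
    have h1 := congrArg (fun f : MulAut P => f y) hα3
    simpa [pow_succ, MulAut.mul_apply] using h1
  obtain ⟨a, haH, haZ⟩ : ∃ a ∈ H, a ∉ Subgroup.center P := by
    by_contra hcon
    push Not at hcon
    have h1 : H = Subgroup.center P := le_antisymm hcon hZH
    rw [h1, hidx] at hHidx
    omega
  have : Fintype (P ⧸ Subgroup.center P) := Fintype.ofFinite _
  have hcard : Fintype.card (P ⧸ Subgroup.center P) = 4 := by
    rw [← Nat.card_eq_fintype_card, ← Subgroup.index_eq_card]; exact hidx
  have key : ∀ x : P, x ∉ Subgroup.center P → x ^ 2 = 1 := by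
    intro x hx
    have hx1 : α x ∉ Subgroup.center P := fun h => hx ((hαZ x).mp h)
    have hx2 : α (α x) ∉ Subgroup.center P := fun h => hx1 ((hαZ _).mp h)
    have e01 : (QuotientGroup.mk x : P ⧸ Subgroup.center P) ≠ QuotientGroup.mk (α x) := by
      intro h; exact hnf x hx (QuotientGroup.eq.mp h)
    have e12 : (QuotientGroup.mk (α x) : P ⧸ Subgroup.center P) ≠ QuotientGroup.mk (α (α x)) := by
      intro h; exact hnf (α x) hx1 (QuotientGroup.eq.mp h)
    have e02 : (QuotientGroup.mk x : P ⧸ Subgroup.center P) ≠ QuotientGroup.mk (α (α x)) := by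
      intro h
      have h1 : x⁻¹ * α (α x) ∈ Subgroup.center P := QuotientGroup.eq.mp h
      have h2 : α (x⁻¹ * α (α x)) ∈ Subgroup.center P := (hαZ _).mpr h1
      rw [map_mul, map_inv, hα3'] at h2
      apply hnf x hx
      have h3 : x⁻¹ * α x = ((α x)⁻¹ * x)⁻¹ := by group
      rw [h3]; exact (Subgroup.center P).inv_mem h2
    have n0 : ∀ y : P, y ∉ Subgroup.center P →
        (1 : P ⧸ Subgroup.center P) ≠ QuotientGroup.mk y := by
      intro y hy h
      exact hy ((QuotientGroup.eq_one_iff y).mp h.symm)
    have m3 : (QuotientGroup.mk (α x) : P ⧸ Subgroup.center P) ∉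
        ({QuotientGroup.mk (α (α x))} : Finset (P ⧸ Subgroup.center P)) := by
      simp only [Finset.mem_singleton]; exact e12
    have m2 : (QuotientGroup.mk x : P ⧸ Subgroup.center P) ∉
        ({QuotientGroup.mk (α x), QuotientGroup.mk (α (α x))} :
          Finset (P ⧸ Subgroup.center P)) := by
      simp only [Finset.mem_insert, Finset.mem_singleton, not_or]; exact ⟨e01, e02⟩
    have m1 : (1 : P ⧸ Subgroup.center P) ∉
        ({QuotientGroup.mk x, QuotientGroup.mk (α x), QuotientGroup.mk (α (α x))} :
          Finset (P ⧸ Subgroup.center P)) := by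
      simp only [Finset.mem_insert, Finset.mem_singleton, not_or]
      exact ⟨n0 x hx, n0 _ hx1, n0 _ hx2⟩
    have hS : ({1, QuotientGroup.mk x, QuotientGroup.mk (α x), QuotientGroup.mk (α (α x))} :
        Finset (P ⧸ Subgroup.center P)).card = 4 := by
      rw [Finset.card_insert_of_notMem m1, Finset.card_insert_of_notMem m2,
        Finset.card_insert_of_notMem m3, Finset.card_singleton]
    have hSuniv : ({1, QuotientGroup.mk x, QuotientGroup.mk (α x), QuotientGroup.mk (α (α x))} :
        Finset (P ⧸ Subgroup.center P)) = Finset.univ :=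
      Finset.eq_univ_of_card _ (by rw [hS, hcard])
    have haS : (QuotientGroup.mk a : P ⧸ Subgroup.center P) ∈
        ({1, QuotientGroup.mk x, QuotientGroup.mk (α x), QuotientGroup.mk (α (α x))} :
          Finset (P ⧸ Subgroup.center P)) := by
      rw [hSuniv]; exact Finset.mem_univ _
    simp only [Finset.mem_insert, Finset.mem_singleton] at haS
    have hin : ∀ y : P, (QuotientGroup.mk a : P ⧸ Subgroup.center P) = QuotientGroup.mk y →
        y ^ 2 = 1 := by
      intro y h
      have h1 : a⁻¹ * y ∈ Subgroup.center P := QuotientGroup.eq.mp h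
      have h2 : y ∈ H := by
        have h3 : y = a * (a⁻¹ * y) := by group
        rw [h3]; exact H.mul_mem haH (hZH h1)
      exact hHexp y h2
    rcases haS with h | h | h | h
    · exact absurd ((QuotientGroup.eq_one_iff a).mp h) haZ
    · exact hin x h
    · have h1 := hin (α x) h
      rw [← map_pow] at h1
      exact (MulEquiv.map_eq_one_iff α).mp h1
    · have h1 := hin (α (α x)) h
      rw [← map_pow, ← map_pow] at h1
      exact (MulEquiv.map_eq_one_iff α).mp ((MulEquiv.map_eq_one_iff α).mp h1)
  have hall : ∀ x : P, x ^ 2 = 1 := by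
    intro x
    by_cases hx : x ∈ Subgroup.center P
    · exact hHexp x (hZH hx)
    · exact key x hx
  obtain ⟨u, v, huv⟩ := hna
  apply huv
  have hinv : ∀ y : P, y⁻¹ = y := by
    intro y
    have h1 := hall y
    rw [pow_two] at h1
    exact inv_eq_of_mul_eq_one_right h1
  calc u * v = (u * v)⁻¹ := (hinv _).symm
    _ = v⁻¹ * u⁻¹ := mul_inv_rev u v
    _ = v * u := by rw [hinv, hinv]

end P

end Cfsg.Agent.Helper68.SCH
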