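import Cfsg.Agent.Lib.Helper39.MH4Basic

/-!
# MH4 server (helper39, S4221), piece (B2): `|C_G(s)| = f (f-1) (n-f) |C_{G_{p,q,i,s i}}(s)|`.
Written by helper68.
-/

set_option autoImplicit false
set_option linter.unusedSectionVars false
set_option linter.unusedVariables false

namespace Cfsg.Agent.Helper68.MH4

open Equiv Cfsg.Agent.Helper39.MH4

variable {α : Type*} [Fintype α] [DecidableEq α] {G : Subgroup (Perm α)}

theorem h68_inj4 (a0 a1 a2 a3 : α) (h01 : a0 ≠ a1) (h02 : a0 ≠ a2) (h03 : a0 ≠ a3)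
    (h12 : a1 ≠ a2) (h13 : a1 ≠ a3) (h23 : a2 ≠ a3) :
    Function.Injective (![a0, a1, a2, a3] : Fin 4 → α) := by
  intro j k h
  fin_cases j <;> fin_cases k <;> simp at h ⊢ <;>
    first
    | exact absurd h ‹_›
    | exact absurd h.symm ‹_›

/-- the 4-tuple `(p, q, i, s i)` -/
theorem h68_tuple_inj {s : Perm α} (hs2 : s * s = 1) {p q i : α} (hp : s p = p) (hq : s q = q)
    (hpq : p ≠ q) (hi : s i ≠ i) : Function.Injective (![p, q, i, s i] : Fin 4 → α) := by
  have hssi : s (s i) = i := by
    rw [← Perm.mul_apply, hs2, Perm.one_apply]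
  apply h68_inj4 _ _ _ _ hpq
  · rintro rfl
    exact hi hp
  · intro h
    apply hi
    have h1 : s p = s (s i) := congrArg s h
    rw [hp, hssi] at h1
    rw [← h, h1]
  · rintro rfl
    exact hi hq
  · intro h
    apply hi
    have h1 : s q = s (s i) := congrArg s h
    rw [hq, hssi] at h1
    rw [← h, h1]
  · exact fun h => hi h.symm

theorem card_CG_fix_fix_cycle (hyp : Hyp G) {s : Perm α} (hs : s ∈ G) (hs2 : s * s = 1)
    (p q i : α) (hp : s p = p) (hq : s q = q) (hpq : p ≠ q) (hi : s i ≠ i) :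
    Nat.card (CG G s) =
      (fx s).card * ((fx s).card - 1) * (Fintype.card α - (fx s).card) *
        Nat.card (CPS G {p, q, i, s i} s) := by
  classical
  have hssi : ∀ x, s (s x) = x := fun x => by
    rw [← Perm.mul_apply, hs2, Perm.one_apply]
  -- the action of `C = CG G s` on `(α × α) × α`
  set x0 : (α × α) × α := ((p, q), i) with hx0
  have hsmul : ∀ (g : ↥(CG G s)) (y : (α × α) × α),
      g • y = (((g : Perm α) y.1.1, (g : Perm α) y.1.2), (g : Perm α) y.2) := fun g y => rfl
  have hcomm : ∀ g : ↥(CG G s), ∀ x, (g : Perm α) (s x) = s ((g : Perm α) x) := by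
    intro g x
    have h1 := congrArg (fun f : Perm α => f x) g.2.2
    simpa [Perm.mul_apply] using h1
  set T : Finset ((α × α) × α) := (fx s).offDiag ×ˢ (fx s)ᶜ with hT
  have hmemT : ∀ y : (α × α) × α, y ∈ T ↔
      s y.1.1 = y.1.1 ∧ s y.1.2 = y.1.2 ∧ y.1.1 ≠ y.1.2 ∧ s y.2 ≠ y.2 := by
    intro y
    rw [hT, Finset.mem_product, Finset.mem_offDiag, Finset.mem_compl, mem_fx, mem_fx, mem_fx]
    tauto
  -- the orbit of `x0` is `T`
  have horb : MulAction.orbit ↥(CG G s) x0 = (T : Set ((α × α) × α)) := by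
    ext y
    rw [Finset.mem_coe, hmemT]
    constructor
    · rintro ⟨g, rfl⟩
      refine ⟨?_, ?_, ?_, ?_⟩
      · show s ((g : Perm α) p) = (g : Perm α) p
        rw [← hcomm, hp]
      · show s ((g : Perm α) q) = (g : Perm α) q
        rw [← hcomm, hq]
      · show (g : Perm α) p ≠ (g : Perm α) q
        exact fun h => hpq ((g : Perm α).injective h)
      · show s ((g : Perm α) i) ≠ (g : Perm α) i
        rw [← hcomm]
        exact fun h => hi ((g : Perm α).injective h)
    · rintro ⟨h1, h2, h3, h4⟩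
      obtain ⟨⟨p', q'⟩, i'⟩ := y
      simp only at h1 h2 h3 h4
      let a : Fin 4 ↪ α := ⟨![p, q, i, s i], h68_tuple_inj hs2 hp hq hpq hi⟩
      let b : Fin 4 ↪ α := ⟨![p', q', i', s i'], h68_tuple_inj hs2 h1 h2 h3 h4⟩
      have hπ0 : (Equiv.swap (2 : Fin 4) 3) 0 = 0 := by decide
      have hπ1 : (Equiv.swap (2 : Fin 4) 3) 1 = 1 := by decide
      have hπ2 : (Equiv.swap (2 : Fin 4) 3) 2 = 3 := by decide
      have hπ3 : (Equiv.swap (2 : Fin 4) 3) 3 = 2 := by decide
      have ha : ∀ j, s (a j) = a ((Equiv.swap (2 : Fin 4) 3) j) := by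
        intro j
        fin_cases j
        · show s p = a ((Equiv.swap (2 : Fin 4) 3) 0)
          rw [hπ0]
          exact hp
        · show s q = a ((Equiv.swap (2 : Fin 4) 3) 1)
          rw [hπ1]
          exact hq
        · show s i = a ((Equiv.swap (2 : Fin 4) 3) 2)
          rw [hπ2]
          rfl
        · show s (s i) = a ((Equiv.swap (2 : Fin 4) 3) 3)
          rw [hπ3]
          exact hssi i
      have hb : ∀ j, s (b j) = b ((Equiv.swap (2 : Fin 4) 3) j) := by
        intro j
        fin_cases j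
        · show s p' = b ((Equiv.swap (2 : Fin 4) 3) 0)
          rw [hπ0]
          exact h1
        · show s q' = b ((Equiv.swap (2 : Fin 4) 3) 1)
          rw [hπ1]
          exact h2
        · show s i' = b ((Equiv.swap (2 : Fin 4) 3) 2)
          rw [hπ2]
          rfl
        · show s (s i') = b ((Equiv.swap (2 : Fin 4) 3) 3)
          rw [hπ3]
          exact hssi i'
      obtain ⟨g, hgG, hgs, hgab⟩ := conf_conj hyp hs hs hs2 hs2 a b _ ha hb
      have hgC : g ∈ CG G s := ⟨hgG, mul_inv_eq_iff_eq_mul.mp hgs⟩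
      refine ⟨⟨g, hgC⟩, ?_⟩
      have e0 : g p = p' := hgab 0
      have e1 : g q = q' := hgab 1
      have e2 : g i = i' := hgab 2
      show ((g p, g q), g i) = ((p', q'), i')
      rw [e0, e1, e2]
  -- the stabilizer of `x0` is `CPS`
  have hstab : (MulAction.stabilizer ↥(CG G s) x0).map (CG G s).subtype =
      CPS G {p, q, i, s i} s := by
    ext g
    rw [Subgroup.mem_map, mem_CPS]
    constructor
    · rintro ⟨x, hx, rfl⟩
      rw [MulAction.mem_stabilizer_iff, hsmul] at hx
      have e0 : (x : Perm α) p = p := congrArg (fun y : (α × α) × α => y.1.1) hx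
      have e1 : (x : Perm α) q = q := congrArg (fun y : (α × α) × α => y.1.2) hx
      have e2 : (x : Perm α) i = i := congrArg (fun y : (α × α) × α => y.2) hx
      refine ⟨x.2.1, ?_, x.2.2⟩
      intro y hy
      simp only [Finset.mem_insert, Finset.mem_singleton] at hy
      rcases hy with rfl | rfl | rfl | rfl
      · exact e0
      · exact e1
      · exact e2
      · show (x : Perm α) (s i) = s i
        rw [hcomm, e2]
    · rintro ⟨hgG, hgD, hgs⟩
      refine ⟨⟨g, ⟨hgG, hgs⟩⟩, ?_, rfl⟩
      rw [MulAction.mem_stabilizer_iff, hsmul]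
      show ((g p, g q), g i) = ((p, q), i)
      rw [hgD p (by simp), hgD q (by simp), hgD i (by simp)]
  have hcardstab : Nat.card (MulAction.stabilizer ↥(CG G s) x0) =
      Nat.card (CPS G {p, q, i, s i} s) := by
    rw [← hstab]
    exact Nat.card_congr (Subgroup.equivMapOfInjective _ _ (CG G s).subtype_injective).toEquiv
  have hcardorb : Nat.card (MulAction.orbit ↥(CG G s) x0) =
      (fx s).card * ((fx s).card - 1) * (Fintype.card α - (fx s).card) := by
    rw [horb, Nat.card_coe_set_eq, Set.ncard_coe_finset, hT, Finset.card_product,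
      Finset.offDiag_card, Finset.card_compl, Nat.mul_sub_one]
  rw [Subgroup.card_eq_card_quotient_mul_card_subgroup (MulAction.stabilizer ↥(CG G s) x0),
    hcardstab, ← hcardorb]
  congr 1
  exact Nat.card_congr (MulAction.orbitEquivQuotientStabilizer ↥(CG G s) x0).symm

end Cfsg.Agent.Helper68.MH4
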