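import Cfsg.Agent.Lib.Helper39.StbAsm

/-!
Piece (X1) of helper39's lemma server "STB2" (row S2313): the general alternating sum over minimal
coset representatives (generalising `Helper19.Stb.alt_sum`).
-/

set_option autoImplicit false
set_option linter.unusedSectionVars false

namespace Cfsg.Agent.Helper68.Stb2

open Cfsg Cfsg.Agent.Helper6 Cfsg.Agent.Helper6.Weyl Cfsg.Agent.Helper59.Poincare Cfsg.Agent.Helper39.Stb Matrix

section Weyl

variable {n : ℕ} (D : VDatum n)

/-- (X1) the general alternating sum: `∑_S (-1)^{|S|} ∑_{u minimal for S} a(u) = a(u₀)`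
(same proof as `Helper19.Stb.alt_sum` with `a u` in place of `t ^ n(u)`; `longest_unique` is on main). -/
theorem alt_sum_gen (a : D.Wf → ℤ) (u0 : D.Wf) (h0 : IsLongest D ((u0 : D.Wf) : (Mat n)ˣ)) :
    ∑ S ∈ (Finset.univ : Finset (Fin n)).powerset,
      (-1 : ℤ) ^ S.card *
        ∑ᶠ u : {u : D.Wf // IsMin D (fun i => i ∈ S) ((u : D.Wf) : (Mat n)ˣ)},
          a (u : D.Wf) = a u0 := by
  classical
  have hfin := finite_Wf D
  let instF : Fintype D.Wf := Fintype.ofFinite _
  have hmin : ∀ S : Finset (Fin n),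
      (∑ᶠ u : {u : D.Wf // IsMin D (fun i => i ∈ S) ((u : D.Wf) : (Mat n)ˣ)}, a (u : D.Wf)) =
      ∑ u : D.Wf, if S ⊆ Finset.univ.filter
          (fun j => ((u : D.Wf) : (Mat n)ˣ) • (Pi.single j 1 : Vec n) ∈ D.posJ VDatum.allJ)
        then a u else 0 := by
    intro S
    have hiff : ∀ u : D.Wf, IsMin D (fun i => i ∈ S) ((u : D.Wf) : (Mat n)ˣ) ↔
        S ⊆ Finset.univ.filter
            (fun j => ((u : D.Wf) : (Mat n)ˣ) • (Pi.single j 1 : Vec n) ∈ D.posJ VDatum.allJ) := by
      intro u
      constructor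
      · intro h j hj
        exact Finset.mem_filter.2 ⟨Finset.mem_univ _, h j hj⟩
      · intro h j hj
        exact (Finset.mem_filter.1 (h hj)).2
    rw [finsum_eq_sum_of_fintype, ← Finset.sum_filter]
    have h2 := Finset.sum_subtype (F := inferInstance)
      (Finset.univ.filter fun u : D.Wf => S ⊆ Finset.univ.filter
        (fun j => ((u : D.Wf) : (Mat n)ˣ) • (Pi.single j 1 : Vec n) ∈ D.posJ VDatum.allJ))
      (p := fun u : D.Wf => IsMin D (fun i => i ∈ S) ((u : D.Wf) : (Mat n)ˣ))
      (fun u => by rw [Finset.mem_filter, hiff u]; simp)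
      (fun u : D.Wf => a u)
    rw [h2]
  simp_rw [hmin, Finset.mul_sum]
  rw [Finset.sum_comm]
  have hinner : ∀ u : D.Wf,
      ∑ S ∈ (Finset.univ : Finset (Fin n)).powerset, (-1 : ℤ) ^ S.card *
        (if S ⊆ Finset.univ.filter
          (fun j => ((u : D.Wf) : (Mat n)ˣ) • (Pi.single j 1 : Vec n) ∈ D.posJ VDatum.allJ)
        then a u else 0) =
      if u = u0 then a u0 else 0 := by
    intro u
    have hsub : (Finset.univ.filter
          (fun j => ((u : D.Wf) : (Mat n)ˣ) • (Pi.single j 1 : Vec n) ∈ D.posJ VDatum.allJ)).powerset ⊆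
        (Finset.univ : Finset (Fin n)).powerset :=
      Finset.powerset_mono.2 (Finset.subset_univ _)
    rw [← Finset.sum_subset hsub]
    · have : ∀ S ∈ (Finset.univ.filter
          (fun j => ((u : D.Wf) : (Mat n)ˣ) • (Pi.single j 1 : Vec n) ∈ D.posJ VDatum.allJ)).powerset,
          (-1 : ℤ) ^ S.card * (if S ⊆ Finset.univ.filter
            (fun j => ((u : D.Wf) : (Mat n)ˣ) • (Pi.single j 1 : Vec n) ∈ D.posJ VDatum.allJ)
          then a u else 0) =
          (-1 : ℤ) ^ S.card * a u := by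
        intro S hS
        rw [if_pos (Finset.mem_powerset.1 hS)]
      rw [Finset.sum_congr rfl this, ← Finset.sum_mul, Finset.sum_powerset_neg_one_pow_card]
      by_cases hu : u = u0
      · rw [if_pos hu]
        have hL : IsLongest D ((u : D.Wf) : (Mat n)ˣ) := by rw [hu]; exact h0
        rw [if_pos ((Cfsg.Agent.Helper19.Stb.filter_eq_empty_iff_isLongest D u.2).2 hL), one_mul, hu]
      · rw [if_neg hu, if_neg, zero_mul]
        intro he
        have hL := (Cfsg.Agent.Helper19.Stb.filter_eq_empty_iff_isLongest D u.2).1 he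
        exact hu (Subtype.ext (Cfsg.Agent.Helper95.Stb.longest_unique D u.2 u0.2 hL h0))
    · intro S _ hS
      rw [if_neg (fun h => hS (Finset.mem_powerset.2 h)), mul_zero]
  rw [Finset.sum_congr rfl (fun u _ => hinner u)]
  simp

end Weyl

end Cfsg.Agent.Helper68.Stb2
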