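import Mathlib
import Cfsg.Agent.Lib.Helper53.CD3ADefs
import Cfsg.Agent.Lib.Helper81.CharClifford
import Cfsg.Agent.Lib.Helper80.ConjIrr

/-!
# CD3A server (helper53, S4460 Theorem A): piece (DUAL) lowType_conj by helper68
-/

set_option autoImplicit false

namespace Cfsg.Agent.Helper68.CD3A

open Cfsg Cfsg.Agent.Helper53.CD3A Cfsg.Agent.Helper81
open scoped ComplexConjugate commutatorElement

universe u

theorem lowType_conj {G : Type u} [Group G] [Fintype G] [Fintype ↥(commutator G)] {n : ℕ}
    (φ ξ : IrrCharacter ↥(commutator G)) (hφ : LowType G n φ)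
    (hξ : (ξ : ↥(commutator G) → ℂ) = fun x => conj ((φ : ↥(commutator G) → ℂ) x)) :
    LowType G n ξ := by
  obtain ⟨χ, hdeg, hne⟩ := hφ
  refine ⟨⟨fun g => conj ((χ : G → ℂ) g), Cfsg.Agent.Helper80.isIrrCharacter_cconj χ.2⟩, ?_, ?_⟩
  · show charDegree (fun g => conj ((χ : G → ℂ) g)) ≠ n
    have : charDegree (fun g => conj ((χ : G → ℂ) g)) = charDegree (χ : G → ℂ) := by
      unfold charDegree; simp [Complex.conj_re]
    rw [this]; exact hdeg
  · rw [hξ]
    show classInner (fun x : ↥(commutator G) => conj ((χ : G → ℂ) x))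
      (fun x => conj ((φ : ↥(commutator G) → ℂ) x)) ≠ 0
    have : classInner (fun x : ↥(commutator G) => conj ((χ : G → ℂ) x))
        (fun x => conj ((φ : ↥(commutator G) → ℂ) x)) =
        conj (classInner (fun x : ↥(commutator G) => (χ : G → ℂ) x)
          (φ : ↥(commutator G) → ℂ)) := by
      unfold classInner
      rw [map_mul, map_inv₀, map_natCast, map_sum]
      congr 1
      apply Finset.sum_congr rfl
      intro x _
      rw [map_mul]
    rw [this]
    exact (map_ne_zero _).mpr hne

end Cfsg.Agent.Helper68.CD3A
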