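import Mathlib
import Cfsg.Agent.Lib.Helper53.CD3ADefs
import Cfsg.Agent.Lib.Helper81.CharClifford
import Cfsg.Agent.Lib.Helper76.CD2CaseB

/-!
# CD3A server (helper53, S4460 Theorem A): piece (FIN5) false_of_all_lowType by helper68
-/

set_option autoImplicit false

namespace Cfsg.Agent.Helper68.CD3A

open Cfsg Cfsg.Agent.Helper53.CD3A Cfsg.Agent.Helper81
open scoped ComplexConjugate commutatorElement

universe u

theorem false_of_all_lowType {G : Type u} [Group G] [Fintype G] [Fintype ↥(commutator G)] {n : ℕ}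
    (hχn : ∃ χ : IrrCharacter G, charDegree (χ : G → ℂ) = n)
    (hsame : SameDeg G (commutator G))
    (hall : ∀ ξ : IrrCharacter ↥(commutator G), LowType G n ξ) : False := by
  obtain ⟨ψ, hψ⟩ := hχn
  obtain ⟨ξ, e, _, _, hne⟩ := Cfsg.Agent.Helper76.CD2.exists_under (commutator G) ψ
  obtain ⟨χ, hdeg, hne'⟩ := hall ξ
  exact hdeg ((hsame ξ χ ψ hne' hne).trans hψ)

end Cfsg.Agent.Helper68.CD3A
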