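import Mathlib
import Cfsg.Agent.Lib.Helper53.CD3ADefs
import Cfsg.Agent.Lib.Helper81.CharClifford
import Cfsg.Agent.Lib.Helper81.CharFrob
import Cfsg.Agent.Lib.Helper79.Inflation

/-!
# CD3A server (helper53, S4460 Theorem A): piece (KER5) lowType_ker by helper68
-/

set_option autoImplicit false

namespace Cfsg.Agent.Helper68.CD3A

open Cfsg Cfsg.Agent.Helper53.CD3A Cfsg.Agent.Helper81
open scoped ComplexConjugate commutatorElement

universe u

theorem lowType_ker {G : Type u} [Group G] [Fintype G] [Fintype ↥(commutator G)] {m n : ℕ}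
    (hm : 1 < m) (hmn : m < n) (hχm : ∃ χ : IrrCharacter G, charDegree (χ : G → ℂ) = m)
    (hminn : MinComm G) (hsame : SameDeg G (commutator G)) :
    ∀ x : ↥(commutator G), (∀ φ : IrrCharacter ↥(commutator G), LowType G n φ →
      (φ : ↥(commutator G) → ℂ) x = (φ : ↥(commutator G) → ℂ) 1) → x = 1 := by
  classical
  intro x hx
  have hN : (commutator G).Normal := inferInstance
  let L : Subgroup ↥(commutator G) :=
    ⨅ φ : {φ : IrrCharacter ↥(commutator G) // LowType G n φ}, Cfsg.Agent.Helper79.irrKer φ.1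
  have hmemL : ∀ y : ↥(commutator G), y ∈ L ↔ ∀ φ : IrrCharacter ↥(commutator G),
      LowType G n φ → (φ : ↥(commutator G) → ℂ) y = (φ : ↥(commutator G) → ℂ) 1 := by
    intro y
    simp only [L, Subgroup.mem_iInf, Cfsg.Agent.Helper79.mem_irrKer, Subtype.forall]
  have hLn : (L.map (commutator G).subtype).Normal := by
    constructor
    rintro _ ⟨y, hy, rfl⟩ g
    refine ⟨⟨g * y * g⁻¹, hN.conj_mem y y.2 g⟩, ?_, rfl⟩
    rw [SetLike.mem_coe, hmemL] at hy ⊢
    intro φ hφ
    have hφg : LowType G n ⟨conjFun (commutator G) hN (φ : ↥(commutator G) → ℂ) g,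
        conjFun_isIrrCharacter _ hN φ.2 g⟩ := by
      obtain ⟨χ, hdeg, hne⟩ := hφ
      refine ⟨χ, hdeg, ?_⟩
      show classInner (fun x : ↥(commutator G) => (χ : G → ℂ) x)
        (conjFun (commutator G) hN (φ : ↥(commutator G) → ℂ) g) ≠ 0
      rw [classInner_restrict_conjFun (commutator G) hN
        (isClassFunction_of_isCharacter (Cfsg.Agent.Helper81.IsIrrCharacter.isCharacter χ.2))]
      exact hne
    have h1 : conjFun (commutator G) hN (φ : ↥(commutator G) → ℂ) g y =
        conjFun (commutator G) hN (φ : ↥(commutator G) → ℂ) g 1 := hy _ hφg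
    rw [conjFun_apply, conjFun_apply] at h1
    rw [h1]
    exact congrArg (φ : ↥(commutator G) → ℂ) (Subtype.ext (by simp))
  have hLle : L.map (commutator G).subtype ≤ commutator G := Subgroup.map_subtype_le L
  by_cases hbot : L.map (commutator G).subtype = ⊥
  · have hxL : x ∈ L := (hmemL x).mpr hx
    have h1 : (x : G) ∈ L.map (commutator G).subtype := ⟨x, hxL, rfl⟩
    rw [hbot, Subgroup.mem_bot] at h1
    exact Subtype.ext h1
  · exfalso
    have htop := hminn _ hLn hLle hbot
    have hall : ∀ y : ↥(commutator G), y ∈ L := by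
      intro y
      have h1 : (y : G) ∈ L.map (commutator G).subtype := by rw [htop]; exact y.2
      obtain ⟨z, hz, hzy⟩ := h1
      have h2 : z = y := Subtype.ext hzy
      exact h2 ▸ hz
    obtain ⟨χ, hχ⟩ := hχm
    have : Fintype (IrrCharacter ↥(commutator G)) := @Fintype.ofFinite _ irr_finite
    have hres : IsCharacter ↥(commutator G) (fun y : ↥(commutator G) => (χ : G → ℂ) y) :=
      isCharacter_restrict _ (Cfsg.Agent.Helper81.IsIrrCharacter.isCharacter χ.2)
    obtain ⟨a, ha⟩ := exists_nat_decomp hres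
    have hconst : ∀ y : ↥(commutator G), (χ : G → ℂ) y = (χ : G → ℂ) 1 := by
      intro y
      have h1 := congrFun ha y
      have h2 := congrFun ha 1
      simp only [Finset.sum_apply, Pi.smul_apply, smul_eq_mul] at h1 h2
      rw [show ((1 : ↥(commutator G)) : G) = 1 from rfl] at h2
      rw [h1, h2]
      apply Finset.sum_congr rfl
      intro φ _
      by_cases h0 : a φ = 0
      · simp [h0]
      · have hlow : LowType G n φ := by
          refine ⟨χ, by omega, ?_⟩
          rw [ha, classInner_nat_decomp (fun χ' => (a χ' : ℂ)) φ]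
          exact_mod_cast h0
        rw [(hmemL y).mp (hall y) φ hlow]
    have hc : (Fintype.card ↥(commutator G) : ℂ) ≠ 0 := by exact_mod_cast Fintype.card_ne_zero
    have hin : classInner (fun y : ↥(commutator G) => (χ : G → ℂ) y) (fun _ => (1 : ℂ)) ≠ 0 := by
      unfold classInner
      simp only [hconst, map_one, mul_one, Finset.sum_const, Finset.card_univ, nsmul_eq_mul,
        Nat.card_eq_fintype_card]
      rw [← mul_assoc, inv_mul_cancel₀ hc, one_mul]
      exact Cfsg.Agent.Helper79.irr_one_ne_zero χ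
    have hin1 : classInner (fun y : ↥(commutator G) =>
        ((⟨fun _ => 1, isIrrCharacter_one⟩ : IrrCharacter G) : G → ℂ) y) (fun _ => (1 : ℂ)) ≠ 0 := by
      show classInner (fun _ : ↥(commutator G) => (1 : ℂ)) (fun _ => (1 : ℂ)) ≠ 0
      unfold classInner
      simp [Nat.card_eq_fintype_card]
    have h3 := hsame ⟨fun _ => 1, isIrrCharacter_one⟩ χ ⟨fun _ => 1, isIrrCharacter_one⟩ hin hin1
    have h4 : charDegree (fun _ : G => (1 : ℂ)) = 1 := by unfold charDegree; simp
    rw [hχ] at h3
    change m = charDegree (fun _ : G => (1 : ℂ)) at h3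
    omega

end Cfsg.Agent.Helper68.CD3A
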