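import Mathlib
import Cfsg.Agent.Lib.Helper53.CD3ADefs
import Cfsg.Agent.Lib.Helper81.CharClifford
import Cfsg.Agent.Lib.Helper81.CharFrob

/-!
# CD3A server (helper53, S4460 Theorem A): piece (TRIV) exists_lowType by helper68
-/

set_option autoImplicit false

namespace Cfsg.Agent.Helper68.CD3A

open Cfsg Cfsg.Agent.Helper53.CD3A Cfsg.Agent.Helper81
open scoped ComplexConjugate commutatorElement

universe u

theorem exists_lowType {G : Type u} [Group G] [Fintype G] [Fintype ↥(commutator G)] {n : ℕ}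
    (hn : 1 < n) : ∃ φ : IrrCharacter ↥(commutator G), LowType G n φ := by
  classical
  refine ⟨⟨fun _ => 1, Cfsg.Agent.Helper81.isIrrCharacter_one⟩,
    ⟨fun _ => 1, Cfsg.Agent.Helper81.isIrrCharacter_one⟩, ?_, ?_⟩
  · show charDegree (fun _ : G => (1 : ℂ)) ≠ n
    have : charDegree (fun _ : G => (1 : ℂ)) = 1 := by
      unfold charDegree; simp
    rw [this]; omega
  · show classInner (fun _ : ↥(commutator G) => (1 : ℂ)) (fun _ => (1 : ℂ)) ≠ 0
    unfold classInner
    simp [Nat.card_eq_fintype_card]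

end Cfsg.Agent.Helper68.CD3A
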