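import Mathlib
import Cfsg.Agent.Lib.Helper67.BGCruxDefs
import Cfsg.Agent.Lib.Helper97.BG144
import Cfsg.Agent.Lib.Helper55.BGHall
import Cfsg.Agent.Lib.Helper45.BG143
import Cfsg.Agent.Lib.Helper34.BG10a
import Cfsg.Agent.Lib.Helper60.BG161C2a

/-!
# CRUX (L8) of S1430/S1431, sub-lemma (C6-b2) of package (C6) = Step A (helper68 for helper67)
-/

set_option autoImplicit false
set_option linter.unusedVariables false
set_option linter.unusedSectionVars false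
set_option linter.style.haveILetI false

namespace Cfsg.Agent.Helper68.BGCrux

open Subgroup Cfsg
open Cfsg.Agent.Helper52 (sylCard)
open Cfsg.Agent.Helper67.BGCrux

variable {G : Type*} [Group G] [Finite G]

/-- **(C6-b2)** docstring of stepA, (b2): if `Z ≤ T ≤ E1`, T a t-group, t ∈ τ1(M) ∩ τ1(H), card Z = t and Z centralizes Y, then T centralizes Y. -/
theorem c6_b2 (hG : IsMinSimpleOddOrder G) (rows : Rows G) (inp : Inputs G)
    {M E Y H E1 E3 : Subgroup G} {s : ℕ} (cfg : Cfg M E Y s) (es : EStruct M E E1 E3)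
    (hs : HSide M E Y H s) (hEY : E ≤ normalizer (Y : Set G)) {t : ℕ} [Fact t.Prime]
    (htM : t ∈ tau1 M) (htH : t ∈ tau1 H) {T Z : Subgroup G} (hT : IsPGroup t T) (hTE1 : T ≤ E1)
    (hZT : Z ≤ T) (hZ : Nat.card Z = t) (hZY : Z ≤ centralizer (Y : Set G)) :
    T ≤ centralizer (Y : Set G) := by
  classical
  have ht : t.Prime := Fact.out
  have hsP : s.Prime := cfg.hs.1
  have hYP : (Nat.card Y).Prime := by rw [cfg.hY]; exact hsP
  have hYne : Y ≠ ⊥ := by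
    intro h0
    rw [h0, Subgroup.card_bot] at hYP
    exact Nat.not_prime_one hYP
  have hZne : Z ≠ ⊥ := by
    intro h0
    rw [h0, Subgroup.card_bot] at hZ
    exact Nat.not_prime_one (hZ ▸ ht)
  have hTE : T ≤ E := hTE1.trans es.hE1.1
  have hZE : Z ≤ E := hZT.trans hTE
  have hZH : Z ≤ H := hZE.trans hs.hEH
  have hZM : Z ≤ M := hZE.trans cfg.hE.1
  have hYcZ : Y ≤ centralizer (Z : Set G) := Subgroup.le_centralizer_iff.mp hZY
  -- a maximal subgroup over `N_G(Z)`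
  have hZtop : Z ≠ ⊤ := ne_top_of_le_ne_top cfg.hM.1 hZM
  obtain ⟨L, hL, hNL⟩ := Cfsg.Agent.Helper34.BG.exists_coatom_ge
    (Cfsg.Agent.Helper34.BG.normalizer_ne_top hG hZne hZtop)
  have hne : sigmaCore H ⊓ centralizer (Z : Set G) ≠ ⊥ :=
    ne_bot_of_le_ne_bot hYne (le_inf hs.hYσ hYcZ)
  have hZLσ : Z ≤ sigmaCore L :=
    inp.l6 H hs.hH t ht htH.2.1 htH.2.2.2.2 Z hZH hZ hne L hL hNL
  have hHallL : IsPiHallOf (sigma L) (sigmaCore L) L := (rows.r1350 L hL).1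
  have htL : t ∈ sigma L := hHallL.2.1 t ht (hZ ▸ Subgroup.card_dvd_of_le hZLσ)
  -- `T ≤ C_G(Z) ≤ L`
  have hTcZ : T ≤ centralizer (Z : Set G) := by
    intro τ hτ
    rw [mem_centralizer_iff]
    intro z hz
    obtain ⟨⟨g, hg⟩, hgen⟩ := es.cyc1.exists_generator
    obtain ⟨i, hi⟩ := mem_zpowers_iff.mp (hgen ⟨τ, hTE1 hτ⟩)
    obtain ⟨j, hj⟩ := mem_zpowers_iff.mp (hgen ⟨z, hTE1 (hZT hz)⟩)
    have hi' : g ^ i = τ := by simpa using congrArg Subtype.val hi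
    have hj' : g ^ j = z := by simpa using congrArg Subtype.val hj
    rw [← hi', ← hj', ← zpow_add, ← zpow_add, add_comm]
  have hCL : centralizer (Z : Set G) ≤ L := (Subgroup.centralizer_le_normalizer _).trans hNL
  have hTL : T ≤ L := hTcZ.trans hCL
  have hYL : Y ≤ L := hYcZ.trans hCL
  have hTLσ : T ≤ sigmaCore L :=
    Cfsg.Agent.Helper55.BGB.le_sigmaCore_of_isPGroup ht hHallL htL hTL hT
  -- suppose `T` does not centralize `Y`
  by_contra hcon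
  have hex : ∃ τ ∈ T, ∃ y ∈ Y, τ * y * τ⁻¹ * y⁻¹ ≠ 1 := by
    by_contra hno
    push Not at hno
    apply hcon
    intro τ hτ
    rw [mem_centralizer_iff]
    intro y hy
    have h1 := hno τ hτ y hy
    have h2 : τ * y = (τ * y * τ⁻¹ * y⁻¹) * (y * τ) := by group
    rw [h2, h1, one_mul]
  obtain ⟨τ, hτ, y, hy, hne1⟩ := hex
  have hτN : τ ∈ normalizer (Y : Set G) := hEY (hTE hτ)
  have hcY : τ * y * τ⁻¹ * y⁻¹ ∈ Y :=
    Y.mul_mem ((mem_normalizer_iff.mp hτN y).mp hy) (Y.inv_mem hy)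
  have hcL : τ * y * τ⁻¹ * y⁻¹ ∈ sigmaCore L := by
    have h1 : τ * y * τ⁻¹ * y⁻¹ = τ * (y * τ⁻¹ * y⁻¹) := by group
    rw [h1]
    exact Subgroup.mul_mem _ (hTLσ hτ)
      (Cfsg.Agent.Helper45.BG143.conj_mem_sigmaCore (hYL hy) (Subgroup.inv_mem _ (hTLσ hτ)))
  -- so `Y ≤ L_σ`
  have hYLσ : Y ≤ sigmaCore L := by
    intro y' hy'
    obtain ⟨k, hk⟩ := mem_zpowers_iff.mp
      (Cfsg.Agent.Helper60.BG161.mem_zpowers_of_prime_card hYP hcY hne1 y' hy')
    rw [← hk]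
    exact Subgroup.zpow_mem _ hcL k
  have hsL : s ∈ sigma L := hHallL.2.1 s hsP (cfg.hY ▸ Subgroup.card_dvd_of_le hYLσ)
  obtain ⟨g, hg⟩ := inp.sp H L hs.hH hL ⟨s, hs.hsH, hsL⟩
  have hσ : sigma L = sigma H := by
    rw [hg]; exact Cfsg.Agent.Helper97.BG144.sigma_map_conj H g
  exact htH.2.1 (hσ ▸ htL)

end Cfsg.Agent.Helper68.BGCrux
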