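import Mathlib
import Cfsg.Agent.Lib.Helper32.C3Defs
import Cfsg.Agent.Lib.Helper48.CoprimeGen

/-!
# C3 server (helper32, S4415): piece (O4) comm_Q_of_odd by helper68
-/

set_option autoImplicit false
set_option linter.unusedVariables false

namespace Cfsg.Agent.Helper68.C3

open Cfsg.Agent.Helper32.C3

universe u v

theorem comm_Q_of_odd {G : Type u} [Group G] [Finite G] {V : Type v} [AddCommGroup V]
    [Module (ZMod 3) V] [Finite V] (ρ : Representation (ZMod 3) G V)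
    (Q : Subgroup G) (b q₁ q₂ q₃ : G) (v₁ v₂ v₃ : V) (hw : QWeights ρ Q b q₁ q₂ q₃ v₁ v₂ v₃)
    (hb3 : b ^ 3 = 1)
    (hO3 : ∀ y : G, (orderOf y).Coprime 6 → y * q₁ = q₁ * y → q₂ * y * q₂⁻¹ = y⁻¹ → y = 1)
    (Y : Subgroup G) (hY : (Nat.card ↥Y).Coprime 6)
    (hQY : Q ≤ Subgroup.normalizer (Y : Set G)) (hbY : b ∈ Subgroup.normalizer (Y : Set G)) :
    ∀ y ∈ Y, ∀ q ∈ Q, y * q = q * y := by
  classical
  obtain ⟨hm1, hm2, hm3⟩ := hw.mem
  obtain ⟨hs1, hs2, hs3⟩ := hw.sq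
  obtain ⟨h12, h21, h23, h32, h13, h31⟩ := hw.mul
  obtain ⟨hc1, hc2, hc3⟩ := hw.conj
  obtain ⟨n1, n2, n3, n12, n23, n13⟩ := hw.ne
  have hfintype : Fintype ↥Q := Fintype.ofFinite _
  -- conjugation by b⁻¹
  have hd2 : b⁻¹ * q₂ * b = q₁ := by rw [← hc1]; group
  have hd3 : b⁻¹ * q₃ * b = q₂ := by rw [← hc2]; group
  have hd1 : b⁻¹ * q₁ * b = q₃ := by rw [← hc3]; group
  -- elements of Y have order prime to 6
  have hord : ∀ y ∈ Y, (orderOf y).Coprime 6 := by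
    intro y hy
    have h1 : orderOf y ∣ Nat.card ↥Y := by
      have := orderOf_dvd_natCard (⟨y, hy⟩ : ↥Y)
      rwa [Subgroup.orderOf_mk] at this
    exact Nat.Coprime.coprime_dvd_left h1 hY
  -- the q₁ case
  have L1 : ∀ y ∈ Y, y * q₁ = q₁ * y → ∀ q ∈ Q, y * q = q * y := by
    intro y hy hyq
    have hq2Y : q₂ * y * q₂⁻¹ ∈ Y := (Subgroup.mem_normalizer_iff.mp (hQY hm2) y).mp hy
    have hq2i : q₂⁻¹ = q₂ := inv_eq_of_mul_eq_one_right hs2
    have hy'Y : y⁻¹ * (q₂ * y * q₂⁻¹) ∈ Y := Y.mul_mem (Y.inv_mem hy) hq2Y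
    have hq12 : q₁ * q₂ = q₂ * q₁ := by rw [h12, h21]
    have hyiq : y⁻¹ * q₁ = q₁ * y⁻¹ := by
      calc y⁻¹ * q₁ = y⁻¹ * (q₁ * y) * y⁻¹ := by group
        _ = y⁻¹ * (y * q₁) * y⁻¹ := by rw [hyq]
        _ = q₁ * y⁻¹ := by group
    have hcomm1 : y⁻¹ * (q₂ * y * q₂⁻¹) * q₁ = q₁ * (y⁻¹ * (q₂ * y * q₂⁻¹)) := by
      rw [hq2i]
      calc y⁻¹ * (q₂ * y * q₂) * q₁ = y⁻¹ * q₂ * y * (q₂ * q₁) := by group
        _ = y⁻¹ * q₂ * y * (q₁ * q₂) := by rw [hq12]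
        _ = y⁻¹ * q₂ * (y * q₁) * q₂ := by group
        _ = y⁻¹ * q₂ * (q₁ * y) * q₂ := by rw [hyq]
        _ = y⁻¹ * (q₂ * q₁) * y * q₂ := by group
        _ = y⁻¹ * (q₁ * q₂) * y * q₂ := by rw [hq12]
        _ = (y⁻¹ * q₁) * q₂ * y * q₂ := by group
        _ = (q₁ * y⁻¹) * q₂ * y * q₂ := by rw [hyiq]
        _ = q₁ * (y⁻¹ * (q₂ * y * q₂)) := by group
    have hinv : q₂ * (y⁻¹ * (q₂ * y * q₂⁻¹)) * q₂⁻¹ = (y⁻¹ * (q₂ * y * q₂⁻¹))⁻¹ := by
      rw [hq2i]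
      calc q₂ * (y⁻¹ * (q₂ * y * q₂)) * q₂ = q₂ * y⁻¹ * q₂ * y * (q₂ * q₂) := by group
        _ = q₂ * y⁻¹ * q₂ * y := by rw [hs2, mul_one]
        _ = (y⁻¹ * (q₂ * y * q₂))⁻¹ := by
          rw [mul_inv_rev, mul_inv_rev, mul_inv_rev, inv_inv, hq2i]
          group
    have hy'1 := hO3 _ (hord _ hy'Y) hcomm1 hinv
    have hyq2 : y * q₂ = q₂ * y := by
      have h1 : q₂ * y * q₂⁻¹ = y := by
        calc q₂ * y * q₂⁻¹ = y * (y⁻¹ * (q₂ * y * q₂⁻¹)) := by group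
          _ = y := by rw [hy'1, mul_one]
      calc y * q₂ = (q₂ * y * q₂⁻¹) * q₂ := by rw [h1]
        _ = q₂ * y := by group
    intro q hq
    rcases hw.all q hq with rfl | rfl | rfl | rfl
    · simp
    · exact hyq
    · exact hyq2
    · rw [← h12]
      calc y * (q₁ * q₂) = (y * q₁) * q₂ := by group
        _ = q₁ * (y * q₂) := by rw [hyq]; group
        _ = q₁ * q₂ * y := by rw [hyq2]; group
  -- conjugating by b
  have hbmem : ∀ y ∈ Y, b⁻¹ * y * b ∈ Y := by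
    intro y hy
    refine (Subgroup.mem_normalizer_iff.mp hbY (b⁻¹ * y * b)).mpr ?_
    have : b * (b⁻¹ * y * b) * b⁻¹ = y := by group
    rw [this]; exact hy
  have Lconj : ∀ y : G, (∀ q ∈ Q, (b⁻¹ * y * b) * q = q * (b⁻¹ * y * b)) →
      ∀ q ∈ Q, y * q = q * y := by
    intro y hcen
    have key : ∀ q q' : G, q' ∈ Q → b⁻¹ * q * b = q' → y * q = q * y := by
      intro q q' hq' hqq'
      have h1 := hcen q' hq'
      rw [← hqq'] at h1
      calc y * q = b * ((b⁻¹ * y * b) * (b⁻¹ * q * b)) * b⁻¹ := by group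
        _ = b * ((b⁻¹ * q * b) * (b⁻¹ * y * b)) * b⁻¹ := by rw [h1]
        _ = q * y := by group
    intro q hq
    rcases hw.all q hq with rfl | rfl | rfl | rfl
    · simp
    · exact key _ _ hm3 hd1
    · exact key _ _ hm1 hd2
    · exact key _ _ hm2 hd3
  have L2 : ∀ y ∈ Y, y * q₂ = q₂ * y → ∀ q ∈ Q, y * q = q * y := by
    intro y hy hyq
    apply Lconj y
    apply L1 _ (hbmem y hy)
    rw [← hd2]
    calc b⁻¹ * y * b * (b⁻¹ * q₂ * b) = b⁻¹ * (y * q₂) * b := by group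
      _ = b⁻¹ * (q₂ * y) * b := by rw [hyq]
      _ = b⁻¹ * q₂ * b * (b⁻¹ * y * b) := by group
  have L3 : ∀ y ∈ Y, y * q₃ = q₃ * y → ∀ q ∈ Q, y * q = q * y := by
    intro y hy hyq
    apply Lconj y
    apply L2 _ (hbmem y hy)
    rw [← hd3]
    calc b⁻¹ * y * b * (b⁻¹ * q₃ * b) = b⁻¹ * (y * q₃) * b := by group
      _ = b⁻¹ * (q₃ * y) * b := by rw [hyq]
      _ = b⁻¹ * q₃ * b * (b⁻¹ * y * b) := by group
  -- Q is elementary abelian of order ≥ 4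
  have hQsq : ∀ x ∈ Q, x ^ 2 = 1 := by
    intro x hx
    rw [pow_two]
    rcases hw.all x hx with rfl | rfl | rfl | rfl
    · simp
    · exact hs1
    · exact hs2
    · exact hs3
  have hQc : ∀ x ∈ Q, ∀ y ∈ Q, x * y = y * x := by
    intro x hx y hy
    have hinv : ∀ z ∈ Q, z⁻¹ = z := by
      intro z hz
      have := hQsq z hz
      rw [pow_two] at this
      exact inv_eq_of_mul_eq_one_right this
    calc x * y = (x * y)⁻¹ := (hinv _ (Q.mul_mem hx hy)).symm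
      _ = y⁻¹ * x⁻¹ := mul_inv_rev x y
      _ = y * x := by rw [hinv y hy, hinv x hx]
  have hcard : 2 ^ 2 ≤ Nat.card ↥Q := by
    rw [Nat.card_eq_fintype_card]
    have m3 : (⟨q₂, hm2⟩ : ↥Q) ∉ ({⟨q₃, hm3⟩} : Finset ↥Q) := by
      simp only [Finset.mem_singleton, Subtype.mk.injEq]; exact n23
    have m2 : (⟨q₁, hm1⟩ : ↥Q) ∉ ({⟨q₂, hm2⟩, ⟨q₃, hm3⟩} : Finset ↥Q) := by
      simp only [Finset.mem_insert, Finset.mem_singleton, Subtype.mk.injEq, not_or]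
      exact ⟨n12, n13⟩
    have m1 : (1 : ↥Q) ∉ ({⟨q₁, hm1⟩, ⟨q₂, hm2⟩, ⟨q₃, hm3⟩} : Finset ↥Q) := by
      simp only [Finset.mem_insert, Finset.mem_singleton, not_or]
      refine ⟨fun h => n1 ?_, fun h => n2 ?_, fun h => n3 ?_⟩
      · exact (congrArg Subtype.val h).symm
      · exact (congrArg Subtype.val h).symm
      · exact (congrArg Subtype.val h).symm
    have hS : ({1, ⟨q₁, hm1⟩, ⟨q₂, hm2⟩, ⟨q₃, hm3⟩} : Finset ↥Q).card = 4 := by
      rw [Finset.card_insert_of_notMem m1, Finset.card_insert_of_notMem m2,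
        Finset.card_insert_of_notMem m3, Finset.card_singleton]
    calc 2 ^ 2 = ({1, ⟨q₁, hm1⟩, ⟨q₂, hm2⟩, ⟨q₃, hm3⟩} : Finset ↥Q).card := by rw [hS]; norm_num
      _ ≤ Fintype.card ↥Q := Finset.card_le_univ _
  have hY2 : (Nat.card ↥Y).Coprime 2 := Nat.Coprime.coprime_dvd_right (by norm_num : 2 ∣ 6) hY
  have : Fact (Nat.Prime 2) := ⟨Nat.prime_two⟩
  have hle : Y ≤ Subgroup.centralizer (Q : Set G) := by
    apply Cfsg.Agent.Helper48.le_of_forall_inf_centralizer_le (p := 2) Q Y _ hQc hQsq hcard hQY hY2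
    intro c hc hc1 y hy
    have hyY : y ∈ Y := hy.1
    have hyc : c * y = y * c := by
      have := (Subgroup.mem_centralizer_iff.mp hy.2) c (Set.mem_singleton c)
      exact this
    rw [Subgroup.mem_centralizer_iff]
    intro q hq
    have hcases := hw.all c hc
    rcases hcases with rfl | rfl | rfl | rfl
    · exact absurd rfl hc1
    · exact (L1 y hyY hyc.symm q hq).symm
    · exact (L2 y hyY hyc.symm q hq).symm
    · exact (L3 y hyY hyc.symm q hq).symm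
  intro y hy q hq
  exact ((Subgroup.mem_centralizer_iff.mp (hle hy)) q hq).symm

end Cfsg.Agent.Helper68.C3
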