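import Mathlib
import Cfsg.Agent.Lib.Helper32.C3Defs

/-!
# C3 server (helper32, S4415): piece (S1) abelian_normal_central by helper68
-/

set_option autoImplicit false
set_option linter.unusedVariables false

namespace Cfsg.Agent.Helper68.C3

open Cfsg.Agent.Helper32.C3

universe u v

theorem abelian_normal_central {G : Type u} [Group G] [Finite G] {V : Type v} [AddCommGroup V]
    [Module (ZMod 3) V] [Finite V] (ρ : Representation (ZMod 3) G V) (R Q : Subgroup G) (b : G)
    (h : Cfg ρ R Q b) (hS : ¬ CaseM ρ R) (hP1 : Subgroup.normalClosure ({b} : Set G) = ⊤)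
    (hP2 : ∀ z ∈ Subgroup.center G, z = 1 ∨ ρ z = -1)
    (A : Subgroup G) (hAn : A.Normal) (hAR : A ≤ R) (hA2 : IsPGroup 2 ↥A)
    (hAc : ∀ x ∈ A, ∀ y ∈ A, x * y = y * x) : A ≤ Subgroup.center G := by
  classical
  have fact1 : ∀ a ∈ A, a * a = 1 → a ∈ Subgroup.center G := by
    let Ω : Subgroup G :=
      { carrier := {a | a ∈ A ∧ a * a = 1}
        one_mem' := ⟨A.one_mem, by simp⟩
        mul_mem' := by
          rintro x y ⟨hx, hx2⟩ ⟨hy, hy2⟩
          refine ⟨A.mul_mem hx hy, ?_⟩
          have hc := hAc x hx y hy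
          calc x * y * (x * y) = x * (y * x) * y := by group
            _ = x * (x * y) * y := by rw [hc]
            _ = (x * x) * (y * y) := by group
            _ = 1 := by rw [hx2, hy2, one_mul]
        inv_mem' := by
          rintro x ⟨hx, hx2⟩
          refine ⟨A.inv_mem hx, ?_⟩
          calc x⁻¹ * x⁻¹ = (x * x)⁻¹ := by group
            _ = 1 := by rw [hx2, inv_one] }
    have hΩn : Ω.Normal := by
      constructor
      rintro x ⟨hx, hx2⟩ g
      refine ⟨hAn.conj_mem x hx g, ?_⟩
      calc g * x * g⁻¹ * (g * x * g⁻¹) = g * (x * x) * g⁻¹ := by group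
        _ = 1 := by rw [hx2]; group
    have hΩR : Ω ≤ R := fun x hx => hAR hx.1
    have hsc : ∀ a ∈ Ω, ρ a = 1 ∨ ρ a = -1 := by
      intro a ha
      by_contra hcon
      push Not at hcon
      exact hS ⟨Ω, hΩn, hΩR, fun x hx => hx.2, a, ha, hcon.1, hcon.2⟩
    intro a ha ha2
    rw [Subgroup.mem_center_iff]
    intro g
    apply h.faith
    rw [map_mul, map_mul]
    rcases hsc a ⟨ha, ha2⟩ with h1 | h1
    · rw [h1, mul_one, one_mul]
    · rw [h1, mul_neg, neg_mul, mul_one, one_mul]
  have step : ∀ a ∈ A, a * a ∈ Subgroup.center G → a ∈ Subgroup.center G := by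
    intro a ha ha2
    rw [Subgroup.mem_center_iff] at ha2
    have hle : Subgroup.normalClosure ({b} : Set G) ≤ Subgroup.centralizer ({a} : Set G) := by
      show Subgroup.closure (Group.conjugatesOfSet ({b} : Set G)) ≤ _
      rw [Subgroup.closure_le]
      intro g hg
      rw [Group.mem_conjugatesOfSet_iff] at hg
      obtain ⟨b', hb', hconj⟩ := hg
      rw [Set.mem_singleton_iff] at hb'
      subst hb'
      obtain ⟨x, hx⟩ := isConj_iff.mp hconj
      have hg3 : g * g * g = 1 := by
        rw [← hx]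
        have hb3 : b' * b' * b' = 1 := by
          have := h.b3
          rw [pow_succ, pow_two] at this
          exact this
        calc x * b' * x⁻¹ * (x * b' * x⁻¹) * (x * b' * x⁻¹) = x * (b' * b' * b') * x⁻¹ := by group
          _ = 1 := by rw [hb3]; group
      have hu : g * a * g⁻¹ ∈ A := hAn.conj_mem a ha g
      have hai : a⁻¹ ∈ A := A.inv_mem ha
      have hcc : (a⁻¹ * (g * a * g⁻¹)) * (a⁻¹ * (g * a * g⁻¹)) = 1 := by
        have hc1 := hAc (g * a * g⁻¹) hu a⁻¹ hai
        have hu2 : g * a * g⁻¹ * (g * a * g⁻¹) = a * a := by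
          calc g * a * g⁻¹ * (g * a * g⁻¹) = g * (a * a) * g⁻¹ := by group
            _ = (a * a) * g * g⁻¹ := by rw [ha2 g]
            _ = a * a := by group
        calc a⁻¹ * (g * a * g⁻¹) * (a⁻¹ * (g * a * g⁻¹))
            = a⁻¹ * ((g * a * g⁻¹) * a⁻¹) * (g * a * g⁻¹) := by group
          _ = a⁻¹ * (a⁻¹ * (g * a * g⁻¹)) * (g * a * g⁻¹) := by rw [hc1]
          _ = a⁻¹ * a⁻¹ * ((g * a * g⁻¹) * (g * a * g⁻¹)) := by group
          _ = 1 := by rw [hu2]; group
      have hcA : a⁻¹ * (g * a * g⁻¹) ∈ A := A.mul_mem hai hu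
      have hcz := fact1 _ hcA hcc
      rw [Subgroup.mem_center_iff] at hcz
      obtain ⟨c, hc⟩ : ∃ c, c = a⁻¹ * (g * a * g⁻¹) := ⟨_, rfl⟩
      rw [← hc] at hcc hcz
      have e1 : g * a * g⁻¹ = a * c := by rw [hc]; group
      have e2 : g * (g * a * g⁻¹) * g⁻¹ = a := by
        rw [e1]
        calc g * (a * c) * g⁻¹ = (g * a * g⁻¹) * (g * c) * g⁻¹ := by group
          _ = (a * c) * (c * g) * g⁻¹ := by rw [e1, hcz g]
          _ = a * (c * c) := by group
          _ = a := by rw [hcc, mul_one]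
      have hgg : g * g = g⁻¹ := by
        calc g * g = g * g * g * g⁻¹ := by group
          _ = g⁻¹ := by rw [hg3, one_mul]
      have e3 : g⁻¹ * a * g = a := by
        calc g⁻¹ * a * g = (g * g) * a * (g * g)⁻¹ := by rw [hgg, inv_inv]
          _ = g * (g * a * g⁻¹) * g⁻¹ := by group
          _ = a := e2
      rw [SetLike.mem_coe, Subgroup.mem_centralizer_iff]
      intro y hy
      rw [Set.mem_singleton_iff] at hy
      subst hy
      calc y * g = g * (g⁻¹ * y * g) := by group
        _ = g * y := by rw [e3]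
    rw [hP1] at hle
    rw [Subgroup.mem_center_iff]
    intro g
    have h1 := hle (Subgroup.mem_top g)
    rw [Subgroup.mem_centralizer_iff] at h1
    exact (h1 a (Set.mem_singleton a)).symm
  have ind : ∀ k : ℕ, ∀ a ∈ A, a ^ (2 ^ k) = 1 → a ∈ Subgroup.center G := by
    intro k
    induction k with
    | zero =>
      intro a _ h1
      rw [pow_zero, pow_one] at h1
      rw [h1]; exact Subgroup.one_mem _
    | succ k ih =>
      intro a ha h1
      apply step a ha
      apply ih (a * a) (A.mul_mem ha ha)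
      rw [← pow_two, ← pow_mul, ← pow_succ']; exact h1
  intro a ha
  obtain ⟨k, hk⟩ := hA2 ⟨a, ha⟩
  apply ind k a ha
  have h1 := congrArg Subtype.val hk
  simpa using h1

end Cfsg.Agent.Helper68.C3
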