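import Mathlib
import Cfsg.Agent.Lib.Helper32.C3Defs
import Cfsg.Agent.Lib.Helper2.Nilpotent

/-!
# C3 server (helper32, S4415): piece (S2) eslike_of_caseS by helper68
-/

set_option autoImplicit false
set_option linter.unusedVariables false
set_option linter.style.haveILetI false
set_option linter.unusedSectionVars false

namespace Cfsg.Agent.Helper68.C3

open Cfsg.Agent.Helper32.C3

universe u v

/-- in a finite 2-group, a normal subgroup not inside the centre contains an element outside the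
centre whose square and all of whose commutators are central -/
theorem h68_second_center {T₀ : Type*} [Group T₀] [Finite T₀] (hT : IsPGroup 2 T₀)
    (D₀ : Subgroup T₀) [D₀.Normal] (hD : ¬ D₀ ≤ Subgroup.center T₀) :
    ∃ d ∈ D₀, d ∉ Subgroup.center T₀ ∧ d * d ∈ Subgroup.center T₀ ∧
      ∀ u : T₀, d * u * d⁻¹ * u⁻¹ ∈ Subgroup.center T₀ := by
  classical
  haveI : Fact (Nat.Prime 2) := ⟨Nat.prime_two⟩
  haveI : Group.IsNilpotent T₀ := hT.isNilpotent
  have hK : D₀.map (QuotientGroup.mk' (Subgroup.center T₀)) ≠ ⊥ := by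
    intro h
    apply hD
    intro d hd
    have h1 : QuotientGroup.mk' (Subgroup.center T₀) d ∈
        D₀.map (QuotientGroup.mk' (Subgroup.center T₀)) := ⟨d, hd, rfl⟩
    rw [h, Subgroup.mem_bot] at h1
    exact (QuotientGroup.eq_one_iff d).mp h1
  haveI : (D₀.map (QuotientGroup.mk' (Subgroup.center T₀))).Normal :=
    Subgroup.Normal.map inferInstance _ (QuotientGroup.mk'_surjective _)
  have h2 := Cfsg.Agent.Helper2.normal_inf_center_ne_bot
    (D₀.map (QuotientGroup.mk' (Subgroup.center T₀))) hK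
  obtain ⟨a, ha⟩ := (Subgroup.ne_bot_iff_exists_ne_one).mp h2
  have hx1 : (a : T₀ ⧸ Subgroup.center T₀) ≠ 1 := fun h => ha (Subtype.ext h)
  have hq2 : IsPGroup 2 (T₀ ⧸ Subgroup.center T₀) := hT.to_quotient _
  have hex : ∃ j : ℕ, (a : T₀ ⧸ Subgroup.center T₀) ^ 2 ^ j = 1 := hq2 _
  have hj0 : Nat.find hex ≠ 0 := by
    intro h0
    have := Nat.find_spec hex
    rw [h0, pow_zero, pow_one] at this
    exact hx1 this
  obtain ⟨i, hi⟩ : ∃ i, Nat.find hex = i + 1 := ⟨Nat.find hex - 1, by omega⟩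
  have hy1 : (a : T₀ ⧸ Subgroup.center T₀) ^ 2 ^ i ≠ 1 := by
    intro h
    have := Nat.find_min' hex h
    omega
  have hy2 : (a : T₀ ⧸ Subgroup.center T₀) ^ 2 ^ i * (a : T₀ ⧸ Subgroup.center T₀) ^ 2 ^ i = 1 := by
    have := Nat.find_spec hex
    rw [hi, pow_succ, pow_mul, pow_two] at this
    exact this
  have hyK : (a : T₀ ⧸ Subgroup.center T₀) ^ 2 ^ i ∈
      D₀.map (QuotientGroup.mk' (Subgroup.center T₀)) := Subgroup.pow_mem _ a.2.1 _
  have hyc : (a : T₀ ⧸ Subgroup.center T₀) ^ 2 ^ i ∈ Subgroup.center (T₀ ⧸ Subgroup.center T₀) :=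
    Subgroup.pow_mem _ a.2.2 _
  obtain ⟨d, hd, hdy⟩ := hyK
  refine ⟨d, hd, ?_, ?_, ?_⟩
  · intro hdc
    apply hy1
    rw [← hdy]
    exact (QuotientGroup.eq_one_iff d).mpr hdc
  · apply (QuotientGroup.eq_one_iff (d * d)).mp
    have : ((d * d : T₀) : T₀ ⧸ Subgroup.center T₀) =
        QuotientGroup.mk' (Subgroup.center T₀) d * QuotientGroup.mk' (Subgroup.center T₀) d := rfl
    rw [this, hdy]; exact hy2
  · intro u
    apply (QuotientGroup.eq_one_iff _).mp
    have h3 : ((d * u * d⁻¹ * u⁻¹ : T₀) : T₀ ⧸ Subgroup.center T₀) =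
        QuotientGroup.mk' (Subgroup.center T₀) d * QuotientGroup.mk' (Subgroup.center T₀) u *
          (QuotientGroup.mk' (Subgroup.center T₀) d)⁻¹ *
          (QuotientGroup.mk' (Subgroup.center T₀) u)⁻¹ := rfl
    rw [h3, hdy]
    have h4 := (Subgroup.mem_center_iff.mp hyc) (QuotientGroup.mk' (Subgroup.center T₀) u)
    rw [← h4]; group

section ZZ
variable {G : Type*} [Group G] (z : G)

/-- `x ∈ {1, z}` -/
def h68inZ (x : G) : Prop := x = 1 ∨ x = z

theorem h68inZ_mul (hzz : z * z = 1) {x y : G} (hx : h68inZ z x) (hy : h68inZ z y) :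
    h68inZ z (x * y) := by
  rcases hx with rfl | rfl <;> rcases hy with rfl | rfl
  · left; simp
  · right; simp
  · right; simp
  · left; exact hzz

theorem h68inZ_inv (hzz : z * z = 1) {x : G} (hx : h68inZ z x) : h68inZ z x⁻¹ := by
  rcases hx with rfl | rfl
  · left; simp
  · right; exact inv_eq_of_mul_eq_one_right hzz

theorem h68inZ_comm (hzc : ∀ g : G, g * z = z * g) {x : G} (hx : h68inZ z x) (g : G) :
    g * x = x * g := by
  rcases hx with rfl | rfl
  · simp
  · exact hzc g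

/-- `x` and `y` commute up to `{1, z}` -/
def h68C (x y : G) : Prop := ∃ ε, h68inZ z ε ∧ x * y = ε * (y * x)

theorem h68C_mul (hzz : z * z = 1) (hzc : ∀ g : G, g * z = z * g) {x y u : G}
    (hx : h68C z x u) (hy : h68C z y u) : h68C z (x * y) u := by
  obtain ⟨ε₁, h1, e1⟩ := hx
  obtain ⟨ε₂, h2, e2⟩ := hy
  refine ⟨ε₂ * ε₁, h68inZ_mul z hzz h2 h1, ?_⟩
  calc x * y * u = x * (y * u) := by group
    _ = x * (ε₂ * (u * y)) := by rw [e2]
    _ = (x * ε₂) * (u * y) := by group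
    _ = (ε₂ * x) * (u * y) := by rw [h68inZ_comm z hzc h2 x]
    _ = ε₂ * ((x * u) * y) := by group
    _ = ε₂ * ((ε₁ * (u * x)) * y) := by rw [e1]
    _ = ε₂ * ε₁ * (u * (x * y)) := by group

theorem h68C_inv (hzz : z * z = 1) (hzc : ∀ g : G, g * z = z * g) {x u : G}
    (hx : h68C z x u) : h68C z x⁻¹ u := by
  obtain ⟨ε, h1, e1⟩ := hx
  refine ⟨ε⁻¹, h68inZ_inv z hzz h1, ?_⟩
  symm
  calc ε⁻¹ * (u * x⁻¹) = ε⁻¹ * (x⁻¹ * (x * u) * x⁻¹) := by group
    _ = ε⁻¹ * (x⁻¹ * (ε * (u * x)) * x⁻¹) := by rw [e1]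
    _ = ε⁻¹ * ((x⁻¹ * ε) * u) := by group
    _ = ε⁻¹ * ((ε * x⁻¹) * u) := by rw [h68inZ_comm z hzc h1 x⁻¹]
    _ = x⁻¹ * u := by group

theorem h68C_conj (hzc : ∀ g : G, g * z = z * g) {x u g : G}
    (hx : h68C z x (g⁻¹ * u * g)) : h68C z (g * x * g⁻¹) u := by
  obtain ⟨ε, h1, e1⟩ := hx
  refine ⟨ε, h1, ?_⟩
  calc g * x * g⁻¹ * u = g * (x * (g⁻¹ * u * g)) * g⁻¹ := by group
    _ = g * (ε * (g⁻¹ * u * g * x)) * g⁻¹ := by rw [e1]
    _ = (g * ε) * (g⁻¹ * u * g * x * g⁻¹) := by group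
    _ = (ε * g) * (g⁻¹ * u * g * x * g⁻¹) := by rw [h68inZ_comm z hzc h1 g]
    _ = ε * (u * (g * x * g⁻¹)) := by group

theorem h68sq_mul (hzz : z * z = 1) (hzc : ∀ g : G, g * z = z * g) {x y : G}
    (hx : h68inZ z (x * x)) (hy : h68inZ z (y * y)) (hxy : h68C z x y) :
    h68inZ z ((x * y) * (x * y)) := by
  obtain ⟨ε, h1, e1⟩ := hxy
  have hyx : y * x = ε⁻¹ * (x * y) := by rw [e1]; group
  have hi := h68inZ_inv z hzz h1
  have e : (x * y) * (x * y) = ε⁻¹ * ((x * x) * (y * y)) := by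
    calc (x * y) * (x * y) = x * (y * x) * y := by group
      _ = x * (ε⁻¹ * (x * y)) * y := by rw [hyx]
      _ = (x * ε⁻¹) * (x * y) * y := by group
      _ = (ε⁻¹ * x) * (x * y) * y := by rw [h68inZ_comm z hzc hi x]
      _ = ε⁻¹ * ((x * x) * (y * y)) := by group
  rw [e]
  exact h68inZ_mul z hzz hi (h68inZ_mul z hzz hx hy)

theorem h68sq_inv (hzz : z * z = 1) {x : G} (hx : h68inZ z (x * x)) : h68inZ z (x⁻¹ * x⁻¹) := by
  have : x⁻¹ * x⁻¹ = (x * x)⁻¹ := by group
  rw [this]; exact h68inZ_inv z hzz hx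

theorem h68sq_conj (hzc : ∀ g : G, g * z = z * g) {x : G} (g : G) (hx : h68inZ z (x * x)) :
    h68inZ z ((g * x * g⁻¹) * (g * x * g⁻¹)) := by
  have e : (g * x * g⁻¹) * (g * x * g⁻¹) = x * x := by
    calc (g * x * g⁻¹) * (g * x * g⁻¹) = (g * (x * x)) * g⁻¹ := by group
      _ = ((x * x) * g) * g⁻¹ := by rw [h68inZ_comm z hzc hx g]
      _ = x * x := by group
  rw [e]; exact hx

end ZZ

theorem eslike_of_caseS {G : Type u} [Group G] [Finite G] {V : Type v} [AddCommGroup V]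
    [Module (ZMod 3) V] [Finite V] (ρ : Representation (ZMod 3) G V) (R Q : Subgroup G) (b : G)
    (h : Cfg ρ R Q b) (T : Subgroup G) (hT : IsO2 R T)
    (hP2 : ∀ z ∈ Subgroup.center G, z = 1 ∨ ρ z = -1)
    (hS1 : ∀ A : Subgroup G, A.Normal → A ≤ R → IsPGroup 2 ↥A →
      (∀ x ∈ A, ∀ y ∈ A, x * y = y * x) → A ≤ Subgroup.center G)
    (hS2b : ∀ (N : Subgroup G) (z : G), N ≤ T → z ∈ N → z ≠ 1 → z * z = 1 →
      (∀ t ∈ T, t * z = z * t) → (∀ n ∈ N, n * n = 1 ∨ n * n = z) →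
      (∀ t ∈ T, ∀ n ∈ N, t * n = n * t ∨ t * n = z * (n * t)) →
      (∀ t ∈ T, (∀ n ∈ N, t * n = n * t) → t = 1 ∨ t = z) → Nat.card ↥T ≤ Nat.card ↥N) :
    ∃ z : G, ESLike ρ T z := by
  classical
  haveI hTn : T.Normal := hT.normal
  haveI : Fact (Nat.Prime 2) := ⟨Nat.prime_two⟩
  have hT2 : IsPGroup 2 ↥T := hT.pg
  -- Step 1
  have hTne : T ≠ ⊥ := by
    intro hbot
    have hR : ∀ r ∈ R, r = 1 := by
      intro r hr
      have h1 := hT.selfc r hr (by
        intro t ht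
        rw [hbot, Subgroup.mem_bot] at ht
        rw [ht]; simp)
      rwa [hbot, Subgroup.mem_bot] at h1
    have hQ1 : ∀ q : ↥Q, q = 1 := fun q => Subtype.ext (hR _ (h.QR q.2))
    haveI : Subsingleton ↥Q := ⟨fun a c => by rw [hQ1 a, hQ1 c]⟩
    have h2 : Nat.card ↥Q = 1 := Nat.card_of_subsingleton (1 : ↥Q)
    rw [h.four.1] at h2
    omega
  -- Step 2
  haveI : Nontrivial ↥T := (Subgroup.nontrivial_iff_ne_bot T).mpr hTne
  haveI : Nontrivial ↥(Subgroup.center ↥T) := hT2.center_nontrivial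
  obtain ⟨z₀, hz₀⟩ := exists_ne (1 : ↥(Subgroup.center ↥T))
  obtain ⟨z, hzdef⟩ : ∃ z : G, z = ((z₀ : ↥T) : G) := ⟨_, rfl⟩
  have hzT : z ∈ T := by rw [hzdef]; exact (z₀ : ↥T).2
  have hz1 : z ≠ 1 := by
    intro h1
    apply hz₀
    apply Subtype.ext
    apply Subtype.ext
    rw [← hzdef, h1]; rfl
  have hzcomT : ∀ u ∈ T, z * u = u * z := by
    intro u hu
    have h1 := (Subgroup.mem_center_iff.mp z₀.2) ⟨u, hu⟩
    have h2 := congrArg Subtype.val h1
    rw [hzdef]
    exact h2.symm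
  have hZt : T ⊓ Subgroup.centralizer (T : Set G) ≤ Subgroup.center G := by
    apply hS1
    · infer_instance
    · exact inf_le_left.trans hT.le
    · exact hT2.to_le inf_le_left
    · intro x hx y hy
      exact ((Subgroup.mem_centralizer_iff.mp hx.2) y hy.1).symm
  have hzcen : z ∈ Subgroup.centralizer (T : Set G) := by
    rw [Subgroup.mem_centralizer_iff]
    intro u hu
    exact (hzcomT u hu).symm
  have hzc : z ∈ Subgroup.center G := hZt (Subgroup.mem_inf.mpr ⟨hzT, hzcen⟩)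
  have hρz : ρ z = -1 := (hP2 z hzc).resolve_left hz1
  have hzz : z * z = 1 := by
    apply h.faith
    rw [map_mul, hρz, map_one, neg_mul_neg, one_mul]
  have hzcG : ∀ g : G, g * z = z * g := Subgroup.mem_center_iff.mp hzc
  have factZ : ∀ t ∈ T, (∀ u ∈ T, t * u = u * t) → t = 1 ∨ t = z := by
    intro t ht hcom
    have htcen : t ∈ Subgroup.centralizer (T : Set G) := by
      rw [Subgroup.mem_centralizer_iff]
      intro u hu
      exact (hcom u hu).symm
    have htc : t ∈ Subgroup.center G := hZt (Subgroup.mem_inf.mpr ⟨ht, htcen⟩)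
    rcases hP2 t htc with h1 | h1
    · exact Or.inl h1
    · right
      apply h.faith
      rw [h1, hρz]
  have hZT : ∀ x : G, h68inZ z x → x ∈ T := by
    intro x hx
    rcases hx with rfl | rfl
    · exact T.one_mem
    · exact hzT
  -- the subgroup N
  let N : Subgroup G :=
    { carrier := {t | t ∈ T ∧ h68inZ z (t * t) ∧ ∀ u ∈ T, h68C z t u}
      one_mem' := ⟨T.one_mem, Or.inl (by simp), fun u _ => ⟨1, Or.inl rfl, by simp⟩⟩
      mul_mem' := by
        rintro x y ⟨hx, hx2, hxc⟩ ⟨hy, hy2, hyc⟩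
        exact ⟨T.mul_mem hx hy, h68sq_mul z hzz hzcG hx2 hy2 (hxc y hy),
          fun u hu => h68C_mul z hzz hzcG (hxc u hu) (hyc u hu)⟩
      inv_mem' := by
        rintro x ⟨hx, hx2, hxc⟩
        exact ⟨T.inv_mem hx, h68sq_inv z hzz hx2, fun u hu => h68C_inv z hzz hzcG (hxc u hu)⟩ }
  have hNT : N ≤ T := fun t ht => ht.1
  haveI hNn : N.Normal := by
    constructor
    rintro x ⟨hx, hx2, hxc⟩ g
    refine ⟨hTn.conj_mem x hx g, h68sq_conj z hzcG g hx2, fun u hu => ?_⟩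
    apply h68C_conj z hzcG
    apply hxc
    have := hTn.conj_mem u hu g⁻¹
    rwa [inv_inv] at this
  have hzN : z ∈ N :=
    ⟨hzT, Or.inl hzz, fun u hu => ⟨1, Or.inl rfl, by rw [one_mul]; exact hzcomT u hu⟩⟩
  -- Step 4
  have F4 : ∀ n ∈ N, (∀ m ∈ N, n * m = m * n) → h68inZ z n := by
    intro n hn hcom
    have hle : N ⊓ Subgroup.centralizer (N : Set G) ≤ Subgroup.center G := by
      apply hS1
      · infer_instance
      · exact inf_le_left.trans (hNT.trans hT.le)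
      · exact hT2.to_le (inf_le_left.trans hNT)
      · intro x hx y hy
        exact ((Subgroup.mem_centralizer_iff.mp hx.2) y hy.1).symm
    have hncen : n ∈ Subgroup.centralizer (N : Set G) := by
      rw [Subgroup.mem_centralizer_iff]
      intro m hm
      exact (hcom m hm).symm
    have hnc : n ∈ Subgroup.center G := hle (Subgroup.mem_inf.mpr ⟨hn, hncen⟩)
    rw [Subgroup.mem_center_iff] at hnc
    exact factZ n (hNT hn) (fun u _ => (hnc u).symm)
  -- centre of ↥T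
  have hcenT : ∀ t : ↥T, t ∈ Subgroup.center ↥T ↔ h68inZ z (t : G) := by
    intro t
    constructor
    · intro ht
      apply factZ _ t.2
      intro u hu
      have h1 := (Subgroup.mem_center_iff.mp ht) ⟨u, hu⟩
      exact (congrArg Subtype.val h1).symm
    · intro ht
      rw [Subgroup.mem_center_iff]
      intro u
      apply Subtype.ext
      exact h68inZ_comm z hzcG ht (u : G)
  -- Step 5
  have F5 : ∀ t ∈ T, (∀ n ∈ N, t * n = n * t) → t = 1 ∨ t = z := by
    intro t ht hcom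
    by_contra hnot
    have hD₀ : ¬ ((T ⊓ Subgroup.centralizer (N : Set G)).subgroupOf T) ≤ Subgroup.center ↥T := by
      intro hle
      have h1 : (⟨t, ht⟩ : ↥T) ∈ (T ⊓ Subgroup.centralizer (N : Set G)).subgroupOf T := by
        rw [Subgroup.mem_subgroupOf]
        have htcen : t ∈ Subgroup.centralizer (N : Set G) := by
          rw [Subgroup.mem_centralizer_iff]
          intro n hn
          exact (hcom n hn).symm
        exact Subgroup.mem_inf.mpr ⟨ht, htcen⟩
      exact hnot ((hcenT _).mp (hle h1))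
    obtain ⟨d, hdD, hdnc, hdsq, hdcomm⟩ := h68_second_center hT2 _ hD₀
    rw [Subgroup.mem_subgroupOf] at hdD
    have hdN : (d : G) ∈ N := by
      refine ⟨d.2, ?_, ?_⟩
      · exact (hcenT (d * d)).mp hdsq
      · intro u hu
        refine ⟨(d : G) * u * (d : G)⁻¹ * u⁻¹, ?_, by group⟩
        exact (hcenT (d * ⟨u, hu⟩ * d⁻¹ * ⟨u, hu⟩⁻¹)).mp (hdcomm ⟨u, hu⟩)
    have hdZ : h68inZ z (d : G) := by
      apply F4 _ hdN
      intro m hm
      exact ((Subgroup.mem_centralizer_iff.mp hdD.2) m hm).symm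
    exact hdnc ((hcenT d).mpr hdZ)
  -- N = T
  have hcard : Nat.card ↥T ≤ Nat.card ↥N := by
    apply hS2b N z hNT hzN hz1 hzz (fun t _ => hzcG t)
    · intro n hn; exact hn.2.1
    · intro t ht n hn
      obtain ⟨ε, hε, e⟩ := hn.2.2 t ht
      -- e : n * t = ε * (t * n)
      rcases hε with h1 | h1
      · left; rw [h1, one_mul] at e; exact e.symm
      · right
        rw [h1] at e
        calc t * n = z * (z * (t * n)) := by rw [← mul_assoc, hzz, one_mul]
          _ = z * (n * t) := by rw [e]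
    · exact F5
  have hNeq : N = T := Subgroup.eq_of_le_of_card_ge hNT hcard
  refine ⟨z, ⟨hzT, hρz, hzcG, ?_, ?_, factZ⟩⟩
  · intro t ht u hu
    have htN : t ∈ N := by rw [hNeq]; exact ht
    obtain ⟨ε, hε, e⟩ := htN.2.2 u hu
    rcases hε with h1 | h1
    · left; rw [h1, one_mul] at e; exact e
    · right; rw [h1] at e; exact e
  · intro t ht
    have htN : t ∈ N := by rw [hNeq]; exact ht
    exact htN.2.1

end Cfsg.Agent.Helper68.C3
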