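import Mathlib
import Cfsg.Agent.Lib.Helper53.CD3ADefs
import Cfsg.Agent.Lib.Helper81.CharClifford
import Cfsg.Agent.Lib.Helper81.CharFrob
import Cfsg.Agent.Lib.Helper79.Inflation

/-!
# CD3A server (helper53, S4460 Theorem A): piece (NOP) noNPart by helper68
-/

set_option autoImplicit false
set_option linter.unusedVariables false

namespace Cfsg.Agent.Helper68.CD3A

open Cfsg Cfsg.Agent.Helper53.CD3A Cfsg.Agent.Helper81
open scoped ComplexConjugate commutatorElement

universe u

theorem noNPart {G : Type u} [Group G] [Fintype G] [Fintype ↥(commutator G)] {m n : ℕ} (hm : 1 < m)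
    (hmn : m < n) (hcd : DegIn G m n) (hminn : MinComm G) (hsame : SameDeg G (commutator G))
    (hvan : Vanish G m n) : NoNPart G m n := by
  classical
  intro χ ψ hχ hψ
  by_contra hne
  have hv := hvan χ ψ hχ hψ hne
  have hN : (commutator G).Normal := inferInstance
  have hc : (Fintype.card ↥(commutator G) : ℂ) ≠ 0 := by exact_mod_cast Fintype.card_ne_zero
  have hin1 : classInner (fun y : ↥(commutator G) =>
      ((⟨fun _ => 1, isIrrCharacter_one⟩ : IrrCharacter G) : G → ℂ) y) (fun _ => (1 : ℂ)) ≠ 0 := by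
    show classInner (fun _ : ↥(commutator G) => (1 : ℂ)) (fun _ => (1 : ℂ)) ≠ 0
    unfold classInner
    simp [Nat.card_eq_fintype_card]
  have h4 : charDegree (fun _ : G => (1 : ℂ)) = 1 := by unfold charDegree; simp
  have hLn : (commutator G ⊓ Cfsg.Agent.Helper79.irrKer ψ).Normal := inferInstance
  by_cases hbot : commutator G ⊓ Cfsg.Agent.Helper79.irrKer ψ = ⊥
  · -- χ vanishes on N off 1
    have hzero : ∀ y : ↥(commutator G), y ≠ 1 → (χ : G → ℂ) y = 0 := by
      intro y hy
      apply hv (y : G) y.2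
      intro hker
      have h1 : (y : G) ∈ commutator G ⊓ Cfsg.Agent.Helper79.irrKer ψ :=
        ⟨y.2, (Cfsg.Agent.Helper79.mem_irrKer ψ _).mpr hker⟩
      rw [hbot, Subgroup.mem_bot] at h1
      exact hy (Subtype.ext h1)
    have hin : classInner (fun y : ↥(commutator G) => (χ : G → ℂ) y) (fun _ => (1 : ℂ)) ≠ 0 := by
      unfold classInner
      rw [Finset.sum_eq_single (1 : ↥(commutator G))]
      · simp only [map_one, mul_one, Nat.card_eq_fintype_card]
        exact mul_ne_zero (inv_ne_zero hc) (Cfsg.Agent.Helper79.irr_one_ne_zero χ)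
      · intro y _ hy
        show (χ : G → ℂ) (y : G) * conj (1 : ℂ) = 0
        rw [hzero y hy, zero_mul]
      · intro h; exact absurd (Finset.mem_univ _) h
    have h3 := hsame ⟨fun _ => 1, isIrrCharacter_one⟩ χ ⟨fun _ => 1, isIrrCharacter_one⟩ hin hin1
    rw [hχ] at h3
    change m = charDegree (fun _ : G => (1 : ℂ)) at h3
    omega
  · have htop := hminn _ hLn inf_le_left hbot
    have hconst : ∀ y : ↥(commutator G), (ψ : G → ℂ) y = (ψ : G → ℂ) 1 := by
      intro y
      have h1 : (y : G) ∈ commutator G ⊓ Cfsg.Agent.Helper79.irrKer ψ := by rw [htop]; exact y.2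
      exact (Cfsg.Agent.Helper79.mem_irrKer ψ _).mp h1.2
    have hin : classInner (fun y : ↥(commutator G) => (ψ : G → ℂ) y) (fun _ => (1 : ℂ)) ≠ 0 := by
      unfold classInner
      simp only [hconst, map_one, mul_one, Finset.sum_const, Finset.card_univ, nsmul_eq_mul,
        Nat.card_eq_fintype_card]
      rw [← mul_assoc, inv_mul_cancel₀ hc, one_mul]
      exact Cfsg.Agent.Helper79.irr_one_ne_zero ψ
    have h3 := hsame ⟨fun _ => 1, isIrrCharacter_one⟩ ψ ⟨fun _ => 1, isIrrCharacter_one⟩ hin hin1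
    rw [hψ] at h3
    change n = charDegree (fun _ : G => (1 : ℂ)) at h3
    omega

end Cfsg.Agent.Helper68.CD3A
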