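import Mathlib

/-!
# Regular orbits of odd `p`-groups on power sets (Gluck's lemma for `p`-groups)

`exists_subset_stabilizer_le_kernel`: a finite `p`-group `X`, `p` odd, acting on a type and
leaving a finite set `S` invariant, has a subset `J ⊆ S` whose setwise stabiliser acts trivially
on `S`.
-/

namespace Cfsg.Agent.Helper68.RegOrbit

universe u v

/-- In a finite `p`-group every proper subgroup lies in a normal subgroup of index `p`. -/
theorem exists_normal_index_prime {p : ℕ} [Fact p.Prime] {H : Type*} [Group H] [Finite H]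
    (hH : IsPGroup p H) (St : Subgroup H) (hSt : St ≠ ⊤) :
    ∃ M : Subgroup H, St ≤ M ∧ M.Normal ∧ M.index = p := by
  obtain ⟨M, hM, hStM⟩ := (eq_top_or_exists_le_coatom St).resolve_left hSt
  have : Group.IsNilpotent H := hH.isNilpotent
  have hMn : M.Normal :=
    Subgroup.NormalizerCondition.normal_of_coatom M Group.normalizerCondition_of_isNilpotent hM
  refine ⟨M, hStM, hMn, ?_⟩
  have := hMn
  have hQ : IsPGroup p (H ⧸ M) := hH.to_quotient M
  have hcard : Nat.card (H ⧸ M) ≠ 1 := by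
    rw [← Subgroup.index_eq_card]
    intro h
    exact hM.1 (Subgroup.index_eq_one.mp h)
  have hpdvd : p ∣ Nat.card (H ⧸ M) := by
    obtain ⟨n, hn⟩ := hQ.exists_card_eq
    rcases n with _ | n
    · rw [pow_zero] at hn; exact absurd hn hcard
    · rw [hn, pow_succ]; exact dvd_mul_left _ _
  obtain ⟨g, hg⟩ := exists_prime_orderOf_dvd_card' p hpdvd
  have hg1 : g ≠ 1 := by
    rintro rfl
    rw [orderOf_one] at hg
    exact (Fact.out : p.Prime).one_lt.ne hg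
  have hZtop : Subgroup.zpowers g = ⊤ := by
    have hle : M ≤ (Subgroup.zpowers g).comap (QuotientGroup.mk' M) := by
      intro m hm
      rw [Subgroup.mem_comap]
      have : (QuotientGroup.mk' M) m = 1 := (QuotientGroup.eq_one_iff m).mpr hm
      rw [this]; exact one_mem _
    rcases eq_or_lt_of_le hle with h | h
    · exfalso
      obtain ⟨x, rfl⟩ := QuotientGroup.mk'_surjective M g
      have hx : x ∈ (Subgroup.zpowers (QuotientGroup.mk' M x)).comap (QuotientGroup.mk' M) :=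
        Subgroup.mem_zpowers _
      rw [← h] at hx
      exact hg1 ((QuotientGroup.eq_one_iff x).mpr hx)
    · have htop := hM.2 _ h
      rw [eq_top_iff]
      intro q _
      obtain ⟨x, rfl⟩ := QuotientGroup.mk'_surjective M q
      have hx : x ∈ (Subgroup.zpowers g).comap (QuotientGroup.mk' M) := by rw [htop]; trivial
      exact hx
  calc M.index = Nat.card (H ⧸ M) := Subgroup.index_eq_card M
    _ = Nat.card (⊤ : Subgroup (H ⧸ M)) := Subgroup.card_top.symm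
    _ = Nat.card (Subgroup.zpowers g) := by rw [hZtop]
    _ = orderOf g := Nat.card_zpowers g
    _ = p := hg

/-- The setwise stabiliser of `J`, in "iff" form. -/
def setStab (Y : Type*) [Group Y] {Ω : Type*} [MulAction Y Ω] (J : Set Ω) : Subgroup Y where
  carrier := {y | ∀ ω, y • ω ∈ J ↔ ω ∈ J}
  one_mem' := by intro ω; simp
  mul_mem' := by
    intro a b ha hb ω
    show (a * b) • ω ∈ J ↔ ω ∈ J
    rw [mul_smul]
    exact (ha (b • ω)).trans (hb ω)
  inv_mem' := by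
    intro a ha ω
    show a⁻¹ • ω ∈ J ↔ ω ∈ J
    have := ha (a⁻¹ • ω)
    rw [smul_inv_smul] at this
    exact this.symm

theorem mem_setStab {Y : Type*} [Group Y] {Ω : Type*} [MulAction Y Ω] {J : Set Ω} {y : Y} :
    y ∈ setStab Y J ↔ ∀ ω, y • ω ∈ J ↔ ω ∈ J := Iff.rfl

theorem mem_setStab_of_forall {Y : Type*} [Group Y] [Finite Y] {Ω : Type*} [MulAction Y Ω]
    {J : Set Ω} {y : Y} (h : ∀ ω ∈ J, y • ω ∈ J) : y ∈ setStab Y J := by
  have hpow : ∀ k : ℕ, ∀ ω ∈ J, y ^ k • ω ∈ J := by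
    intro k
    induction k with
    | zero => intro ω hω; simpa using hω
    | succ k ih => intro ω hω; rw [pow_succ, mul_smul]; exact ih _ (h ω hω)
  have hinv : ∀ ω ∈ J, y⁻¹ • ω ∈ J := by
    intro ω hω
    have hn : 0 < orderOf y := orderOf_pos y
    have : y⁻¹ = y ^ (orderOf y - 1) :=
      inv_eq_of_mul_eq_one_right (by rw [← pow_succ', Nat.sub_add_cancel hn, pow_orderOf_eq_one])
    rw [this]; exact hpow _ ω hω
  intro ω
  constructor
  · intro hω
    have := hinv _ hω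
    rwa [inv_smul_smul] at this
  · exact h ω

theorem main_aux {p : ℕ} [Fact p.Prime] (hp2 : p ≠ 2) {Ω : Type v} :
    ∀ n : ℕ, ∀ (Y : Type u) [Group Y] [Finite Y] [MulAction Y Ω], IsPGroup p Y → Nat.card Y = n →
      ∀ S : Set Ω, S.Finite → (∀ y : Y, ∀ ω ∈ S, y • ω ∈ S) →
      ∃ J : Set Ω, J ⊆ S ∧ ∀ y : Y, (∀ ω ∈ J, y • ω ∈ J) → ∀ ω ∈ S, y • ω = ω := by
  intro n
  induction n using Nat.strong_induction_on with
  | _ n ih =>
  intro Y _ _ _ hY hn S hSfin hS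
  by_cases htriv : ∀ y : Y, ∀ ω ∈ S, y • ω = ω
  · exact ⟨∅, Set.empty_subset _, fun y _ => htriv y⟩
  simp only [not_forall] at htriv
  obtain ⟨h0, ω0, hω0, hne⟩ := htriv
  have hSt : MulAction.stabilizer Y ω0 ≠ ⊤ := by
    intro h
    have : h0 ∈ MulAction.stabilizer Y ω0 := by rw [h]; trivial
    exact hne (MulAction.mem_stabilizer_iff.mp this)
  obtain ⟨M, hStM, hMn, hMidx⟩ := exists_normal_index_prime hY _ hSt
  have := hMn
  have hp : p.Prime := Fact.out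
  have hcardM : Nat.card M < n := by
    have h1 := M.card_mul_index
    rw [hMidx, hn] at h1
    have hpos : 0 < Nat.card M := Nat.card_pos
    have h2 := hp.two_le
    nlinarith
  obtain ⟨J0, hJ0S, hJ0⟩ := ih _ hcardM M (hY.to_subgroup M) rfl S hSfin
    (fun m ω hω => hS (m : Y) ω hω)
  by_cases hA : ∀ y : Y, (∀ ω ∈ J0, y • ω ∈ J0) → y ∈ M
  · refine ⟨J0, hJ0S, fun y hy ω hω => ?_⟩
    exact hJ0 ⟨y, hA y hy⟩ hy ω hω
  simp only [not_forall] at hA
  obtain ⟨x, hxJ0, hxM⟩ := hA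
  -- the orbit block
  set O : Set Ω := MulAction.orbit M ω0 with hO
  have hOS : O ⊆ S := by
    intro ω hω
    obtain ⟨m, rfl⟩ := MulAction.mem_orbit_iff.mp hω
    exact hS (m : Y) ω0 hω0
  have hOM : ∀ m : Y, m ∈ M → ∀ ω, m • ω ∈ O ↔ ω ∈ O := by
    intro m hm ω
    constructor
    · intro h
      obtain ⟨m', hm'⟩ := MulAction.mem_orbit_iff.mp h
      refine MulAction.mem_orbit_iff.mpr ⟨⟨m, hm⟩⁻¹ * m', ?_⟩
      rw [mul_smul, hm']
      exact inv_smul_smul m ω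
    · intro h
      obtain ⟨m', rfl⟩ := MulAction.mem_orbit_iff.mp h
      exact MulAction.mem_orbit_iff.mpr ⟨⟨m, hm⟩ * m', by rw [mul_smul]; rfl⟩
  have hdisj : ∀ y : Y, y ∉ M → ∀ ω ∈ O, y • ω ∉ O := by
    intro y hy ω hω hyω
    obtain ⟨m1, rfl⟩ := MulAction.mem_orbit_iff.mp hω
    obtain ⟨m2, h2⟩ := MulAction.mem_orbit_iff.mp hyω
    apply hy
    have hs : (m2 : Y)⁻¹ * y * (m1 : Y) ∈ MulAction.stabilizer Y ω0 := by
      rw [MulAction.mem_stabilizer_iff, mul_smul, mul_smul]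
      have h3 : y • (m1 : Y) • ω0 = (m2 : Y) • ω0 := h2.symm
      rw [h3, inv_smul_smul]
    have h3 := hStM hs
    have h4 : y = (m2 : Y) * ((m2 : Y)⁻¹ * y * (m1 : Y)) * (m1 : Y)⁻¹ := by group
    rw [h4]
    exact M.mul_mem (M.mul_mem m2.2 h3) (M.inv_mem m1.2)
  set J : Set Ω := {ω | ¬ (ω ∈ J0 ↔ ω ∈ O)} with hJ
  have hJS : J ⊆ S := by
    intro ω hω
    by_cases h1 : ω ∈ J0
    · exact hJ0S h1
    · by_cases h2 : ω ∈ O
      · exact hOS h2
      · exact absurd (by tauto : (ω ∈ J0 ↔ ω ∈ O)) hω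
  refine ⟨J, hJS, fun y hy => ?_⟩
  have hyJ : y ∈ setStab Y J := mem_setStab_of_forall hy
  have hxJ0' : x ∈ setStab Y J0 := mem_setStab_of_forall hxJ0
  have hyM : y ∈ M := by
    by_contra hyM
    obtain ⟨z, hz, hzy⟩ : ∃ z : Y, z ∈ setStab Y J0 ∧ z⁻¹ * y ∈ M := by
      have hcardQ : Nat.card (Y ⧸ M) = p := by rw [← Subgroup.index_eq_card]; exact hMidx
      have hx1 : (x : Y ⧸ M) ≠ 1 := fun h => hxM ((QuotientGroup.eq_one_iff x).mp h)
      have hmem : (y : Y ⧸ M) ∈ Subgroup.zpowers (x : Y ⧸ M) := by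
        rw [zpowers_eq_top_of_prime_card hcardQ hx1]; trivial
      obtain ⟨k, hk⟩ := Subgroup.mem_zpowers_iff.mp hmem
      refine ⟨x ^ k, Subgroup.zpow_mem _ hxJ0' k, ?_⟩
      rw [← QuotientGroup.eq, QuotientGroup.mk_zpow]
      exact hk
    set m := z⁻¹ * y with hm
    have hkey : ∀ ω ∈ O, (m • ω ∈ J0 ↔ ω ∉ J0) := by
      intro ω hω
      have h1 : m • ω ∈ J0 ↔ z • (m • ω) ∈ J0 := (hz (m • ω)).symm
      have h2 : z • (m • ω) = y • ω := by rw [hm, ← mul_smul, mul_inv_cancel_left]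
      have h3 : y • ω ∉ O := hdisj y hyM ω hω
      have h4 : y • ω ∈ J ↔ ω ∈ J := hyJ ω
      rw [h1, h2]
      have h5 : y • ω ∈ J ↔ ¬ (y • ω ∈ J0 ↔ y • ω ∈ O) := Iff.rfl
      have h6 : ω ∈ J ↔ ¬ (ω ∈ J0 ↔ ω ∈ O) := Iff.rfl
      tauto
    have himg : (fun ω => m • ω) '' (O \ J0) = O ∩ J0 := by
      ext ω'
      constructor
      · rintro ⟨ω, ⟨hωO, hωJ0⟩, rfl⟩
        exact ⟨(hOM m hzy ω).mpr hωO, (hkey ω hωO).mpr hωJ0⟩
      · rintro ⟨hO', hJ0'⟩
        have hOmem : m⁻¹ • ω' ∈ O := (hOM m hzy (m⁻¹ • ω')).mp (by rwa [smul_inv_smul])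
        refine ⟨m⁻¹ • ω', ⟨hOmem, ?_⟩, smul_inv_smul m ω'⟩
        intro hcon
        have h7 := (hkey _ hOmem).mp (by rwa [smul_inv_smul])
        exact h7 hcon
    have hOfin : O.Finite := hSfin.subset hOS
    have hcard1 : (O \ J0).ncard = (O ∩ J0).ncard := by
      rw [← himg]; exact (Set.ncard_image_of_injective _ (MulAction.injective m)).symm
    have hcard2 : (O ∩ J0).ncard + (O \ J0).ncard = O.ncard :=
      Set.ncard_inter_add_ncard_sdiff_eq_ncard O J0 hOfin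
    have : Finite (MulAction.orbit M ω0) := hOfin.to_subtype
    obtain ⟨j, hj⟩ := (hY.to_subgroup M).card_orbit ω0
    have hOc : O.ncard = p ^ j := by rw [← hj]; exact (Nat.card_coe_set_eq O).symm
    have h2 : 2 ∣ p ^ j := by rw [← hOc, ← hcard2, hcard1]; exact ⟨_, (two_mul _).symm⟩
    have h3 : 2 ∣ p := Nat.Prime.dvd_of_dvd_pow Nat.prime_two h2
    exact hp2 ((Nat.prime_dvd_prime_iff_eq Nat.prime_two hp).mp h3).symm
  have hyJ0 : ∀ ω ∈ J0, (⟨y, hyM⟩ : M) • ω ∈ J0 := by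
    intro ω hω
    show y • ω ∈ J0
    have h1 := hOM y hyM ω
    have h4 : y • ω ∈ J ↔ ω ∈ J := hyJ ω
    have h5 : y • ω ∈ J ↔ ¬ (y • ω ∈ J0 ↔ y • ω ∈ O) := Iff.rfl
    have h6 : ω ∈ J ↔ ¬ (ω ∈ J0 ↔ ω ∈ O) := Iff.rfl
    tauto
  exact fun ω hω => hJ0 ⟨y, hyM⟩ hyJ0 ω hω

/-- **Gluck's regular-orbit lemma for odd `p`-groups.** -/
theorem exists_subset_stabilizer_le_kernel {p : ℕ} [Fact p.Prime] (hp2 : p ≠ 2) {X : Type*}
    [Group X] [Finite X] (hX : IsPGroup p X) {Ω : Type*} [MulAction X Ω] (S : Set Ω)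
    (hSfin : S.Finite) (hS : ∀ x : X, ∀ ω ∈ S, x • ω ∈ S) :
    ∃ J : Set Ω, J ⊆ S ∧ ∀ x : X, (∀ ω ∈ J, x • ω ∈ J) → ∀ ω ∈ S, x • ω = ω :=
  main_aux hp2 _ X hX rfl S hSfin hS

end Cfsg.Agent.Helper68.RegOrbit
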