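import Mathlib
import Cfsg.Agent.S3888
import Cfsg.Agent.Lib.Helper87.MaxClass
import Cfsg.Agent.Lib.Helper68.RegOrbit

set_option autoImplicit false

/-!
# Elementary abelian quotients of odd `p`-groups of rank at most two (helper68)

Tools for S1895: a `p`-chief factor of a group of `p`-rank at most two (`p` odd) has order at most `p^2`.
-/

namespace Cfsg.Agent.Helper68.ChiefRk2

open Cfsg

/-- an elementary abelian group generated by two elements has order at most `p^2`. -/
theorem card_le_sq_of_two_gen {Q : Type*} [Group Q] {p : ℕ} (hp : 0 < p)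
    (hcomm : ∀ x y : Q, x * y = y * x) (hexp : ∀ x : Q, x ^ p = 1) (a b : Q)
    (hgen : Subgroup.closure ({a, b} : Set Q) = ⊤) : Nat.card Q ≤ p ^ 2 := by
  classical
  obtain ⟨T, hT⟩ : ∃ T : Submonoid Q, ∀ q, q ∈ T ↔ ∃ i j : ℕ, q = a ^ i * b ^ j := by
    refine ⟨{ carrier := {q | ∃ i j : ℕ, q = a ^ i * b ^ j}
              one_mem' := ⟨0, 0, by simp⟩
              mul_mem' := ?_ }, fun q => Iff.rfl⟩
    rintro _ _ ⟨i, j, rfl⟩ ⟨k, l, rfl⟩
    refine ⟨i + k, j + l, ?_⟩
    calc a ^ i * b ^ j * (a ^ k * b ^ l) = a ^ i * ((b ^ j * a ^ k) * b ^ l) := by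
          simp only [mul_assoc]
      _ = a ^ i * ((a ^ k * b ^ j) * b ^ l) := by rw [hcomm (b ^ j) (a ^ k)]
      _ = a ^ (i + k) * b ^ (j + l) := by simp only [pow_add, mul_assoc]
  have hinv : ∀ q : Q, q⁻¹ = q ^ (p - 1) := by
    intro q
    symm
    apply eq_inv_of_mul_eq_one_left
    rw [← pow_succ, Nat.sub_add_cancel hp, hexp]
  have hall : ∀ q : Q, q ∈ T := by
    intro q
    have hq : q ∈ Subgroup.closure ({a, b} : Set Q) := by rw [hgen]; trivial
    induction hq using Subgroup.closure_induction with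
    | mem x hx =>
      simp only [Set.mem_insert_iff, Set.mem_singleton_iff] at hx
      rcases hx with hx | hx
      · exact (hT x).mpr ⟨1, 0, by simp [hx]⟩
      · exact (hT x).mpr ⟨0, 1, by simp [hx]⟩
    | one => exact T.one_mem
    | mul x y _ _ hx hy => exact T.mul_mem hx hy
    | inv x _ hx => rw [hinv]; exact T.pow_mem hx _
  let f : Fin p × Fin p → Q := fun ij => a ^ (ij.1 : ℕ) * b ^ (ij.2 : ℕ)
  have hf : Function.Surjective f := by
    intro q
    obtain ⟨i, j, rfl⟩ := (hT q).mp (hall q)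
    refine ⟨(⟨i % p, Nat.mod_lt _ hp⟩, ⟨j % p, Nat.mod_lt _ hp⟩), ?_⟩
    show a ^ (i % p) * b ^ (j % p) = a ^ i * b ^ j
    rw [← pow_eq_pow_mod i (hexp a), ← pow_eq_pow_mod j (hexp b)]
  have := Nat.card_le_card_of_surjective f hf
  simpa [Nat.card_prod, sq] using this

/-- a normal subgroup with elementary abelian quotient generated by two elements has index `≤ p^2`. -/
theorem index_le_sq_of_two_gen {R : Type*} [Group R] {p : ℕ} (hp : 0 < p) (N : Subgroup R)
    [N.Normal] (hpw : ∀ x : R, x ^ p ∈ N) (hcm : ∀ x y : R, x * y * x⁻¹ * y⁻¹ ∈ N) (a b : R)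
    (hgen : Subgroup.closure ({a, b} : Set R) ⊔ N = ⊤) : N.index ≤ p ^ 2 := by
  rw [Subgroup.index_eq_card]
  refine card_le_sq_of_two_gen hp ?_ ?_ (QuotientGroup.mk' N a) (QuotientGroup.mk' N b) ?_
  · intro x y
    obtain ⟨x, rfl⟩ := QuotientGroup.mk_surjective x
    obtain ⟨y, rfl⟩ := QuotientGroup.mk_surjective y
    rw [← QuotientGroup.mk_mul, ← QuotientGroup.mk_mul, QuotientGroup.eq]
    have := hcm y⁻¹ x⁻¹
    simpa [mul_assoc] using this
  · intro x
    obtain ⟨x, rfl⟩ := QuotientGroup.mk_surjective x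
    rw [← QuotientGroup.mk_pow]
    exact (QuotientGroup.eq_one_iff _).mpr (hpw x)
  · have h1 : (Subgroup.closure ({a, b} : Set R) ⊔ N).map (QuotientGroup.mk' N) = ⊤ := by
      rw [hgen]; exact Subgroup.map_top_of_surjective _ (QuotientGroup.mk'_surjective N)
    rw [Subgroup.map_sup, QuotientGroup.map_mk'_self, sup_bot_eq, MonoidHom.map_closure,
      Set.image_pair] at h1
    exact h1

theorem lcs_stationary {R : Type*} [Group R] (k : ℕ)
    (h : (⊤ : Subgroup R).lowerCentralSeries (k + 1) = (⊤ : Subgroup R).lowerCentralSeries k) :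
    ∀ m, (⊤ : Subgroup R).lowerCentralSeries (k + m) = (⊤ : Subgroup R).lowerCentralSeries k := by
  intro m
  induction m with
  | zero => rfl
  | succ m ih =>
    rw [← add_assoc, Subgroup.lowerCentralSeries_succ, ih, ← Subgroup.lowerCentralSeries_succ, h]

theorem lcs_succ_lt {R : Type*} [Group R] [Finite R] {p : ℕ} [Fact p.Prime] (hR : IsPGroup p R)
    (k : ℕ) (hk : (⊤ : Subgroup R).lowerCentralSeries k ≠ ⊥) :
    (⊤ : Subgroup R).lowerCentralSeries (k + 1) < (⊤ : Subgroup R).lowerCentralSeries k := by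
  refine lt_of_le_of_ne (Subgroup.lowerCentralSeries_antitone _ (Nat.le_succ k)) ?_
  intro h
  have hnil : Group.IsNilpotent R := hR.isNilpotent
  obtain ⟨N, hN⟩ := Subgroup.nilpotent_iff_lowerCentralSeries.mp hnil
  apply hk
  rw [← lcs_stationary k h N, eq_bot_iff, ← hN]
  exact Subgroup.lowerCentralSeries_antitone _ (Nat.le_add_left N k)

theorem pow_le_card_lcs {R : Type*} [Group R] [Finite R] {p : ℕ} [Fact p.Prime]
    (hR : IsPGroup p R) :
    ∀ d j : ℕ, (⊤ : Subgroup R).lowerCentralSeries (j + d) ≠ ⊥ →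
      p ^ d ≤ Nat.card ((⊤ : Subgroup R).lowerCentralSeries (j + 1)) := by
  intro d
  induction d with
  | zero => intro j _; rw [pow_zero]; exact Nat.card_pos
  | succ d ih =>
    intro j hj
    have h1 : p ^ d ≤ Nat.card ((⊤ : Subgroup R).lowerCentralSeries (j + 1 + 1)) := by
      apply ih (j + 1)
      rwa [show j + 1 + d = j + (d + 1) by ring]
    have h2 : (⊤ : Subgroup R).lowerCentralSeries (j + 1) ≠ ⊥ := by
      intro h
      apply hj
      rw [eq_bot_iff, ← h]
      exact Subgroup.lowerCentralSeries_antitone _ (by omega)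
    have h3 := Cfsg.Agent.Helper87.p_mul_card_dvd_of_lt hR (lcs_succ_lt hR (j + 1) h2)
    have h4 := Nat.le_of_dvd Nat.card_pos h3
    calc p ^ (d + 1) = p * p ^ d := by ring
      _ ≤ p * Nat.card ((⊤ : Subgroup R).lowerCentralSeries (j + 1 + 1)) :=
          Nat.mul_le_mul_left p h1
      _ ≤ _ := h4

/-- abelian subgroups of a group of `p`-rank at most two: the quotient by a subgroup containing
all `p`-th powers has order at most `p^2`. -/
theorem relIndex_le_sq_of_abelian {G : Type*} [Group G] [Finite G] {p : ℕ} [Fact p.Prime]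
    (hr : Cfsg.PRankLE p 2 G) (A K : Subgroup G)
    (hA : ∀ x ∈ A, ∀ y ∈ A, x * y = y * x) (hpw : ∀ x ∈ A, x ^ p ∈ K) :
    K.relIndex A ≤ p ^ 2 := by
  let f : ↥A →* ↥A := MonoidHom.mk' (fun x => x ^ p)
    (fun x y => (show Commute x y from Subtype.ext (hA x x.2 y y.2)).mul_pow p)
  have hfr : f.range ≤ K.subgroupOf A := by
    rintro _ ⟨x, rfl⟩
    rw [Subgroup.mem_subgroupOf]
    show ((x ^ p : ↥A) : G) ∈ K
    rw [Subgroup.coe_pow]; exact hpw x x.2
  have h1 : K.relIndex A ∣ f.range.index := Subgroup.index_dvd_of_le hfr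
  have h2 : f.range.index = Nat.card f.ker := Subgroup.index_range
  have h3 : Nat.card f.ker ≤ p ^ 2 := by
    have h4 : Nat.card (f.ker.map A.subtype) = Nat.card f.ker :=
      Subgroup.card_map_of_injective A.subtype_injective
    rw [← h4]
    apply hr
    · refine ⟨⟨?_⟩⟩
      rintro ⟨_, x, _, rfl⟩ ⟨_, y, _, rfl⟩
      exact Subtype.ext (hA x x.2 y y.2)
    · rintro _ ⟨x, hx, rfl⟩
      have hx' : x ^ p = 1 := hx
      show ((x : G)) ^ p = 1
      rw [← Subgroup.coe_pow, hx']; rfl
  exact (Nat.le_of_dvd Nat.card_pos (h2 ▸ h1)).trans h3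

/-- **Key internal lemma** (via Blackburn's classification S3888): in an odd `p`-group of rank at most
two, a normal subgroup with elementary abelian quotient which contains the centre has index `≤ p^2`. -/
theorem index_le_sq_of_center_le {R : Type*} [Group R] [Finite R] {p : ℕ} [Fact p.Prime]
    (hp : p ≠ 2) (hR : IsPGroup p R) (hrk : Cfsg.PRankLE p 2 R) (N : Subgroup R) [N.Normal]
    (hpw : ∀ x : R, x ^ p ∈ N) (hcm : ∀ x y : R, x * y * x⁻¹ * y⁻¹ ∈ N)
    (hZ : ∀ z : R, (∀ r : R, z * r = r * z) → z ∈ N) : N.index ≤ p ^ 2 := by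
  have hpp : p.Prime := Fact.out
  obtain ⟨m, hm⟩ := IsPGroup.iff_card.mp hR
  rcases Cfsg.Agent.S3888.result hp m hm hrk with hmeta |
    ⟨_, x, y, z, hgen, _, _, _, hxz, hyz, _⟩ |
    ⟨_, s, x, y, z, _, hgen, _, _, _, _, _, hxzx⟩ | ⟨_, hm2, hlcs⟩
  · -- metacyclic
    obtain ⟨C, hCn, hCc, hQc⟩ := hmeta
    obtain ⟨a, ha⟩ := hCc.exists_generator
    obtain ⟨b', hb'⟩ := hQc.exists_generator
    obtain ⟨b, rfl⟩ := QuotientGroup.mk_surjective b'
    apply index_le_sq_of_two_gen hpp.pos N hpw hcm (a : R) b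
    rw [eq_top_iff]
    intro r _
    apply Subgroup.mem_sup_left
    obtain ⟨k, hk⟩ := Subgroup.mem_zpowers_iff.mp (hb' (QuotientGroup.mk r))
    rw [← QuotientGroup.mk_zpow, QuotientGroup.eq] at hk
    obtain ⟨l, hl⟩ := Subgroup.mem_zpowers_iff.mp (ha ⟨_, hk⟩)
    have hl' : (a : R) ^ l = (b ^ k)⁻¹ * r := by
      have := congrArg Subtype.val hl
      simpa using this
    have hr : r = b ^ k * (a : R) ^ l := by rw [hl']; group
    rw [hr]
    exact Subgroup.mul_mem _ (Subgroup.zpow_mem _ (Subgroup.subset_closure (by simp)) k)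
      (Subgroup.zpow_mem _ (Subgroup.subset_closure (by simp)) l)
  · -- central product type: `z` is central
    have hzc : ∀ r : R, z * r = r * z := by
      intro r
      have hr : r ∈ Subgroup.closure ({x, y, z} : Set R) := by rw [hgen]; trivial
      have hle : Subgroup.closure ({x, y, z} : Set R) ≤ Subgroup.centralizer {z} := by
        rw [Subgroup.closure_le]
        intro w hw
        simp only [Set.mem_insert_iff, Set.mem_singleton_iff] at hw
        simp only [SetLike.mem_coe, Subgroup.mem_centralizer_iff, Set.mem_singleton_iff, forall_eq]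
        rcases hw with rfl | rfl | rfl
        · exact hxz.symm
        · exact hyz.symm
        · rfl
      exact Subgroup.mem_centralizer_iff.mp (hle hr) z rfl
    have hzN : z ∈ N := hZ z hzc
    apply index_le_sq_of_two_gen hpp.pos N hpw hcm x y
    rw [eq_top_iff, ← hgen, Subgroup.closure_le]
    intro w hw
    simp only [Set.mem_insert_iff, Set.mem_singleton_iff] at hw
    rcases hw with rfl | rfl | rfl
    · exact Subgroup.mem_sup_left (Subgroup.subset_closure (by simp))
    · exact Subgroup.mem_sup_left (Subgroup.subset_closure (by simp))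
    · exact Subgroup.mem_sup_right hzN
  · -- third type: `y` is a commutator
    have hyN : y ∈ N := by
      have h1 : y = x⁻¹ * z * x⁻¹⁻¹ * z⁻¹ := by
        rw [inv_inv, hxzx, mul_inv_cancel_right]
      rw [h1]; exact hcm x⁻¹ z
    apply index_le_sq_of_two_gen hpp.pos N hpw hcm x z
    rw [eq_top_iff, ← hgen, Subgroup.closure_le]
    intro w hw
    simp only [Set.mem_insert_iff, Set.mem_singleton_iff] at hw
    rcases hw with rfl | rfl | rfl
    · exact Subgroup.mem_sup_left (Subgroup.subset_closure (by simp))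
    · exact Subgroup.mem_sup_right hyN
    · exact Subgroup.mem_sup_left (Subgroup.subset_closure (by simp))
  · -- maximal class
    have hcomm_le : (⊤ : Subgroup R).lowerCentralSeries (0 + 1) ≤ N := by
      show ⁅(⊤ : Subgroup R), ⊤⁆ ≤ N
      rw [Subgroup.commutator_le]
      intro g₁ _ g₂ _
      exact hcm g₁ g₂
    have h1 : p ^ (m - 2) ≤ Nat.card ((⊤ : Subgroup R).lowerCentralSeries (0 + 1)) :=
      pow_le_card_lcs hR (m - 2) 0 (by simpa using hlcs)
    have h2 : N.index ∣ ((⊤ : Subgroup R).lowerCentralSeries (0 + 1)).index :=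
      Subgroup.index_dvd_of_le hcomm_le
    have h3 := ((⊤ : Subgroup R).lowerCentralSeries (0 + 1)).index_mul_card
    have h4 : ((⊤ : Subgroup R).lowerCentralSeries (0 + 1)).index ≤ p ^ 2 := by
      by_contra hcon
      rw [not_le] at hcon
      have h5 : p ^ 2 * p ^ (m - 2) < Nat.card R := by
        calc p ^ 2 * p ^ (m - 2)
            < ((⊤ : Subgroup R).lowerCentralSeries (0 + 1)).index * p ^ (m - 2) :=
              Nat.mul_lt_mul_of_pos_right hcon (pow_pos hpp.pos _)
          _ ≤ ((⊤ : Subgroup R).lowerCentralSeries (0 + 1)).index *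
                Nat.card ((⊤ : Subgroup R).lowerCentralSeries (0 + 1)) :=
              Nat.mul_le_mul_left _ h1
          _ = Nat.card R := h3
      rw [hm, ← pow_add, show 2 + (m - 2) = m by omega] at h5
      exact lt_irrefl _ h5
    exact (Nat.le_of_dvd (Nat.pos_of_ne_zero Subgroup.index_ne_zero_of_finite) h2).trans h4

end Cfsg.Agent.Helper68.ChiefRk2
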