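import Mathlib
import Cfsg.Agent.Lib.Helper97.FXDefs
import Cfsg.Agent.Lib.Helper48.SympRep
import Cfsg.Agent.Lib.Helper86.ESREC

/-!
# FX server (helper97, S3818): piece (AR1) arith_main by helper68
-/

set_option autoImplicit false

namespace Cfsg.Agent.Helper68.FX

open Cfsg.Agent.Helper97.FX Cfsg.Agent.Helper48.SympRep

universe u

section SY
variable {K : Type*} [Field K] {M : Type u} [AddCommGroup M] [Module K M] [FiniteDimensional K M]
variable {Q : Type*} [Group Q] [Fintype Q]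
variable {ρ : Q →* Module.End K M} {a : Q ≃* Q} {g g' : Module.End K M}

theorem arith_main (p I f w D : ℕ) (hp5 : 5 ≤ p)
    (hI : 4 * ((p - 1) * (p - 1)) < I * ((p - 2) * (p - 2))) (hf : 0 < f) (hD : 0 < D)
    (hw : w ≤ D)
    (h : p * (I * f) * ((p - 1) * (w * w) + (D - w) * (D - w)) ≤
      (p - 1) * ((p - 1) * f + I * f) * (D * D)) : 2 * w < D := by
  by_contra hcon
  push Not at hcon
  obtain ⟨k, rfl⟩ : ∃ k, p = k + 5 := ⟨p - 5, by omega⟩
  obtain ⟨v, rfl⟩ : ∃ v, D = w + v := ⟨D - w, by omega⟩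
  obtain ⟨t, rfl⟩ : ∃ t, w = v + t := ⟨w - v, by omega⟩
  have e1 : k + 5 - 1 = k + 4 := by omega
  have e2 : k + 5 - 2 = k + 3 := by omega
  have e3 : v + t + v - (v + t) = v := by omega
  rw [e1, e3] at h
  rw [e1, e2] at hI
  have key1 : (k + 5) * ((v + t + v) * (v + t + v)) ≤
      4 * ((k + 4) * ((v + t) * (v + t)) + v * v) := by
    have : 4 * ((k + 4) * ((v + t) * (v + t)) + v * v) =
        (k + 5) * ((v + t + v) * (v + t + v)) + ((4 * k + 12) * (v * t) + (3 * k + 11) * (t * t)) := by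
      ring
    omega
  have h2 : (k + 5) * (k + 5) * I * (f * ((v + t + v) * (v + t + v))) ≤
      4 * (k + 4) * (k + 4 + I) * (f * ((v + t + v) * (v + t + v))) := by
    calc (k + 5) * (k + 5) * I * (f * ((v + t + v) * (v + t + v)))
        = (k + 5) * (I * f) * ((k + 5) * ((v + t + v) * (v + t + v))) := by ring
      _ ≤ (k + 5) * (I * f) * (4 * ((k + 4) * ((v + t) * (v + t)) + v * v)) :=
          Nat.mul_le_mul_left _ key1
      _ = 4 * ((k + 5) * (I * f) * ((k + 4) * ((v + t) * (v + t)) + v * v)) := by ring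
      _ ≤ 4 * ((k + 4) * ((k + 4) * f + I * f) * ((v + t + v) * (v + t + v))) :=
          Nat.mul_le_mul_left _ h
      _ = 4 * (k + 4) * (k + 4 + I) * (f * ((v + t + v) * (v + t + v))) := by ring
  have hpos : 0 < f * ((v + t + v) * (v + t + v)) := Nat.mul_pos hf (Nat.mul_pos hD hD)
  have h3 := Nat.le_of_mul_le_mul_right h2 hpos
  nlinarith [h3, hI]

end SY

end Cfsg.Agent.Helper68.FX
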