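import Mathlib
import Cfsg.Agent.Lib.Helper97.FXDefs
import Cfsg.Agent.Lib.Helper48.SympRep
import Cfsg.Agent.Lib.Helper86.ESREC

/-!
# FX server (helper97, S3818): piece (AR2) arith_index by helper68
-/

set_option autoImplicit false

namespace Cfsg.Agent.Helper68.FX

open Cfsg.Agent.Helper97.FX Cfsg.Agent.Helper48.SympRep

universe u

section SY
variable {K : Type*} [Field K] {M : Type u} [AddCommGroup M] [Module K M] [FiniteDimensional K M]
variable {Q : Type*} [Group Q] [Fintype Q]
variable {ρ : Q →* Module.End K M} {a : Q ≃* Q} {g g' : Module.End K M}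

theorem arith_index (p r I j : ℕ) (hp : p.Prime) (hp5 : 5 ≤ p) (hr : r.Prime) (hj : 1 ≤ j)
    (hI : I = r ^ j) (hmod : r ≠ p → I % p = 1) (hex : ¬ (r = 5 ∧ p = 5 ∧ j = 1)) :
    4 * ((p - 1) * (p - 1)) < I * ((p - 2) * (p - 2)) := by
  have hrI : r ≤ I := by
    rw [hI]
    calc r = r ^ 1 := (pow_one r).symm
      _ ≤ r ^ j := Nat.pow_le_pow_right hr.pos hj
  have hI2 : 2 ≤ I := le_trans hr.two_le hrI
  -- the congruence case gives `p + 1 ≤ I`
  have hcong : r ≠ p → p + 1 ≤ I := by
    intro hne
    have h1 := hmod hne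
    have h2 := Nat.div_add_mod I p
    have h3 : 1 ≤ I / p := by
      rcases Nat.eq_zero_or_pos (I / p) with h0 | h0
      · rw [h0, Nat.mul_zero] at h2; omega
      · exact h0
    have h4 : p * 1 ≤ p * (I / p) := Nat.mul_le_mul_left p h3
    omega
  have key : (p = 5 ∧ 8 ≤ I) ∨ (7 ≤ p ∧ p ≤ I) := by
    rcases (by omega : p = 5 ∨ p = 6 ∨ 7 ≤ p) with h5 | h6 | h7
    · left
      refine ⟨h5, ?_⟩
      subst h5
      by_cases hr5 : r = 5
      · -- I = 5 ^ j, j ≥ 2
        have hj2 : 2 ≤ j := by
          rcases (by omega : j = 1 ∨ 2 ≤ j) with h | h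
          · exact absurd ⟨hr5, rfl, h⟩ hex
          · exact h
        have : r ^ 2 ≤ r ^ j := Nat.pow_le_pow_right hr.pos hj2
        rw [hr5] at this
        rw [hI, hr5]
        omega
      · have h1 := hmod hr5
        have h6 : I ≠ 6 := by
          intro h6
          have hr6 : r ∣ 6 := by
            rw [← h6, hI]
            exact dvd_pow_self r (by omega)
          have hrle : r ≤ 6 := Nat.le_of_dvd (by norm_num) hr6
          have hr2 := hr.two_le
          have h23 : r = 2 ∨ r = 3 := by
            interval_cases r <;> simp_all (config := {decide := true})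
          rcases h23 with h | h
          · have : 3 ∣ (2 : ℕ) ^ j := by
              rw [← h, ← hI, h6]; norm_num
            have := Nat.Prime.dvd_of_dvd_pow Nat.prime_three this
            omega
          · have : 2 ∣ (3 : ℕ) ^ j := by
              rw [← h, ← hI, h6]; norm_num
            have := Nat.Prime.dvd_of_dvd_pow Nat.prime_two this
            omega
        omega
    · exfalso
      subst h6
      norm_num at hp
    · right
      refine ⟨h7, ?_⟩
      by_cases hrp : r = p
      · rw [← hrp]; exact hrI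
      · have := hcong hrp
        omega
  rcases key with ⟨h5, h8⟩ | ⟨h7, hpI⟩
  · subst h5
    show 4 * (4 * 4) < I * (3 * 3)
    omega
  · obtain ⟨k, rfl⟩ : ∃ k, p = k + 7 := ⟨p - 7, by omega⟩
    have e1 : k + 7 - 1 = k + 6 := by omega
    have e2 : k + 7 - 2 = k + 5 := by omega
    rw [e1, e2]
    have h1 : (k + 7) * ((k + 5) * (k + 5)) =
        4 * ((k + 6) * (k + 6)) + (k * k * k + 13 * (k * k) + 47 * k + 31) := by ring
    have h2 : (k + 7) * ((k + 5) * (k + 5)) ≤ I * ((k + 5) * (k + 5)) :=
      Nat.mul_le_mul_right _ hpI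
    omega

end SY

end Cfsg.Agent.Helper68.FX
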