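import Mathlib
import Cfsg.Agent.Lib.Helper92.G24Defs

/-!
# G24 server (S1679), helper68: packed kernel kit for `14 × 14` matrices over `F4`

A vector of `F4^14` is a natural number below `2 ^ 28`: bit `a < 14` is the coefficient of `1` at
position `a`, bit `14 + a` the coefficient of `w`.  For every generator `A k` the table `CA k b s`
holds the packed column `b` of `A k` multiplied by the scalar with code `s = 1, 2, 3`; the product of
a word with a packed vector is then a chain of `Nat.xor`s of table entries.
`word_eq` reduces an identity `X = ((w.map A).prod)` to 14 equalities of natural numbers.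
-/

set_option autoImplicit false
set_option maxRecDepth 100000

namespace Cfsg.Agent.Helper68.G24

open Matrix Cfsg.Agent.Helper92.G24

/-- force the evaluation of a number (keeps kernel reduction shared) -/
def force {α : Sort*} (n : ℕ) (k : ℕ → α) : α :=
  match n with
  | 0 => k 0
  | m + 1 => k (m + 1)

theorem force_eq {α : Sort*} (n : ℕ) (k : ℕ → α) : force n k = k n := by
  cases n <;> rfl

/-- the code at position `a` of a packed vector -/
def codeN (v a : ℕ) : ℕ := cond (v.testBit a) 1 0 + cond (v.testBit (14 + a)) 2 0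

/-- unpacking -/
def toVec (v : ℕ) : D.Idx → F := fun i => fc (codeN v (ix i))

/-- multiplication table of `F4` on codes -/
def mulT : List (List ℕ) := [[0, 0, 0, 0], [0, 1, 2, 3], [0, 2, 3, 1], [0, 3, 1, 2]]

/-- multiplication of codes -/
def mulC (s d : ℕ) : ℕ := (mulT.getD s []).getD d 0

/-- packed scaled columns of the six generators: `CAL[k][b][s]` -/
def CAL : List (List (List ℕ)) := [[[0, 4097, 67125248, 67129345], [0, 12290, 201359360, 201371650], [0, 12421, 203505664, 203518085], [0, 12555, 205701120, 205713675], [0, 1552, 25427968, 25429520], [0, 2080, 34078720, 34080800], [0, 2112, 34603008, 34605120], [0, 4224, 69206016, 69210240], [0, 8448, 138412032, 138420480], [0, 512, 8388608, 8389120], [0, 1024, 16777216, 16778240], [0, 2048, 33554432, 33556480], [0, 4096, 67108864, 67112960], [0, 8192, 134217728, 134225920]], [[0, 25095, 142704641, 142729734], [0, 250347287, 19807151, 264619192], [0, 54555199, 265260289, 210763582], [0, 56390569, 263589233, 216694488], [0, 266619693, 221200273, 46888124], [0, 267912637, 244809696,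 24083037], [0, 51149463, 229215281, 245757606], [0, 255876541, 137313537, 124739772], [0, 52320244, 115559545, 100473741], [0, 86245520, 83891344, 2364416], [0, 95387028, 181032637, 258288425], [0, 113190885, 256269052, 167345433], [0, 3112196, 258883773, 255933881], [0, 946111, 199327801, 200273798]], [[0, 1, 16384, 16385], [0, 8194, 134250496, 134258690], [0, 8197, 134299648, 134307845], [0, 264, 4325376, 4325640], [0, 1040, 17039360, 17040400], [0, 2080, 34078720, 34080800], [0, 64, 1048576, 1048640], [0, 4224, 69206016, 69210240], [0, 256, 4194304, 4194560], [0, 512, 8388608, 8389120], [0, 1024, 16777216, 16778240], [0, 2048, 33554432, 33556480], [0, 4096, 67108864, 67112960], [0, 8192, 134217728, 134225920]], [[0, 12684, 207814656, 207827340], [0, 12545, 205537280, 205549825], [0, 4107, 67289088, 67293195], [0, 12555, 205701120, 205713675], [0, 2112, 34603008, 34605120], [0, 528, 8650752, 8651280], [0, 1552, 25427968, 25429520], [0, 4239, 69451776, 69456015], [0, 398, 6520832, 6521230], [0, 2144, 35127296, 35129440], [0, 96, 1572864,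 1572960], [0, 1536, 25165824, 25167360], [0, 12674, 207650816, 207663490], [0, 386, 6324224, 6324610]], [[0, 150996993, 184574976, 33582081], [0, 226505218, 16823808, 209748994], [0, 1367909, 130908243, 131686198], [0, 126644697, 200941105, 209088488], [0, 98576146, 203724672, 163885202], [0, 119598752, 210295939, 195572259], [0, 113273921, 231742209, 185628480], [0, 41957504, 211814912, 236991104], [0, 50337024, 104860672, 88086784], [0, 134230528, 75505664, 209719808], [0, 67118080, 218107904, 151008256], [0, 201332736, 167784448, 100673536], [0, 4096, 67108864, 67112960], [0, 8192, 134217728, 134225920]], [[0, 67112961, 20480, 67125249], [0, 201338882, 45056, 201359362], [0, 203440261, 201404545, 2191364], [0, 205570315, 201470211, 4386824], [0, 25167376, 263680, 25427984], [0, 33556512, 526336, 34078752], [0, 33556544, 1050624, 34603072], [0, 67113088, 2101248, 69206144], [0, 134226176, 4202496, 138412288], [0, 512, 8388608, 8389120], [0, 1024, 16777216, 16778240], [0, 2048, 33554432, 33556480], [0, 4096, 67108864, 67112960], [0, 8192,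 134217728, 134225920]]]

/-- packed column `b` of `A k` times the scalar with code `s` -/
def CA (k b s : ℕ) : ℕ := ((CAL.getD k []).getD b []).getD s 0

/-- packed columns of the 36 root element tables: `CXL[idx][b]` -/
def CXL : List (List ℕ) := [[1, 6, 4, 8, 16, 32, 64, 128, 264, 512, 1040, 2080, 4224, 8197], [1, 65538, 4, 8, 16, 32, 64, 128, 131328, 512, 263168, 526336, 2101248, 90116], [1, 65542, 4, 8, 16, 32, 64, 128, 131336, 512, 263184, 526368, 2101376, 90113], [9, 10, 4, 8, 16, 32, 64, 132, 256, 528, 1024, 2112, 4107, 8448], [131073, 131074, 4, 8, 16, 32, 64, 65664, 256, 262656, 1024, 1050624, 184328, 4202496], [131081, 131082, 4, 8, 16, 32, 64, 65668, 256, 262672, 1024, 1050688, 184323, 4202752], [17, 2, 4, 8, 16, 36, 72, 128, 256, 516, 1032, 2066, 4644, 9288], [262145, 2, 4, 8, 16, 65568, 131136, 128, 256, 66052, 132104, 296976, 8917028, 17834056], [262161, 2, 4, 8, 16, 65572, 131144, 128, 256, 66048, 132096, 296962, 8917508, 17835016], [33, 34, 4, 8, 20, 32, 68, 128, 340, 640, 1059, 2176, 4096, 10880], [524289, 524290, 4, 8,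 65552, 32, 65604, 128, 1310996, 2097664, 574496, 2099328, 4096, 41951872], [524321, 524322, 4, 8, 65556, 32, 65600, 128, 1311044, 2097792, 574467, 2099200, 4096, 41953408], [1, 66, 4, 8, 24, 40, 64, 184, 256, 577, 1280, 2304, 7424, 8192], [1, 1048578, 4, 8, 131088, 131112, 64, 786584, 256, 1065536, 4195328, 4196608, 50337024, 8192], [1, 1048642, 4, 8, 131096, 131104, 64, 786600, 256, 1065473, 4195584, 4196352, 50338048, 8192], [129, 2, 4, 12, 16, 32, 96, 128, 386, 512, 1536, 2048, 4096, 12288], [2097153, 2, 4, 65544, 16, 32, 524352, 128, 2130304, 512, 8389632, 2048, 4096, 67117056], [2097281, 2, 4, 65548, 16, 32, 524384, 128, 2130178, 512, 8390144, 2048, 4096, 67121152], [257, 2, 12, 8, 16, 96, 64, 386, 256, 1536, 1024, 2048, 12288, 8192], [4194305, 2, 131076, 8, 16, 1048608, 64, 4227456, 256, 16777728, 1024, 2048, 134221824, 8192], [4194561, 2, 131084, 8, 16, 1048672, 64, 4227202, 256, 16778752, 1024, 2048, 134230016, 8192], [1, 514, 4, 184, 144, 160, 577, 128, 7424, 512, 5120, 6144, 4096, 8192], [1, 8388610, 4, 786600, 2097296, 2097184,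 8405568, 128, 50338048, 512, 67113984, 67110912, 4096, 8192], [1, 8389122, 4, 786584, 2097168, 2097312, 8405057, 128, 50337024, 512, 67109888, 67115008, 4096, 8192], [1025, 1026, 340, 8, 272, 1059, 320, 10880, 256, 8704, 1024, 10240, 4096, 8192], [16777217, 16777218, 1311044, 8, 4194576, 16827424, 4194368, 41953408, 256, 134226432, 1024, 134219776, 4096, 8192], [16778241, 16778242, 1310996, 8, 4194320, 16826403, 4194624, 41951872, 256, 134218240, 1024, 134227968, 4096, 8192], [2049, 2, 4644, 9288, 2066, 4128, 8256, 128, 256, 4608, 9216, 2048, 4096, 8192], [33554433, 2, 8917508, 17835016, 33589264, 67112992, 134225984, 128, 256, 67109376, 134218752, 2048, 4096, 8192], [33556481, 2, 8917028, 17834056, 33587218, 67108896, 134217792, 128, 256, 67113472, 134226944, 2048, 4096, 8192], [4097, 4098, 132, 4107, 528, 32, 2112, 128, 8448, 512, 1024, 2048, 4096, 8192], [67108865, 67108866, 2097156, 67162120, 8388624, 32, 33554496, 128, 134217984, 512, 1024, 2048, 4096, 8192], [67112961, 67112962, 2097284, 67158027, 8389136, 32, 33556544, 128, 134226176,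 512, 1024, 2048, 4096, 8192], [1, 8194, 8197, 264, 1040, 2080, 64, 4224, 256, 512, 1024, 2048, 4096, 8192], [1, 134217730, 134242308, 4194312, 16777232, 33554464, 64, 67108992, 256, 512, 1024, 2048, 4096, 8192], [1, 134225922, 134234117, 4194568, 16778256, 33556512, 64, 67113088, 256, 512, 1024, 2048, 4096, 8192]]

/-- packed column `b` of the table with index `idx = 3 * r + (t - 1)` -/
def CX (idx b : ℕ) : ℕ := (CXL.getD idx []).getD b 0

/-- the term of column `n` -/
def sel (k n : ℕ) (b0 b1 : Bool) : ℕ :=
  match b0, b1 with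
  | false, false => 0
  | true, false => CA k n 1
  | false, true => CA k n 2
  | true, true => CA k n 3

/-- the first `n` terms of `A k *ᵥ v` -/
def mvAux (k v : ℕ) : ℕ → ℕ
  | 0 => 0
  | n + 1 => Nat.xor (mvAux k v n) (sel k n (v.testBit n) (v.testBit (14 + n)))

/-- `A k *ᵥ v` on packed vectors -/
def step (k v : ℕ) : ℕ := force v fun v => mvAux k v 14

theorem step_eq (k v : ℕ) : step k v = mvAux k v 14 := by
  unfold step
  rw [force_eq]

/-- the product of a word applied to a packed vector -/
def applyWord : List ℕ → ℕ → ℕ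
  | [], v => v
  | k :: rest, v => step k (applyWord rest v)

/-! ### soundness -/

theorem rank_eq : D.rank = 2 := rfl

theorem nroots_eq : D.nroots = 12 := rfl

theorem ix_lt (i : D.Idx) : ix i < 14 := by
  rcases i with a | a
  · have h : a.val < 2 := a.2
    simp only [ix, Sum.elim_inl]
    omega
  · have h : a.val < 12 := a.2
    simp only [ix, Sum.elim_inr]
    omega

theorem ix_inj : Function.Injective ix := by
  rintro (a | a) (b | b) h
  · simp only [ix, Sum.elim_inl] at h
    exact congrArg Sum.inl (Fin.ext h)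
  · have ha : a.val < 2 := a.2
    simp only [ix, Sum.elim_inl, Sum.elim_inr] at h
    omega
  · have hb : b.val < 2 := b.2
    simp only [ix, Sum.elim_inl, Sum.elim_inr] at h
    omega
  · simp only [ix, Sum.elim_inr] at h
    exact congrArg Sum.inr (Fin.ext (by omega))

theorem sum_ix {M : Type*} [AddCommMonoid M] (g : ℕ → M) :
    ∑ j : D.Idx, g (ix j) = ∑ k ∈ Finset.range 14, g k := by
  rw [← Fin.sum_univ_eq_sum_range g 14]
  refine Fintype.sum_equiv (finSumFinEquiv (m := 2) (n := 12)) _ _ (fun j => ?_)
  rcases j with a | b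
  · rw [finSumFinEquiv_apply_left]
    rfl
  · rw [finSumFinEquiv_apply_right]
    rfl

theorem fc_cond (b0 b1 c0 c1 : Bool) :
    fc (cond (b0 ^^ c0) 1 0 + cond (b1 ^^ c1) 2 0) =
      fc (cond b0 1 0 + cond b1 2 0) + fc (cond c0 1 0 + cond c1 2 0) := by
  cases b0 <;> cases b1 <;> cases c0 <;> cases c1 <;> decide

theorem toVec_xor (u v : ℕ) : toVec (Nat.xor u v) = toVec u + toVec v := by
  funext i
  show fc (codeN (u ^^^ v) (ix i)) = fc (codeN u (ix i)) + fc (codeN v (ix i))
  unfold codeN
  rw [Nat.testBit_xor, Nat.testBit_xor]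
  exact fc_cond _ _ _ _

theorem toVec_zero : toVec 0 = 0 := by
  funext i
  show fc (codeN 0 (ix i)) = 0
  unfold codeN
  rw [Nat.zero_testBit, Nat.zero_testBit]
  decide

theorem fc_mulC : ∀ s < 4, ∀ d < 4, fc (mulC s d) = fc s * fc d := by decide

theorem toVec_basis (j : D.Idx) : toVec (2 ^ ix j) = Pi.single j 1 := by
  funext i
  show fc (codeN (2 ^ ix j) (ix i)) = _
  unfold codeN
  rw [Nat.testBit_two_pow, Nat.testBit_two_pow]
  have h2 : decide (ix j = 14 + ix i) = false := by
    have := ix_lt j
    simp only [decide_eq_false_iff_not]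
    omega
  rw [h2]
  by_cases h : i = j
  · subst h
    rw [Pi.single_eq_same]
    simp only [decide_true, cond_true, cond_false]
    decide
  · rw [Pi.single_eq_of_ne h]
    have h1 : decide (ix j = ix i) = false := by
      simp only [decide_eq_false_iff_not]
      intro hh
      exact h (ix_inj hh).symm
    rw [h1]
    decide

/-- the generator tables are correct (pure `ℕ` statement, checked by the kernel) -/
theorem tblA_ok : ∀ k < 6, ∀ a < 14, ∀ b < 14,
    ((matL k).getD a []).getD b 0 < 4 ∧
    codeN (CA k b 1) a = mulC 1 (((matL k).getD a []).getD b 0) ∧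
    codeN (CA k b 2) a = mulC 2 (((matL k).getD a []).getD b 0) ∧
    codeN (CA k b 3) a = mulC 3 (((matL k).getD a []).getD b 0) := by
  decide +kernel

/-- the root element tables are correct -/
theorem tblX_ok : ∀ idx < 36, ∀ a < 14, ∀ b < 14,
    codeN (CX idx b) a = ((xmL.getD idx []).getD a []).getD b 0 := by
  decide +kernel

/-- entries of `A k` by position -/
def AN (k : ℕ) (i : D.Idx) (b : ℕ) : F := fc (((matL k).getD (ix i) []).getD b 0)

theorem A_apply (k : ℕ) (i j : D.Idx) : A k i j = AN k i (ix j) := rfl

theorem toVec_CA (k : ℕ) (hk : k < 6) (b : ℕ) (hb : b < 14) (s : ℕ) (hs1 : 1 ≤ s) (hs3 : s ≤ 3)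
    (i : D.Idx) : toVec (CA k b s) i = fc s * AN k i b := by
  obtain ⟨h4, h1, h2, h3⟩ := tblA_ok k hk (ix i) (ix_lt i) b hb
  show fc (codeN (CA k b s) (ix i)) = fc s * fc (((matL k).getD (ix i) []).getD b 0)
  interval_cases s
  · rw [h1]; exact fc_mulC 1 (by norm_num) _ h4
  · rw [h2]; exact fc_mulC 2 (by norm_num) _ h4
  · rw [h3]; exact fc_mulC 3 (by norm_num) _ h4

theorem toVec_sel (k : ℕ) (hk : k < 6) (n : ℕ) (hn : n < 14) (b0 b1 : Bool) (i : D.Idx) :
    toVec (sel k n b0 b1) i = fc (cond b0 1 0 + cond b1 2 0) * AN k i n := by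
  cases b0 <;> cases b1
  · show toVec 0 i = fc 0 * AN k i n
    rw [toVec_zero]
    have : fc 0 = 0 := by decide
    rw [this, zero_mul]
    rfl
  · exact toVec_CA k hk n hn 2 (by norm_num) (by norm_num) i
  · exact toVec_CA k hk n hn 1 (by norm_num) (by norm_num) i
  · exact toVec_CA k hk n hn 3 (by norm_num) (by norm_num) i

theorem toVec_mvAux (k : ℕ) (hk : k < 6) (v : ℕ) (i : D.Idx) : ∀ n, n ≤ 14 →
    toVec (mvAux k v n) i = ∑ b ∈ Finset.range n, fc (codeN v b) * AN k i b := by
  intro n
  induction n with
  | zero =>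
    intro _
    show toVec 0 i = _
    rw [toVec_zero, Finset.sum_range_zero]
    rfl
  | succ n ih =>
    intro hn
    show toVec (Nat.xor (mvAux k v n) (sel k n (v.testBit n) (v.testBit (14 + n)))) i = _
    rw [toVec_xor, Pi.add_apply, ih (by omega), Finset.sum_range_succ,
      toVec_sel k hk n (by omega)]
    rfl

theorem mulVec_toVec (k : ℕ) (hk : k < 6) (v : ℕ) : A k *ᵥ toVec v = toVec (step k v) := by
  funext i
  rw [step_eq, toVec_mvAux k hk v i 14 le_rfl, ← sum_ix]
  show ∑ j, A k i j * toVec v j = _
  refine Finset.sum_congr rfl (fun j _ => ?_)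
  rw [A_apply, mul_comm]
  rfl

theorem applyWord_sound (w : List ℕ) (hw : ∀ k ∈ w, k < 6) (v : ℕ) :
    (w.map A).prod *ᵥ toVec v = toVec (applyWord w v) := by
  induction w with
  | nil =>
    show (1 : Matrix D.Idx D.Idx F) *ᵥ toVec v = toVec v
    rw [Matrix.one_mulVec]
  | cons k rest ih =>
    show (A k * (rest.map A).prod) *ᵥ toVec v = toVec (step k (applyWord rest v))
    rw [← Matrix.mulVec_mulVec, ih (fun k' hk' => hw k' (List.mem_cons_of_mem _ hk')),
      mulVec_toVec k (hw k (List.mem_cons_self))]

/-- THE KIT: a matrix with packed columns `cX` equals the product of the word `w` in the generators as soon as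
the word maps the 14 packed basis vectors to the packed columns. -/
theorem word_eq (w : List ℕ) (hw : ∀ k ∈ w, k < 6) (X : Matrix D.Idx D.Idx F) (cX : ℕ → ℕ)
    (hX : ∀ i j, X i j = toVec (cX (ix j)) i)
    (h : ∀ n < 14, applyWord w (2 ^ n) = cX n) : X = (w.map A).prod := by
  apply Matrix.ext_of_mulVec_single
  intro j
  rw [← toVec_basis j, applyWord_sound w hw, h (ix j) (ix_lt j), toVec_basis,
    Matrix.mulVec_single_one]
  funext i
  exact hX i j

/-- packed columns of the identity -/
theorem one_cols (i j : D.Idx) : (1 : Matrix D.Idx D.Idx F) i j = toVec (2 ^ ix j) i := by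
  rw [toVec_basis, Matrix.one_apply, Pi.single_apply]

/-- packed columns of the root element tables -/
theorem XT_cols (r t : ℕ) (h : 3 * r + (t - 1) < 36) (i j : D.Idx) :
    XT r t i j = toVec (CX (3 * r + (t - 1)) (ix j)) i := by
  show fc (((xmL.getD (3 * r + (t - 1)) []).getD (ix i) []).getD (ix j) 0) =
    fc (codeN (CX (3 * r + (t - 1)) (ix j)) (ix i))
  rw [tblX_ok _ h (ix i) (ix_lt i) (ix j) (ix_lt j)]

end Cfsg.Agent.Helper68.G24
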