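import Mathlib
import Cfsg.Agent.Lib.Helper92.G24Defs
import Cfsg.Agent.Lib.Helper68.G24Kit

/-!
# G24 server (S1679), pieces REL and SQ (helper68): the six matrices are involutions and satisfy
the 18 relators of the Suzuki presentation on `a, ..., f`.
-/

set_option autoImplicit false
set_option maxRecDepth 100000

namespace Cfsg.Agent.Helper68.G24

open Cfsg.Agent.Helper92.G24

theorem rel4_lt : ∀ r ∈ rel4, ∀ k ∈ r, k < 6 := by decide +kernel

theorem rel4_check : ∀ r ∈ rel4, ∀ n < 14, applyWord r (2 ^ n) = 2 ^ n := by decide +kernel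

/-- (REL) [M-L, kernel] the six matrices satisfy the 18 relators of the Suzuki presentation on `a..f`. -/
theorem A_rel : ∀ r ∈ rel4, (r.map A).prod = 1 := by
  intro r hr
  exact (word_eq r (rel4_lt r hr) 1 (fun n => 2 ^ n) one_cols (rel4_check r hr)).symm

theorem sq_check : ∀ k < 6, ∀ n < 14, applyWord [k, k] (2 ^ n) = 2 ^ n := by decide +kernel

/-- (SQ) [S-M, kernel] the six matrices are involutions. -/
theorem A_sq : ∀ k < 6, A k * A k = 1 := by
  intro k hk
  have hw : ∀ k' ∈ [k, k], k' < 6 := by
    intro k' hk'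
    rcases List.mem_cons.mp hk' with h | h
    · rw [h]; exact hk
    · rcases List.mem_cons.mp h with h | h
      · rw [h]; exact hk
      · exact absurd h (List.not_mem_nil)
  have h := word_eq [k, k] hw 1 (fun n => 2 ^ n) one_cols (sq_check k hk)
  rw [h]
  show A k * A k = A k * (A k * 1)
  rw [mul_one]

end Cfsg.Agent.Helper68.G24
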