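import Mathlib
import Cfsg.Agent.Lib.Helper92.G24Defs
import Cfsg.Agent.Lib.Helper68.G24Kit

/-!
# G24 server (S1679), piece XW (helper68): every root element table is the product of its word
in the six generator matrices.
-/

set_option autoImplicit false
set_option maxRecDepth 100000

namespace Cfsg.Agent.Helper68.G24

open Cfsg.Agent.Helper92.G24

theorem wdL_lt : ∀ idx < 36, ∀ k ∈ wdL.getD idx [], k < 6 := by decide +kernel

theorem wdL_check : ∀ idx < 36, ∀ n < 14, applyWord (wdL.getD idx []) (2 ^ n) = CX idx n := by
  decide +kernel

/-- (XW) [L, kernel] every root element table is the product of its word in the six matrices. -/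
theorem table_word : ∀ r < 12, ∀ t, 1 ≤ t → t ≤ 3 → XT r t = ((wd r t).map A).prod := by
  intro r hr t h1 h3
  have hidx : 3 * r + (t - 1) < 36 := by omega
  exact word_eq (wd r t) (wdL_lt _ hidx) (XT r t) (CX (3 * r + (t - 1))) (XT_cols r t hidx)
    (wdL_check _ hidx)

end Cfsg.Agent.Helper68.G24
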