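import Mathlib
import Cfsg.Agent.Lib.Helper31.G2Defs
import Cfsg.Agent.Lib.Helper31.SGAll

set_option autoImplicit false

/-!
# S3795 (Gross, `p = 2`) : piece (ORB) `g2_orb` for helper31's G2 server
-/

namespace Cfsg.Agent.Helper68.G2

open Module Subgroup Cfsg.Agent.Helper31.SG Cfsg.Agent.Helper31.G2

universe u uG uK uV

/-- (ORB) orbit counting (Burnside) for a multiplicative permutation of `2`-power order. -/
theorem g2_orb {X : Type*} [Group X] [Finite X] (hcomm : ∀ a b : X, a * b = b * a)
    (hodd : Odd (Nat.card X)) (σ : Equiv.Perm X) (hmul : ∀ a b : X, σ (a * b) = σ a * σ b)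
    (c : ℕ) (hc : 1 ≤ c) (hσ : σ ^ 2 ^ c = 1)
    (hd : Nat.card X ≤
      (2 ^ c - 1) * Nat.card (MulAction.orbitRel.Quotient (Subgroup.zpowers σ) X)) :
    Nat.card {a : X // (σ ^ 2 ^ (c - 1)) a = a⁻¹} ≤ (2 ^ c - 1) ^ 2 ∧
    (Nat.card {a : X // (σ ^ 2 ^ (c - 1)) a = a⁻¹} = (2 ^ c - 1) ^ 2 →
      ∀ a : X, (σ ^ 2 ^ (c - 1)) a = a → σ a = a) := by
  classical
  obtain ⟨p, hp⟩ : ∃ p, 2 ^ c = p + 1 :=
    ⟨2 ^ c - 1, by have := Nat.one_le_two_pow (n := c); omega⟩
  have hp1 : 1 ≤ p := by
    have : 2 ^ 1 ≤ 2 ^ c := Nat.pow_le_pow_right (by norm_num) hc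
    omega
  have hpe : 2 ^ c - 1 = p := by omega
  rw [hpe] at hd ⊢
  have hpowmul : ∀ (k : ℕ) (a b : X), (σ ^ k) (a * b) = (σ ^ k) a * (σ ^ k) b := by
    intro k
    induction k with
    | zero => intro a b; simp
    | succ k ih =>
      intro a b
      rw [pow_succ, Equiv.Perm.mul_apply, Equiv.Perm.mul_apply, Equiv.Perm.mul_apply, hmul, ih]
  obtain ⟨t, ht⟩ : ∃ t : Equiv.Perm X, t = σ ^ 2 ^ (c - 1) := ⟨_, rfl⟩
  rw [← ht]
  have htmul : ∀ a b, t (a * b) = t a * t b := by rw [ht]; exact hpowmul _
  have htsq : t * t = 1 := by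
    rw [ht, ← pow_add, ← two_mul, ← pow_succ', Nat.sub_add_cancel hc, hσ]
  have htt : ∀ a, t (t a) = a := fun a => by
    rw [← Equiv.Perm.mul_apply, htsq]; rfl
  have ht1 : t 1 = 1 := by
    have h := htmul 1 1
    rw [one_mul] at h
    have h' : t 1 * t 1 = t 1 * 1 := by rw [mul_one]; exact h.symm
    exact mul_left_cancel h'
  have htpow : ∀ (m : ℕ) (b : X), t b = b → t (b ^ m) = b ^ m := by
    intro m b hb
    induction m with
    | zero => simpa using ht1
    | succ m ih => rw [pow_succ, htmul, ih, hb]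
  obtain ⟨k, hk⟩ := hodd
  have hpowcard : ∀ a : X, a ^ (2 * k + 1) = 1 := fun a => by
    rw [← hk]; exact pow_card_eq_one'
  by_cases ht1' : t = 1
  · -- degenerate case
    have hI : ∀ a : X, (1 : Equiv.Perm X) a = a⁻¹ ↔ a = 1 := by
      intro a
      rw [Equiv.Perm.one_apply]
      constructor
      · intro h
        have h2 : a * a = 1 := by
          have h0 := mul_inv_cancel a
          rw [← h] at h0; exact h0
        have h3 := hpowcard a
        rw [pow_succ, pow_mul, pow_two, h2, one_pow, one_mul] at h3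
        exact h3
      · rintro rfl; simp
    have hcard : Nat.card {a : X // (1 : Equiv.Perm X) a = a⁻¹} = 1 := by
      rw [Nat.card_congr (Equiv.subtypeEquivRight hI)]
      exact Nat.card_eq_one_iff_unique.mpr
        ⟨⟨fun a b => Subtype.ext (a.2.trans b.2.symm)⟩, ⟨⟨1, rfl⟩⟩⟩
    rw [ht1', hcard]
    refine ⟨Nat.one_le_pow _ _ hp1, fun h a _ => ?_⟩
    have hp' : p = 1 := (Nat.pow_eq_one.mp h.symm).resolve_right (by norm_num)
    have hc1 : c = 1 := by
      have h2 : 2 ^ c = 2 ^ 1 := by rw [hp, hp']; norm_num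
      exact Nat.pow_right_injective (le_refl 2) h2
    have hσ1 : σ = 1 := by
      rw [← ht1', ht, hc1]; simp
    rw [hσ1]; rfl
  · -- main case
    haveI : Fact (Nat.Prime 2) := ⟨Nat.prime_two⟩
    have hord : orderOf σ = 2 ^ c := by
      have h0 := orderOf_eq_prime_pow (x := σ) (p := 2) (n := c - 1)
        (by rw [← ht]; exact ht1') (by rw [Nat.sub_add_cancel hc]; exact hσ)
      rwa [Nat.sub_add_cancel hc] at h0
    -- the hom `a ↦ a * t a`
    let φ : X →* X := MonoidHom.mk' (fun a => a * t a) (by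
      intro a b
      show a * b * t (a * b) = a * t a * (b * t b)
      rw [htmul]
      calc a * b * (t a * t b) = a * (b * t a) * t b := by simp only [mul_assoc]
        _ = a * (t a * b) * t b := by rw [hcomm b (t a)]
        _ = a * t a * (b * t b) := by simp only [mul_assoc])
    have hφ : ∀ a, φ a = a * t a := fun a => rfl
    have hker : ∀ a, a ∈ φ.ker ↔ t a = a⁻¹ := by
      intro a
      rw [MonoidHom.mem_ker, hφ]
      constructor
      · intro h; exact eq_inv_of_mul_eq_one_right h
      · intro h; rw [h, mul_inv_cancel]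
    have hrange : ∀ b, b ∈ φ.range ↔ b ∈ {a : X | t a = a} := by
      intro b
      constructor
      · rintro ⟨a, rfl⟩
        show t (φ a) = φ a
        rw [hφ, htmul, htt]; exact hcomm _ _
      · intro hb
        have hb' : t b = b := hb
        refine ⟨b ^ (k + 1), ?_⟩
        rw [hφ, htpow _ _ hb', ← pow_add]
        have e : k + 1 + (k + 1) = (2 * k + 1) + 1 := by ring
        rw [e, pow_succ, hpowcard, one_mul]
    have hcardφ : Nat.card φ.ker * Nat.card φ.range = Nat.card X := by
      rw [← Subgroup.index_ker]; exact φ.ker.card_mul_index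
    obtain ⟨C, hC⟩ : ∃ C : Set X, C = {a : X | t a = a} := ⟨_, rfl⟩
    have hkerc : Nat.card φ.ker = Nat.card {a : X // t a = a⁻¹} :=
      Nat.card_congr (Equiv.subtypeEquivRight hker)
    have hrangec : Nat.card φ.range = Nat.card C := by
      rw [hC]; exact Nat.card_congr (Equiv.subtypeEquivRight hrange)
    rw [hkerc, hrangec] at hcardφ
    have hBpos : 0 < Nat.card C := by
      rcases Nat.eq_zero_or_pos (Nat.card C) with h0 | h0
      · rw [h0, mul_zero] at hcardφ
        exact absurd hcardφ.symm (Nat.card_pos (α := X)).ne'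
      · exact h0
    -- fixed points of nontrivial elements of `⟨σ⟩`
    have hfix_sub : ∀ h : Subgroup.zpowers σ, h ≠ 1 → ∀ a : X,
        (h : Equiv.Perm X) a = a → t a = a := by
      intro h hne a ha
      obtain ⟨j, hj⟩ := (Submonoid.mem_powers_iff _ _).mp (mem_powers_iff_mem_zpowers.mpr h.2)
      have hj0 : j ≠ 0 := by
        rintro rfl
        apply hne
        apply Subtype.ext
        rw [Subgroup.coe_one, ← hj, pow_zero]
      obtain ⟨e, u, hu, hju⟩ := Nat.exists_eq_two_pow_mul_odd hj0
      have hec : e < c := by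
        by_contra hge
        push Not at hge
        apply hne
        apply Subtype.ext
        rw [Subgroup.coe_one, ← hj, hju]
        obtain ⟨d, rfl⟩ := Nat.exists_eq_add_of_le hge
        rw [pow_add, mul_assoc, pow_mul, hσ, one_pow]
      have hpow : (h : Equiv.Perm X) ^ 2 ^ (c - 1 - e) = t ^ u := by
        rw [← hj, hju, ht, ← pow_mul, ← pow_mul]
        congr 1
        have h2 : 2 ^ (c - 1) = 2 ^ e * 2 ^ (c - 1 - e) := by
          rw [← pow_add]; congr 1; omega
        rw [h2]; ring
      have htu : t ^ u = t := by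
        obtain ⟨v, rfl⟩ := hu
        rw [pow_succ, pow_mul, pow_two, htsq, one_pow, one_mul]
      have hfixpow : ∀ m : ℕ, ((h : Equiv.Perm X) ^ m) a = a := by
        intro m
        induction m with
        | zero => simp
        | succ m ih => rw [pow_succ, Equiv.Perm.mul_apply, ha, ih]
      have h3 := hfixpow (2 ^ (c - 1 - e))
      rw [hpow, htu] at h3
      exact h3
    -- Burnside
    letI : Fintype X := Fintype.ofFinite X
    letI : Fintype (Subgroup.zpowers σ) := Fintype.ofFinite _
    letI : ∀ h : Subgroup.zpowers σ, Fintype (MulAction.fixedBy X h) :=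
      fun h => Fintype.ofFinite _
    letI : Fintype (Quotient (MulAction.orbitRel (Subgroup.zpowers σ) X)) := Fintype.ofFinite _
    have hB := MulAction.sum_card_fixedBy_eq_card_orbits_mul_card_group (Subgroup.zpowers σ) X
    have hN : Nat.card (MulAction.orbitRel.Quotient (Subgroup.zpowers σ) X) =
        Fintype.card (Quotient (MulAction.orbitRel (Subgroup.zpowers σ) X)) :=
      Nat.card_eq_fintype_card
    have hHc : Fintype.card (Subgroup.zpowers σ) = p + 1 := by
      rw [← Nat.card_eq_fintype_card, Nat.card_zpowers, hord, hp]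
    rw [← hN, hHc] at hB
    obtain ⟨N, hNdef⟩ : ∃ N : ℕ,
        N = Nat.card (MulAction.orbitRel.Quotient (Subgroup.zpowers σ) X) := ⟨_, rfl⟩
    rw [← hNdef] at hB hd
    have hsplit := (Finset.add_sum_erase (Finset.univ : Finset (Subgroup.zpowers σ))
      (fun h => Fintype.card (MulAction.fixedBy X h)) (Finset.mem_univ 1)).symm
    rw [hB] at hsplit
    have hf1 : Fintype.card (MulAction.fixedBy X (1 : Subgroup.zpowers σ)) ≤ Nat.card X := by
      rw [← Nat.card_eq_fintype_card]; exact Finite.card_subtype_le _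
    have hfle : ∀ h ∈ (Finset.univ : Finset (Subgroup.zpowers σ)).erase 1,
        Fintype.card (MulAction.fixedBy X h) ≤ Nat.card C := by
      intro h hh
      rw [← Nat.card_eq_fintype_card]
      refine Nat.card_mono (Set.toFinite _) (fun a ha => ?_)
      rw [hC]
      exact hfix_sub h (Finset.ne_of_mem_erase hh) a ha
    have hcarderase : ((Finset.univ : Finset (Subgroup.zpowers σ)).erase 1).card = p := by
      rw [Finset.card_erase_of_mem (Finset.mem_univ _), Finset.card_univ, hHc,
        Nat.add_sub_cancel]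
    have hsumconst : ∑ _h ∈ (Finset.univ : Finset (Subgroup.zpowers σ)).erase 1, Nat.card C =
        p * Nat.card C := by
      rw [Finset.sum_const, hcarderase, smul_eq_mul]
    -- arithmetic
    have key : ∀ δ : ℕ, N * (p + 1) + δ ≤ Nat.card X + p * Nat.card C →
        Nat.card X + p * δ ≤ p ^ 2 * Nat.card C := by
      intro δ hδ
      have e1 : Nat.card X * (p + 1) ≤ (p * N) * (p + 1) := Nat.mul_le_mul_right _ hd
      have e2 : p * (N * (p + 1) + δ) ≤ p * (Nat.card X + p * Nat.card C) :=
        Nat.mul_le_mul_left _ hδ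
      nlinarith [e1, e2]
    have hIle : ∀ δ : ℕ, N * (p + 1) + δ ≤ Nat.card X + p * Nat.card C →
        Nat.card {a : X // t a = a⁻¹} * Nat.card C + p * δ ≤ p ^ 2 * Nat.card C := by
      intro δ hδ
      rw [hcardφ]; exact key δ hδ
    refine ⟨?_, ?_⟩
    · have h0 : N * (p + 1) + 0 ≤ Nat.card X + p * Nat.card C := by
        rw [add_zero, hsplit, ← hsumconst]
        exact add_le_add hf1 (Finset.sum_le_sum hfle)
      have h1 := hIle 0 h0
      rw [mul_zero, add_zero] at h1
      exact Nat.le_of_mul_le_mul_right h1 hBpos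
    · intro hIeq a ha
      by_contra hσa
      -- `σ` as an element of `⟨σ⟩`
      have hσne : (⟨σ, Subgroup.mem_zpowers σ⟩ : Subgroup.zpowers σ) ≠ 1 := by
        intro h
        apply hσa
        have h' : σ = 1 := congrArg Subtype.val h
        rw [h']; rfl
      have hσmem : (⟨σ, Subgroup.mem_zpowers σ⟩ : Subgroup.zpowers σ) ∈
          (Finset.univ : Finset (Subgroup.zpowers σ)).erase 1 :=
        Finset.mem_erase.mpr ⟨hσne, Finset.mem_univ _⟩
      have hlt : Fintype.card (MulAction.fixedBy X
          (⟨σ, Subgroup.mem_zpowers σ⟩ : Subgroup.zpowers σ)) < Nat.card C := by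
        rw [← Nat.card_eq_fintype_card, Nat.card_coe_set_eq, Nat.card_coe_set_eq]
        refine Set.ncard_lt_ncard ?_ (Set.toFinite _)
        have hsub : MulAction.fixedBy X (⟨σ, Subgroup.mem_zpowers σ⟩ : Subgroup.zpowers σ) ⊆ C := by
          intro b hb
          rw [hC]
          exact hfix_sub _ hσne b hb
        refine (Set.ssubset_iff_of_subset hsub).mpr ⟨a, ?_, ?_⟩
        · rw [hC]; exact ha
        · intro hmem
          exact hσa hmem
      have hsumlt : ∑ h ∈ (Finset.univ : Finset (Subgroup.zpowers σ)).erase 1,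
          Fintype.card (MulAction.fixedBy X h) <
          ∑ _h ∈ (Finset.univ : Finset (Subgroup.zpowers σ)).erase 1, Nat.card C :=
        Finset.sum_lt_sum hfle ⟨_, hσmem, hlt⟩
      have h0 : N * (p + 1) + 1 ≤ Nat.card X + p * Nat.card C := by
        rw [hsplit, ← hsumconst]
        omega
      have h1 := hIle 1 h0
      rw [hIeq] at h1
      omega
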