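import Mathlib
import Cfsg.Agent.S3762

/-!
# P. Hall-type lemma, `Γ`-invariant version (odd `p`)

If `Q` is a `p`-group (`p` odd) normalised by `Γ ≥ Q` such that every `Γ`-invariant abelian
subgroup of `Q` is cyclic, then `[Q, Q] ≤ ⟨z⟩` for every central element `z` of order `p`.
Deduced from P. Hall's theorem on `p`-groups of symplectic type (`S3762`).
-/

namespace Cfsg.Agent.Helper68.HallInv

open scoped commutatorElement

theorem comm_mul_central_left {G : Type*} [Group G] (a b r : G) (hr : ∀ g, g * r = r * g) :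
    ⁅a * r, b⁆ = ⁅a, b⁆ := by
  rw [commutatorElement_def, commutatorElement_def, mul_inv_rev]
  have h1 : a * r * b * (r⁻¹ * a⁻¹) = a * b * a⁻¹ := by
    have h : r * b = b * r := (hr b).symm
    calc a * r * b * (r⁻¹ * a⁻¹) = a * (r * b) * r⁻¹ * a⁻¹ := by group
      _ = a * (b * r) * r⁻¹ * a⁻¹ := by rw [h]
      _ = a * b * a⁻¹ := by group
  rw [h1]

theorem comm_mul_central_right {G : Type*} [Group G] (a b r : G) (hr : ∀ g, g * r = r * g) :
    ⁅a, b * r⁆ = ⁅a, b⁆ := by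
  rw [commutatorElement_def, commutatorElement_def, mul_inv_rev]
  have h : r * a⁻¹ = a⁻¹ * r := (hr a⁻¹).symm
  calc a * (b * r) * a⁻¹ * (r⁻¹ * b⁻¹) = a * b * (r * a⁻¹) * r⁻¹ * b⁻¹ := by group
    _ = a * b * (a⁻¹ * r) * r⁻¹ * b⁻¹ := by rw [h]
    _ = a * b * a⁻¹ * b⁻¹ := by group

/-- In an odd `p`-group of symplectic type all commutators lie in `⟨z⟩`, `z` central of order `p`. -/
theorem comm_mem_of_symp {G : Type*} [Group G] [Finite G] {p : ℕ} [Fact p.Prime] (hp2 : p ≠ 2)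
    (hG : IsPGroup p G)
    (hsymp : ∀ A : Subgroup G, A.Characteristic → IsMulCommutative A → IsCyclic A)
    (z : G) (hzc : z ∈ Subgroup.center G) (hzo : orderOf z = p) (a b : G) :
    ⁅a, b⁆ ∈ Subgroup.zpowers z := by
  have hp : p.Prime := Fact.out
  obtain ⟨E, R, hcomm, hsup, hE, hR⟩ := Cfsg.Agent.S3762.result hG hsymp
  have hRc : IsCyclic R := by
    rcases hR with h | h
    · exact h
    · exact absurd h.1 hp2
  -- `R` is commutative
  have hRab : ∀ r₁ ∈ R, ∀ r₂ ∈ R, r₁ * r₂ = r₂ * r₁ := by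
    intro r₁ h₁ r₂ h₂
    obtain ⟨g, hg⟩ := IsCyclic.exists_generator (α := R)
    obtain ⟨i, hi⟩ := Subgroup.mem_zpowers_iff.mp (hg ⟨r₁, h₁⟩)
    obtain ⟨j, hj⟩ := Subgroup.mem_zpowers_iff.mp (hg ⟨r₂, h₂⟩)
    have h := Commute.zpow_zpow_self g i j
    have h' : (⟨r₁, h₁⟩ : R) * ⟨r₂, h₂⟩ = ⟨r₂, h₂⟩ * ⟨r₁, h₁⟩ := by rw [← hi, ← hj]; exact h
    exact congrArg Subtype.val h'
  -- decomposition
  have hdec : ∀ a : G, ∃ e ∈ E, ∃ r ∈ R, a = e * r := by
    intro a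
    have ha : a ∈ E ⊔ R := by rw [hsup]; trivial
    rw [Subgroup.sup_eq_closure] at ha
    induction ha using Subgroup.closure_induction with
    | mem x hx =>
      rcases hx with hx | hx
      · exact ⟨x, hx, 1, R.one_mem, (mul_one x).symm⟩
      · exact ⟨1, E.one_mem, x, hx, (one_mul x).symm⟩
    | one => exact ⟨1, E.one_mem, 1, R.one_mem, (mul_one 1).symm⟩
    | mul x y _ _ hx hy =>
      obtain ⟨e₁, he₁, r₁, hr₁, rfl⟩ := hx
      obtain ⟨e₂, he₂, r₂, hr₂, rfl⟩ := hy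
      refine ⟨e₁ * e₂, E.mul_mem he₁ he₂, r₁ * r₂, R.mul_mem hr₁ hr₂, ?_⟩
      have h := hcomm e₂ he₂ r₁ hr₁
      calc e₁ * r₁ * (e₂ * r₂) = e₁ * (r₁ * e₂) * r₂ := by group
        _ = e₁ * (e₂ * r₁) * r₂ := by rw [h]
        _ = e₁ * e₂ * (r₁ * r₂) := by group
    | inv x _ hx =>
      obtain ⟨e₁, he₁, r₁, hr₁, rfl⟩ := hx
      refine ⟨e₁⁻¹, E.inv_mem he₁, r₁⁻¹, R.inv_mem hr₁, ?_⟩
      have h := hcomm e₁⁻¹ (E.inv_mem he₁) r₁⁻¹ (R.inv_mem hr₁)
      rw [mul_inv_rev, h]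
  -- elements of `R` are central
  have hRcen : ∀ r ∈ R, ∀ g : G, g * r = r * g := by
    intro r hr g
    obtain ⟨e, he, r', hr', rfl⟩ := hdec g
    have h1 := hcomm e he r hr
    have h2 := hRab r' hr' r hr
    calc e * r' * r = e * (r' * r) := by group
      _ = e * (r * r') := by rw [h2]
      _ = (e * r) * r' := by group
      _ = (r * e) * r' := by rw [h1]
      _ = r * (e * r') := by group
  obtain ⟨e₁, he₁, r₁, hr₁, rfl⟩ := hdec a
  obtain ⟨e₂, he₂, r₂, hr₂, rfl⟩ := hdec b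
  rw [comm_mul_central_left _ _ _ (hRcen r₁ hr₁), comm_mul_central_right _ _ _ (hRcen r₂ hr₂)]
  rcases hE with hE | hE
  · have h1 : e₁ = 1 := by rw [hE] at he₁; exact Subgroup.mem_bot.mp he₁
    rw [h1, commutatorElement_one_left]; exact one_mem _
  -- extraspecial case
  obtain ⟨⟨-, -, hcomE⟩, hcardZ⟩ := hE
  set c' : E := ⁅(⟨e₁, he₁⟩ : E), ⟨e₂, he₂⟩⁆ with hc'
  have hc'Z : c' ∈ Subgroup.center E := by
    rw [← hcomE]; exact Subgroup.commutator_mem_commutator (Subgroup.mem_top _) (Subgroup.mem_top _)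
  have hcval : (c' : G) = ⁅e₁, e₂⁆ := by
    rw [hc', commutatorElement_def, commutatorElement_def]; rfl
  have hcp : ⁅e₁, e₂⁆ ^ p = 1 := by
    have h1 : (⟨c', hc'Z⟩ : Subgroup.center E) ^ Nat.card (Subgroup.center E) = 1 :=
      pow_card_eq_one'
    rw [hcardZ] at h1
    have h2 : ((⟨c', hc'Z⟩ : Subgroup.center E) ^ p : Subgroup.center E).1.1 = (c' : G) ^ p := by
      simp
    rw [← hcval, ← h2, h1]; rfl
  have hccen : ⁅e₁, e₂⁆ ∈ Subgroup.center G := by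
    rw [Subgroup.mem_center_iff]
    intro g
    obtain ⟨e, he, r, hr, rfl⟩ := hdec g
    have h1 : (⟨e, he⟩ : E) * c' = c' * ⟨e, he⟩ := Subgroup.mem_center_iff.mp hc'Z ⟨e, he⟩
    have h1' : e * ⁅e₁, e₂⁆ = ⁅e₁, e₂⁆ * e := by
      rw [← hcval]; exact congrArg Subtype.val h1
    have hcE : ⁅e₁, e₂⁆ ∈ E := by rw [← hcval]; exact c'.2
    have h2 := hcomm _ hcE r hr
    calc e * r * ⁅e₁, e₂⁆ = e * (r * ⁅e₁, e₂⁆) := by group
      _ = e * (⁅e₁, e₂⁆ * r) := by rw [h2]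
      _ = (e * ⁅e₁, e₂⁆) * r := by group
      _ = (⁅e₁, e₂⁆ * e) * r := by rw [h1']
      _ = ⁅e₁, e₂⁆ * (e * r) := by group
  -- `Ω₁(Z(G))`
  let T : Subgroup G :=
    { carrier := {x | x ∈ Subgroup.center G ∧ x ^ p = 1}
      one_mem' := ⟨one_mem _, one_pow _⟩
      mul_mem' := by
        rintro x y ⟨hx, hxp⟩ ⟨hy, hyp⟩
        refine ⟨mul_mem hx hy, ?_⟩
        have hc : Commute x y := Subgroup.mem_center_iff.mp hy x
        rw [hc.mul_pow, hxp, hyp, one_mul]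
      inv_mem' := by
        rintro x ⟨hx, hxp⟩
        exact ⟨inv_mem hx, by rw [inv_pow, hxp, inv_one]⟩ }
  have hTmem : ∀ x, x ∈ T ↔ x ∈ Subgroup.center G ∧ x ^ p = 1 := fun x => Iff.rfl
  have hTchar : T.Characteristic := by
    rw [Subgroup.characteristic_iff_le_comap]
    intro φ x hx
    rw [Subgroup.mem_comap]
    rw [hTmem] at hx ⊢
    refine ⟨?_, ?_⟩
    · exact (Subgroup.characteristic_iff_le_comap.mp Subgroup.centerCharacteristic φ) hx.1
    · show φ x ^ p = 1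
      rw [← map_pow, hx.2, map_one]
  have hTcomm : IsMulCommutative T := by
    refine ⟨⟨?_⟩⟩
    rintro ⟨x, hx⟩ ⟨y, hy⟩
    apply Subtype.ext
    exact (Subgroup.mem_center_iff.mp hx.1 y).symm
  have hTcyc : IsCyclic T := hsymp T hTchar hTcomm
  have hTcard : Nat.card T ≤ p := by
    obtain ⟨g, hg⟩ := IsCyclic.exists_generator (α := T)
    have h1 : orderOf g = Nat.card T := orderOf_eq_card_of_forall_mem_zpowers hg
    have h2 : g ^ p = 1 := by
      apply Subtype.ext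
      rw [Subgroup.coe_pow]
      exact g.2.2
    rw [← h1]
    exact Nat.le_of_dvd hp.pos (orderOf_dvd_of_pow_eq_one h2)
  have hzT : Subgroup.zpowers z ≤ T := by
    rw [Subgroup.zpowers_le]
    exact ⟨hzc, by rw [← hzo]; exact pow_orderOf_eq_one z⟩
  have heq : Subgroup.zpowers z = T := by
    apply Subgroup.eq_of_le_of_card_ge hzT
    rw [Nat.card_zpowers, hzo]
    exact hTcard
  rw [heq]
  exact ⟨hccen, hcp⟩

/-- **L2** (P. Hall-type lemma, `Γ`-invariant version). -/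
theorem comm_mem_of_pow_eq_one {p : ℕ} [Fact p.Prime] (hp2 : p ≠ 2) {X : Type*} [Group X]
    [Finite X] (Γ Q : Subgroup X) (_hQΓ : Q ≤ Γ) (hQ : IsPGroup p Q)
    (hnorm : ∀ γ ∈ Γ, ∀ x ∈ Q, γ * x * γ⁻¹ ∈ Q)
    (hcyc : ∀ R : Subgroup X, R ≤ Q → (∀ γ ∈ Γ, ∀ x ∈ R, γ * x * γ⁻¹ ∈ R) →
      (∀ x ∈ R, ∀ y ∈ R, x * y = y * x) → IsCyclic R)
    (z : X) (hzQ : z ∈ Q) (hzc : ∀ q ∈ Q, z * q = q * z) (hzo : orderOf z = p) :
    ∀ x ∈ Q, x ^ p = 1 → ∀ q ∈ Q, x * q * x⁻¹ * q⁻¹ ∈ Subgroup.zpowers z := by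
  intro x hx _ q hq
  have hsymp : ∀ A : Subgroup Q, A.Characteristic → IsMulCommutative A → IsCyclic A := by
    intro A hA hAc
    have hRcyc : IsCyclic (A.map Q.subtype) := by
      apply hcyc (A.map Q.subtype) (Subgroup.map_subtype_le A)
      · intro γ hγ y hy
        obtain ⟨a, ha, rfl⟩ := Subgroup.mem_map.mp hy
        have hinv : ∀ y ∈ Q, γ⁻¹ * y * γ ∈ Q := by
          intro y hy
          have := hnorm γ⁻¹ (Γ.inv_mem hγ) y hy
          rwa [inv_inv] at this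
        let φ : Q ≃* Q :=
          { toFun := fun y => ⟨γ * y * γ⁻¹, hnorm γ hγ y y.2⟩
            invFun := fun y => ⟨γ⁻¹ * y * γ, hinv y y.2⟩
            left_inv := by intro y; apply Subtype.ext; simp [mul_assoc]
            right_inv := by intro y; apply Subtype.ext; simp [mul_assoc]
            map_mul' := by intro y y'; apply Subtype.ext; simp [mul_assoc] }
        have h1 : φ a ∈ A := (Subgroup.characteristic_iff_le_comap.mp hA φ) ha
        exact Subgroup.mem_map.mpr ⟨φ a, h1, rfl⟩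
      · intro y hy y' hy'
        obtain ⟨a, ha, rfl⟩ := Subgroup.mem_map.mp hy
        obtain ⟨b, hb, rfl⟩ := Subgroup.mem_map.mp hy'
        have h1 : (⟨a, ha⟩ : A) * ⟨b, hb⟩ = ⟨b, hb⟩ * ⟨a, ha⟩ := hAc.is_comm.comm _ _
        have h2 : a * b = b * a := congrArg Subtype.val h1
        exact congrArg Subtype.val h2
    exact (MulEquiv.isCyclic (A.equivMapOfInjective Q.subtype Q.subtype_injective)).mpr hRcyc
  have hz'c : (⟨z, hzQ⟩ : Q) ∈ Subgroup.center Q := by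
    rw [Subgroup.mem_center_iff]
    intro g
    apply Subtype.ext
    exact (hzc g g.2).symm
  have hz'o : orderOf (⟨z, hzQ⟩ : Q) = p := by
    rw [← hzo]; exact (Subgroup.orderOf_coe (⟨z, hzQ⟩ : Q)).symm
  have h := comm_mem_of_symp hp2 hQ hsymp ⟨z, hzQ⟩ hz'c hz'o ⟨x, hx⟩ ⟨q, hq⟩
  obtain ⟨k, hk⟩ := Subgroup.mem_zpowers_iff.mp h
  refine Subgroup.mem_zpowers_iff.mpr ⟨k, ?_⟩
  have h2 := congrArg Subtype.val hk
  rw [Subgroup.coe_zpow, commutatorElement_def] at h2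
  exact h2

end Cfsg.Agent.Helper68.HallInv
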