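import Mathlib
import Cfsg.Agent.Lib.Helper57.TwoPrimes

/-!
# JPC lemma server (S4150, helper35) : piece (N1) `three_primes_large` (second seat)
-/

set_option autoImplicit false

namespace Cfsg.Agent.Helper68.JPC

open Equiv Equiv.Perm MulAction Subgroup

universe u

open Nat in
/-- Variant of Mathlib's `centralBinom_le_of_no_bertrand_prime` allowing two primes in `(n, 2n]`. -/
theorem h68_centralBinom_le_of_two_primes (n : ℕ) (n_large : 8 ≤ n) (p0 p1 : ℕ)
    (hp0 : p0.Prime) (hp1 : p1.Prime) (hne01 : p0 ≠ p1)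
    (h0 : n < p0) (h0' : p0 ≤ 2 * n) (h1 : n < p1) (h1' : p1 ≤ 2 * n)
    (hone : ∀ p : ℕ, p.Prime → n < p → p ≤ 2 * n → p = p0 ∨ p = p1) :
    centralBinom n ≤ (2 * n) ^ sqrt (2 * n) * 4 ^ (2 * n / 3) := by
  have n_large' : 2 < n := by omega
  have n_pos : 0 < n := by omega
  have n2_pos : 1 ≤ 2 * n := by omega
  let f : ℕ → ℕ := fun x => x ^ n.centralBinom.factorization x
  let T := Finset.range (2 * n + 1)
  have hmem0 : p0 ∈ T := Finset.mem_range.mpr (by omega)
  have hmem1 : p1 ∈ T.erase p0 :=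
    Finset.mem_erase.mpr ⟨fun h => hne01 h.symm, Finset.mem_range.mpr (by omega)⟩
  have e1 : centralBinom n = f p0 * (f p1 * ∏ x ∈ (T.erase p0).erase p1, f x) := by
    rw [Finset.mul_prod_erase (T.erase p0) f hmem1, Finset.mul_prod_erase T f hmem0]
    exact (prod_pow_factorization_centralBinom n).symm
  let S := {p ∈ Finset.range (2 * n / 3 + 1) | Nat.Prime p}
  have hdiv : 2 * n / 3 ≤ n := by omega
  have e2 : ∏ x ∈ S, f x = ∏ x ∈ (T.erase p0).erase p1, f x := by
    apply Finset.prod_subset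
    · intro x hx
      obtain ⟨h1x, _⟩ := Finset.mem_filter.1 hx
      rw [Finset.mem_range] at h1x
      rw [Finset.mem_erase, Finset.mem_erase, Finset.mem_range]
      refine ⟨by omega, by omega, by omega⟩
    · intro x hx hxS
      rw [Finset.mem_erase, Finset.mem_erase, Finset.mem_range] at hx
      obtain ⟨hne1, hne0, hlt⟩ := hx
      show x ^ n.centralBinom.factorization x = 1
      by_cases hpr : x.Prime
      · have h3 : 2 * n < 3 * x := by
          by_contra hcon
          apply hxS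
          rw [Finset.mem_filter, Finset.mem_range]
          refine ⟨?_, hpr⟩
          omega
        by_cases hxn : x ≤ n
        · rw [factorization_centralBinom_of_two_mul_self_lt_three_mul n_large' hxn h3, pow_zero]
        · exfalso
          rcases hone x hpr (by omega) (by omega) with h | h
          · exact hne0 h
          · exact hne1 h
      · rw [factorization_eq_zero_of_not_prime n.centralBinom hpr, pow_zero]
  have hfp : ∀ p : ℕ, p.Prime → n < p → p ≤ 2 * n → f p ≤ 2 * n := by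
    intro p hp hnp hp2
    have hle1 : n.centralBinom.factorization p ≤ 1 := by
      rw [Nat.centralBinom_eq_two_mul_choose]
      apply Nat.factorization_choose_le_one
      nlinarith
    calc f p = p ^ n.centralBinom.factorization p := rfl
      _ ≤ p ^ 1 := pow_le_pow_right₀ hp.one_lt.le hle1
      _ = p := pow_one p
      _ ≤ 2 * n := hp2
  have hs4 : 4 ≤ sqrt (2 * n) := by
    rw [Nat.le_sqrt]; omega
  have hS : ∏ x ∈ S, f x ≤ (2 * n) ^ (sqrt (2 * n) - 2) * 4 ^ (2 * n / 3) := by
    rw [← Finset.prod_filter_mul_prod_filter_not S (· ≤ sqrt (2 * n))]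
    apply mul_le_mul'
    · refine (Finset.prod_le_prod' fun p _ => (?_ : f p ≤ 2 * n)).trans ?_
      · exact pow_factorization_choose_le (mul_pos two_pos n_pos)
      have : ((Finset.Icc 2 (sqrt (2 * n))).erase 4).card = sqrt (2 * n) - 2 := by
        rw [Finset.card_erase_of_mem (Finset.mem_Icc.mpr ⟨by norm_num, hs4⟩), card_Icc]; omega
      rw [Finset.prod_const]
      refine pow_right_mono₀ n2_pos ((Finset.card_le_card fun x hx => ?_).trans this.le)
      obtain ⟨h1x, h2x⟩ := Finset.mem_filter.1 hx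
      have hxp : x.Prime := (Finset.mem_filter.1 h1x).2
      refine Finset.mem_erase.mpr ⟨?_, Finset.mem_Icc.mpr ⟨hxp.two_le, h2x⟩⟩
      rintro rfl
      exact absurd hxp (by norm_num)
    · refine le_trans ?_ (primorial_le_four_pow (2 * n / 3))
      refine (Finset.prod_le_prod' fun p hp => (?_ : f p ≤ p)).trans ?_
      · obtain ⟨h1x, h2x⟩ := Finset.mem_filter.1 hp
        refine (pow_right_mono₀ (Finset.mem_filter.1 h1x).2.one_lt.le ?_).trans (pow_one p).le
        exact Nat.factorization_choose_le_one (sqrt_lt'.mp <| not_le.1 h2x)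
      refine Finset.prod_le_prod_of_subset_of_one_le' (Finset.filter_subset _ _) ?_
      exact fun p hp _ => (Finset.mem_filter.1 hp).2.one_lt.le
  rw [e1, ← e2]
  calc f p0 * (f p1 * ∏ x ∈ S, f x)
      ≤ (2 * n) * ((2 * n) * ((2 * n) ^ (sqrt (2 * n) - 2) * 4 ^ (2 * n / 3))) :=
        Nat.mul_le_mul (hfp p0 hp0 h0 h0') (Nat.mul_le_mul (hfp p1 hp1 h1 h1') hS)
    _ = (2 * n) ^ sqrt (2 * n) * 4 ^ (2 * n / 3) := by
        have e : sqrt (2 * n) = (sqrt (2 * n) - 2) + 1 + 1 := by omega
        conv_rhs => rw [e, pow_succ, pow_succ]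
        ring

/-- (N1) THREE primes in (n, 2n] for n ≥ 512. -/
theorem three_primes_large (n : ℕ) (hn : 512 ≤ n) :
    ∃ p₁ p₂ p₃ : ℕ, p₁.Prime ∧ p₂.Prime ∧ p₃.Prime ∧ n < p₁ ∧ p₁ < p₂ ∧ p₂ < p₃ ∧ p₃ ≤ 2 * n := by
  obtain ⟨p, q, hp, hq, hqp, hnq, hp2⟩ := Cfsg.Agent.Helper57.two_primes_large n hn
  have hthird : ∃ r : ℕ, r.Prime ∧ n < r ∧ r ≤ 2 * n ∧ r ≠ p ∧ r ≠ q := by
    by_contra hcon
    push Not at hcon
    have hone : ∀ r : ℕ, r.Prime → n < r → r ≤ 2 * n → r = p ∨ r = q := by
      intro r hr h1 h2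
      by_contra hne
      push Not at hne
      exact hne.2 (hcon r hr h1 h2 hne.1)
    have h1 : 4 ^ n < n * n.centralBinom :=
      Nat.four_pow_lt_mul_centralBinom n (le_trans (by norm_num1) hn)
    have h2 := h68_centralBinom_le_of_two_primes n (by omega) p q hp hq (by omega)
      (by omega) hp2 hnq (by omega) hone
    have h3 := bertrand_main_inequality hn
    have : n * n.centralBinom ≤ 4 ^ n := by
      calc n * n.centralBinom ≤ n * ((2 * n) ^ Nat.sqrt (2 * n) * 4 ^ (2 * n / 3)) :=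
            Nat.mul_le_mul_left n h2
        _ = n * (2 * n) ^ Nat.sqrt (2 * n) * 4 ^ (2 * n / 3) := by ring
        _ ≤ 4 ^ n := h3
    omega
  obtain ⟨r, hr, hnr, hr2, hrp, hrq⟩ := hthird
  rcases lt_or_gt_of_ne hrq with h | h
  · exact ⟨r, q, p, hr, hq, hp, hnr, h, hqp, hp2⟩
  · rcases lt_or_gt_of_ne hrp with h' | h'
    · exact ⟨q, r, p, hq, hr, hp, hnq, h, h', hp2⟩
    · exact ⟨q, p, r, hq, hp, hr, hnq, hqp, h', hr2⟩

end Cfsg.Agent.Helper68.JPC
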