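import Mathlib

/-!
# JPC lemma server (S4150, helper35) : piece (N2) `exists_primes_gap`, modulo (N1) as a hypothesis
-/

set_option autoImplicit false

namespace Cfsg.Agent.Helper68.JPC

open Equiv Equiv.Perm MulAction Subgroup

universe u

theorem h68_odd_prime_gap {p q : ℕ} (hp : p.Prime) (hq : q.Prime) (hp2 : 2 < p) (hpq : p < q) :
    p + 2 ≤ q := by
  have h1 : Odd p := hp.odd_of_ne_two (by omega)
  have h2 : Odd q := hq.odd_of_ne_two (by omega)
  obtain ⟨a, ha⟩ := h1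
  obtain ⟨b, hb⟩ := h2
  omega

/-- (N2) modulo (N1). -/
theorem exists_primes_gap_of
    (h3 : ∀ n : ℕ, 512 ≤ n → ∃ p₁ p₂ p₃ : ℕ, p₁.Prime ∧ p₂.Prime ∧ p₃.Prime ∧ n < p₁ ∧ p₁ < p₂ ∧
      p₂ < p₃ ∧ p₃ ≤ 2 * n)
    (m : ℕ) (hm : 17 ≤ m) :
    ∃ p q : ℕ, p.Prime ∧ q.Prime ∧ m < 2 * p ∧ p + 4 ≤ q ∧ q ≤ m := by
  by_cases hbig : 1024 ≤ m
  · obtain ⟨p₁, p₂, p₃, hp₁, hp₂, hp₃, h1, h12, h23, h3n⟩ := h3 (m / 2) (by omega)
    have g1 := h68_odd_prime_gap hp₁ hp₂ (by omega) h12
    have g2 := h68_odd_prime_gap hp₂ hp₃ (by omega) h23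
    exact ⟨p₁, p₃, hp₁, hp₃, by omega, by omega, by omega⟩
  · push Not at hbig
    by_cases c1 : m ≤ 21
    · exact ⟨11, 17, by norm_num, by norm_num, by omega, by omega, by omega⟩
    by_cases c2 : m ≤ 25
    · exact ⟨13, 19, by norm_num, by norm_num, by omega, by omega, by omega⟩
    by_cases c3 : m ≤ 33
    · exact ⟨17, 23, by norm_num, by norm_num, by omega, by omega, by omega⟩
    by_cases c4 : m ≤ 45
    · exact ⟨23, 29, by norm_num, by norm_num, by omega, by omega, by omega⟩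
    by_cases c5 : m ≤ 73
    · exact ⟨37, 41, by norm_num, by norm_num, by omega, by omega, by omega⟩
    by_cases c6 : m ≤ 133
    · exact ⟨67, 71, by norm_num, by norm_num, by omega, by omega, by omega⟩
    by_cases c7 : m ≤ 253
    · exact ⟨127, 131, by norm_num, by norm_num, by omega, by omega, by omega⟩
    by_cases c8 : m ≤ 481
    · exact ⟨241, 251, by norm_num, by norm_num, by omega, by omega, by omega⟩
    by_cases c9 : m ≤ 925
    · exact ⟨463, 467, by norm_num, by norm_num, by omega, by omega, by omega⟩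
    · exact ⟨907, 911, by norm_num, by norm_num, by omega, by omega, by omega⟩

end Cfsg.Agent.Helper68.JPC
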