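import Mathlib
import Cfsg.Agent.Lib.Helper68.JPCN1
import Cfsg.Agent.Lib.Helper68.JPCN2a

/-!
# JPC lemma server (S4150, helper35) : piece (N2) `exists_primes_gap`
-/

set_option autoImplicit false

namespace Cfsg.Agent.Helper68.JPC

open Equiv Equiv.Perm MulAction Subgroup

universe u

/-- (N2) [ASM: N1]  m ≥ 1024: n = m/2 ≥ 512, (p,q) = (p₁,p₃) (odd primes: p₃ ≥ p₁+4; 2p₁ ≥ 2n+2 > m;
p₃ ≤ 2n ≤ m).  17 ≤ m < 1024: the pair (p,q) works for q ≤ m ≤ 2p-1; chain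
(11,17) (13,19) (17,23) (23,29) (37,41) (67,71) (127,131) (241,251) (463,467) (907,911)
covers [17,21] [19,25] [23,33] [29,45] [41,73] [71,133] [131,253] [251,481] [467,925] [911,1813]. -/
theorem exists_primes_gap (m : ℕ) (hm : 17 ≤ m) :
    ∃ p q : ℕ, p.Prime ∧ q.Prime ∧ m < 2 * p ∧ p + 4 ≤ q ∧ q ≤ m := by
  exact exists_primes_gap_of three_primes_large m hm

end Cfsg.Agent.Helper68.JPC
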