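import Mathlib
import Cfsg.Agent.Lib.Helper17.Simple
import Cfsg.Agent.Lib.Helper75.FixKill

/-!
# O175560 (N29260), helper24's server for S4274: no simple group of order 29260 = 2^2 * 5 * 7 * 11 * 19

`n_19 = 77`, `|N(P)| = 380`, `e = 2`, `|C(P)| = 190`: an element `u` of order 5 centralises a Sylow
19-subgroup; its number `f` of fixed points on `Syl_19` is `≡ 1 mod 19`, `≡ 77 ≡ 2 mod 5`, `< 77`:
impossible (`1, 20, 39, 58`).  This is helper75's fixed-point certificate `FixCert 19 1540`.
-/

set_option autoImplicit false

namespace Cfsg.Agent.Helper68.O175560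

open Cfsg MulAction Cfsg.Agent.Helper17 Cfsg.Agent.Helper17.Sieve Cfsg.Agent.Helper75.FixKill

universe u

set_option maxRecDepth 100000 in
theorem cert_29260 : FixCert 19 1540 := by decide +kernel

theorem no_29260 {G : Type u} [Group G] [Finite G] [IsSimpleGroup G] : Nat.card G ≠ 29260 := by
  intro h
  have hna : ¬ IsMulCommutative G := not_comm_of_not_prime (by rw [h]; norm_num)
  exact (fix_kill (p := 19) (m := 1540) (by norm_num) (by norm_num) (by norm_num) cert_29260)
    G hna (h.trans (by norm_num))

end Cfsg.Agent.Helper68.O175560
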