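import Cfsg.Agent.Lib.Helper48.Pet.Basic

/-!
# PET server (helper48, S1472), piece (2P): `TwoPoint`.  Written by helper68.
-/

set_option autoImplicit false

namespace Cfsg.Agent.Helper68.Pet
open Cfsg.Agent.Helper48.Pet

variable {G : Type*} [Group G] {F : Type*} [Field F] {p q : ℕ}

variable (C : Cfg G F p q)

theorem twoPoint (h3 : C.Step3) (hN : C.NQ1U) (hT : C.ThetaPow) : C.TwoPoint := by
  obtain ⟨h31, h32⟩ := h3
  intro τ hτ a a' b b' hne hab hab'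
  -- `b ≢ b'`
  have hb : ((b - b' : ℤ) : F) ≠ 0 := by
    intro hbb
    have hbb' : (b : F) = (b' : F) := by
      have h4 := hbb
      push_cast at h4
      exact sub_eq_zero.mp h4
    have e1 : C.t ^ b = C.t ^ b' := C.t_zpow_eq b b' hbb'
    have h4 : C.t ^ (a - a') ∈ C.H := by
      have h5 := C.mul_mem_H (C.inv_mem_H hab') hab
      have e2 : (C.t ^ (-b') * τ * C.t ^ a')⁻¹ * (C.t ^ (-b) * τ * C.t ^ a) = C.t ^ (a - a') := by
        rw [zpow_neg, zpow_neg, e1]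
        group
      rwa [e2] at h5
    exact hne (h32 (a - a') h4)
  apply hN τ hτ
  intro ν
  have hu : ∀ (i : ℤ) (μ : NN F p q), C.t ^ i * C.r μ * C.t ^ (-i) ∈ C.U :=
    fun i μ => ⟨_, hT.2 i μ⟩
  have hh : C.t ^ (-b) * (τ * C.r ν * τ⁻¹) * C.t ^ b ∈ C.H := by
    have h5 := C.mul_mem_H (C.mul_mem_H hab (C.U_subset_H (hu (-a) ν))) (C.inv_mem_H hab)
    have e : C.t ^ (-b) * τ * C.t ^ a * (C.t ^ (-a) * C.r ν * C.t ^ (-(-a))) *
        (C.t ^ (-b) * τ * C.t ^ a)⁻¹ = C.t ^ (-b) * (τ * C.r ν * τ⁻¹) * C.t ^ b := by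
      group
    rwa [e] at h5
  have hh' : C.t ^ (b - b') * (C.t ^ (-b) * (τ * C.r ν * τ⁻¹) * C.t ^ b) * C.t ^ (-(b - b')) ∈
      C.H := by
    have h5 := C.mul_mem_H (C.mul_mem_H hab' (C.U_subset_H (hu (-a') ν))) (C.inv_mem_H hab')
    have e : C.t ^ (-b') * τ * C.t ^ a' * (C.t ^ (-a') * C.r ν * C.t ^ (-(-a'))) *
        (C.t ^ (-b') * τ * C.t ^ a')⁻¹ =
        C.t ^ (b - b') * (C.t ^ (-b) * (τ * C.r ν * τ⁻¹) * C.t ^ b) * C.t ^ (-(b - b')) := by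
      group
    rwa [e] at h5
  obtain ⟨μ, hμ⟩ := h31 (b - b') hb _ hh hh'
  have e : τ * C.r ν * τ⁻¹ =
      C.t ^ b * (C.t ^ (-b) * (τ * C.r ν * τ⁻¹) * C.t ^ b) * C.t ^ (-b) := by
    group
  rw [e, hμ]
  exact hu b μ

end Cfsg.Agent.Helper68.Pet
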