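import Cfsg.Agent.Lib.Helper48.Pet.Basic

/-!
# PET server (helper48, S1472), piece (4T): `FourTerm`.  Written by helper68.

`D a b := s^a t^(b-a) s^-b` is the element `σ^a(y) σ^b(y)⁻¹` of `Q1`; it satisfies the cocycle identity
`D a b * D b c = D a c`, `s^k (D a b) s^-k = D (a+k) (b+k)` and `t^-b (D a b) t^a = s^(a-b)`.
-/

set_option autoImplicit false

namespace Cfsg.Agent.Helper68.Pet
open Cfsg.Agent.Helper48.Pet

variable {G : Type*} [Group G] {F : Type*} [Field F] {p q : ℕ}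

variable (C : Cfg G F p q)

theorem fourTerm [Finite G] (hQ : C.Q1Facts) (h2 : C.TwoPoint) (hT : C.ThetaPow) : C.FourTerm := by
  obtain ⟨hQ1, hQ2, hQ3, hQ4, hQ5, hQ6⟩ := hQ
  intro j k g hk hyp
  by_contra hcon
  push Not at hcon
  obtain ⟨hg0, hgk⟩ := hcon
  -- the elements `D a b`
  have hD : ∀ a b : ℤ, C.s ^ a * C.t ^ (b - a) * C.s ^ (-b) ∈ C.Q1 := by
    intro a b
    have h1 := hQ2 a _ (hQ3 (b - a))
    have e : C.s ^ a * (C.t ^ (b - a) * C.s ^ (-(b - a))) * C.s ^ (-a) =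
        C.s ^ a * C.t ^ (b - a) * C.s ^ (-b) := by
      group
    rwa [e] at h1
  -- commutativity in `Q1`
  let _ : CommGroup ↥C.Q1 :=
    { (inferInstance : Group ↥C.Q1) with
      mul_comm := fun x z => Subtype.ext (C.Q_comm x (hQ1 x.2) z (hQ1 z.2)) }
  let Dq : ℤ → ℤ → ↥C.Q1 := fun a b => ⟨C.s ^ a * C.t ^ (b - a) * C.s ^ (-b), hD a b⟩
  have hDq : ∀ a b : ℤ, ((Dq a b : ↥C.Q1) : G) = C.s ^ a * C.t ^ (b - a) * C.s ^ (-b) :=
    fun a b => rfl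
  -- cocycle
  have q2 : ∀ a b c : ℤ, Dq a b * Dq b c = Dq a c := by
    intro a b c
    apply Subtype.ext
    rw [Subgroup.coe_mul, hDq, hDq, hDq]
    group
  -- the hypothesis: `D j (j-k) = D 0 k * D (k+g) (g-k)`, conjugated by `s^k`
  have E1 : Dq (j + k) j = Dq k (2 * k) * Dq (2 * k + g) g := by
    apply Subtype.ext
    rw [Subgroup.coe_mul, hDq, hDq, hDq]
    have e1 : C.s ^ (j + k) * C.t ^ (j - (j + k)) * C.s ^ (-j) =
        C.s ^ k * (C.s ^ j * C.t ^ (-k) * C.s ^ (g - j)) * C.s ^ (-g) := by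
      group
    have e2 : C.s ^ k * C.t ^ (2 * k - k) * C.s ^ (-(2 * k)) *
        (C.s ^ (2 * k + g) * C.t ^ (g - (2 * k + g)) * C.s ^ (-g)) =
        C.s ^ k * (C.t ^ k * C.s ^ g * C.t ^ (-(2 * k))) * C.s ^ (-g) := by
      group
    rw [e1, e2, hyp]
  -- `w := D j g * D k (g+k)` is fixed by `s^k`
  have hw : C.s ^ k * ((Dq j g * Dq k (g + k) : ↥C.Q1) : G) * C.s ^ (-k) =
      ((Dq j g * Dq k (g + k) : ↥C.Q1) : G) := by
    have e1 : C.s ^ k * ((Dq j g * Dq k (g + k) : ↥C.Q1) : G) * C.s ^ (-k) =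
        ((Dq (j + k) (g + k) * Dq (2 * k) (2 * k + g) : ↥C.Q1) : G) := by
      rw [Subgroup.coe_mul, Subgroup.coe_mul, hDq, hDq, hDq, hDq]
      group
    rw [e1]
    congr 1
    have e2 : Dq (j + k) (g + k) = Dq (j + k) j * Dq j g * Dq g (g + k) := by
      rw [q2, q2]
    have e3 : Dq k (g + k) = Dq k (2 * k) * Dq (2 * k) (2 * k + g) * Dq (2 * k + g) g *
        Dq g (g + k) := by
      rw [q2, q2, q2]
    rw [e2, E1, e3]
    ac_rfl
  have hw1 : ((Dq j g * Dq k (g + k) : ↥C.Q1) : G) = 1 :=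
    hQ5 k hk _ (Dq j g * Dq k (g + k)).2 hw
  -- `τ := D k (g+k) = D g j`
  have hτ : ((Dq k (g + k) : ↥C.Q1) : G) = ((Dq g j : ↥C.Q1) : G) := by
    have h1 : Dq j g * Dq k (g + k) = 1 := Subtype.ext hw1
    have h3 : Dq g j * (Dq j g * Dq k (g + k)) = Dq g j := by rw [h1, mul_one]
    rw [← mul_assoc, q2] at h3
    have h4 : Dq g g = 1 := by
      apply Subtype.ext
      rw [hDq]
      simp
    rw [h4, one_mul] at h3
    rw [h3]
  -- `t^-b (D a b) t^a = s^(a-b)`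
  have L : ∀ a b : ℤ, C.t ^ (-b) * ((Dq a b : ↥C.Q1) : G) * C.t ^ a = C.s ^ (a - b) := by
    intro a b
    have e1 : C.t ^ (-b) * ((Dq a b : ↥C.Q1) : G) * C.t ^ a =
        ((Dq 0 (-b) * Dq (a - b) 0 * Dq (-b) (a - b) : ↥C.Q1) : G) * C.s ^ (a - b) := by
      rw [Subgroup.coe_mul, Subgroup.coe_mul, hDq, hDq, hDq, hDq]
      group
    have e2 : Dq 0 (-b) * Dq (a - b) 0 * Dq (-b) (a - b) = 1 := by
      have e3 : Dq 0 (-b) * Dq (a - b) 0 * Dq (-b) (a - b) =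
          Dq 0 (-b) * Dq (-b) (a - b) * Dq (a - b) 0 := by
        ac_rfl
      rw [e3, q2, q2]
      apply Subtype.ext
      rw [hDq]
      simp
    rw [e1, e2]
    simp
  have m1 : C.t ^ (-(g + k)) * ((Dq k (g + k) : ↥C.Q1) : G) * C.t ^ k ∈ C.H := by
    rw [L]
    exact C.s_zpow_mem_H _
  have m2 : C.t ^ (-j) * ((Dq k (g + k) : ↥C.Q1) : G) * C.t ^ g ∈ C.H := by
    rw [hτ, L]
    exact C.s_zpow_mem_H _
  have hne : ((k - g : ℤ) : F) ≠ 0 := by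
    push_cast
    exact sub_ne_zero.mpr (fun h => hgk h.symm)
  have hτ1 : ((Dq k (g + k) : ↥C.Q1) : G) = 1 :=
    h2 _ (Dq k (g + k)).2 k g (g + k) j hne m1 m2
  -- so `t^g = s^g`
  have htg : C.t ^ g = C.s ^ g := by
    rw [hDq] at hτ1
    have e : C.t ^ g = (C.s ^ k)⁻¹ * (C.s ^ k * C.t ^ (g + k - k) * C.s ^ (-(g + k))) *
        C.s ^ (g + k) := by
      group
    rw [e, hτ1]
    group
  apply hg0
  apply C.s_zpow_not_norm_U g
  intro ν
  have htg' : C.t ^ (-g) = C.s ^ (-g) := by rw [zpow_neg, zpow_neg, htg]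
  rw [← htg, ← htg']
  exact ⟨_, hT.2 g ν⟩

end Cfsg.Agent.Helper68.Pet
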