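import Mathlib
import Cfsg.Agent.S3835
import Cfsg.Agent.Lib.Helper63.QdFree
import Cfsg.Agent.Lib.Helper63.HeisES

set_option autoImplicit false

/-!
# Structure facts on `Cfsg.qd p` (helper68)

`Cfsg.qd p = Aff p` (S3835): matrices of `SL₃(ZMod p)` with last row `(0,0,1)`.
* `ut a b c` : the upper unitriangular matrix `[[1,a,c],[0,1,b],[0,0,1]]`, `E p` the group of them;
* `Tr p` (Helper63): the translations `ut 0 b c`; `ZE p`: the centre `ut 0 0 c` of `E p`;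
* `tor l` : the torus element `diag(l, l⁻¹, 1)`.
-/

namespace Cfsg.Agent.Helper68.QdFacts

open Cfsg Cfsg.Agent.S3835 Cfsg.Agent.Helper63 Matrix

variable {p : ℕ} [Fact p.Prime]

/-- `Cfsg.qd p` is the affine group `Aff p` of S3835. -/
noncomputable def qdIso (p : ℕ) [Fact p.Prime] : ↥(Cfsg.qd p) ≃* ↥(Aff p) :=
  MulEquiv.subgroupCongr (qd_eq_Aff p)

/-- the upper unitriangular matrix `[[1,a,c],[0,1,b],[0,0,1]]`. -/
def ut (a b c : ZMod p) : Aff p := UT p ⟨![a], ![b], c⟩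

lemma ut_val (a b c : ZMod p) :
    ((ut a b c : Aff p) : SpecialLinearGroup (Fin 3) (ZMod p)).1 = !![1, a, c; 0, 1, b; 0, 0, 1] := by
  show utMat _ = _
  simp [utMat]

lemma UT_eq_ut (x : Heis 1 (ZMod p)) : UT p x = ut (x.a 0) (x.b 0) x.c := by
  unfold ut
  congr 1
  refine Heis.ext ?_ ?_ rfl
  · funext i; fin_cases i; rfl
  · funext i; fin_cases i; rfl

lemma ut_mul (a b c a' b' c' : ZMod p) :
    ut a b c * ut a' b' c' = ut (a + a') (b + b') (c + c' + a * b') := by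
  unfold ut
  rw [← map_mul]
  congr 1
  refine Heis.ext ?_ ?_ ?_
  · funext i; fin_cases i; simp
  · funext i; fin_cases i; simp
  · simp [dotProduct]

lemma ut_zero : (ut 0 0 0 : Aff p) = 1 := by
  unfold ut
  rw [← map_one (UT p)]
  congr 1
  refine Heis.ext ?_ ?_ rfl
  · funext i; fin_cases i; rfl
  · funext i; fin_cases i; rfl

lemma ut_inv (a b c : ZMod p) : (ut a b c)⁻¹ = ut (-a) (-b) (-c + a * b) := by
  apply inv_eq_of_mul_eq_one_right
  rw [ut_mul, ← ut_zero]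
  congr 1 <;> ring

lemma ut_inj {a b c a' b' c' : ZMod p} (h : ut a b c = ut a' b' c') : a = a' ∧ b = b' ∧ c = c' := by
  have h1 := congrArg (fun M : Aff p => (M : SpecialLinearGroup (Fin 3) (ZMod p)).1) h
  simp only [ut_val] at h1
  have e1 := congrFun (congrFun h1 0) 1
  have e2 := congrFun (congrFun h1 1) 2
  have e3 := congrFun (congrFun h1 0) 2
  simp at e1 e2 e3
  exact ⟨e1, e2, e3⟩

/-- the group of upper unitriangular matrices. -/
def E (p : ℕ) [Fact p.Prime] : Subgroup (Aff p) := (UT p).range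

lemma mem_E_iff (M : Aff p) : M ∈ E p ↔ ∃ a b c, M = ut a b c := by
  constructor
  · rintro ⟨x, rfl⟩
    exact ⟨_, _, _, UT_eq_ut x⟩
  · rintro ⟨a, b, c, rfl⟩
    exact ⟨_, rfl⟩

lemma ut_mem_E (a b c : ZMod p) : ut a b c ∈ E p := (mem_E_iff _).mpr ⟨a, b, c, rfl⟩

lemma UT_injective : Function.Injective (UT p) := by
  intro x y h
  rw [UT_eq_ut, UT_eq_ut] at h
  obtain ⟨h1, h2, h3⟩ := ut_inj h
  refine Heis.ext ?_ ?_ h3
  · funext i; fin_cases i; exact h1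
  · funext i; fin_cases i; exact h2

lemma card_E : Nat.card (E p) = p ^ 3 := by
  have h := Nat.card_congr (MonoidHom.ofInjective (UT_injective (p := p))).toEquiv
  unfold E
  rw [← h, Heis.card_zmod p]

lemma pow_p_eq_one_of_mem_E (hp2 : p ≠ 2) {M : Aff p} (hM : M ∈ E p) : M ^ p = 1 := by
  obtain ⟨x, rfl⟩ := hM
  rw [← map_pow, Heis.pow_prime_zmod p hp2, map_one]

lemma isPGroup_E : IsPGroup p (E p) := isPGroup_UT_range

lemma E_not_comm : ∃ M ∈ E p, ∃ N ∈ E p, M * N ≠ N * M := by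
  obtain ⟨x, y, h⟩ := UT_not_comm (p := p)
  exact ⟨_, ⟨x, rfl⟩, _, ⟨y, rfl⟩, h⟩

/-! ### translations -/

lemma mem_Tr_iff (M : Aff p) : M ∈ Tr p ↔ ∃ b c, M = ut 0 b c := by
  constructor
  · intro hM
    obtain ⟨x, rfl⟩ := Tr_le_UT hM
    have hM' : linPart p (UT p x) = 1 := hM
    have e01 := congrFun (congrFun hM' 0) 1
    simp [linPart, UT_val, utMat] at e01
    refine ⟨x.b 0, x.c, ?_⟩
    rw [UT_eq_ut, e01]
  · rintro ⟨b, c, rfl⟩
    show linPart p _ = 1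
    ext i j
    fin_cases i <;> fin_cases j <;> simp [linPart, ut_val]

lemma ut_mem_Tr (b c : ZMod p) : ut 0 b c ∈ Tr p := (mem_Tr_iff _).mpr ⟨b, c, rfl⟩

lemma Tr_le_E : Tr p ≤ E p := Tr_le_UT

lemma Tr_comm {M N : Aff p} (hM : M ∈ Tr p) (hN : N ∈ Tr p) : M * N = N * M := by
  obtain ⟨b, c, rfl⟩ := (mem_Tr_iff _).mp hM
  obtain ⟨b', c', rfl⟩ := (mem_Tr_iff _).mp hN
  rw [ut_mul, ut_mul]
  congr 1 <;> ring

lemma card_Tr : Nat.card (Tr p) = p ^ 2 := by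
  let f : ZMod p × ZMod p → Tr p := fun x => ⟨ut 0 x.1 x.2, ut_mem_Tr _ _⟩
  have hf : Function.Bijective f := by
    constructor
    · rintro ⟨b, c⟩ ⟨b', c'⟩ h
      have h1 := congrArg Subtype.val h
      obtain ⟨-, h2, h3⟩ := ut_inj h1
      exact Prod.ext h2 h3
    · rintro ⟨M, hM⟩
      obtain ⟨b, c, rfl⟩ := (mem_Tr_iff _).mp hM
      exact ⟨(b, c), rfl⟩
  rw [← Nat.card_congr (Equiv.ofBijective f hf), Nat.card_prod, Nat.card_zmod, sq]

/-! ### the centre of `E` -/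

/-- the centre `{ut 0 0 c}` of `E p`. -/
def ZE (p : ℕ) [Fact p.Prime] : Subgroup (Aff p) where
  carrier := {M | ∃ c, M = ut 0 0 c}
  mul_mem' := by
    rintro _ _ ⟨c, rfl⟩ ⟨c', rfl⟩
    refine ⟨c + c' + 0 * 0, ?_⟩
    rw [ut_mul]; congr 1 <;> ring
  one_mem' := ⟨0, ut_zero.symm⟩
  inv_mem' := by
    rintro _ ⟨c, rfl⟩
    refine ⟨-c + 0 * 0, ?_⟩
    rw [ut_inv]; congr 1 <;> ring

lemma mem_ZE_iff (M : Aff p) : M ∈ ZE p ↔ ∃ c, M = ut 0 0 c := Iff.rfl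

lemma ut_mem_ZE_iff (a b c : ZMod p) : ut a b c ∈ ZE p ↔ a = 0 ∧ b = 0 := by
  constructor
  · rintro ⟨c', h⟩
    obtain ⟨h1, h2, -⟩ := ut_inj h
    exact ⟨h1, h2⟩
  · rintro ⟨rfl, rfl⟩
    exact ⟨c, rfl⟩

lemma ZE_le_Tr : ZE p ≤ Tr p := by
  rintro _ ⟨c, rfl⟩
  exact ut_mem_Tr 0 c

lemma ZE_le_E : ZE p ≤ E p := ZE_le_Tr.trans Tr_le_E

lemma card_ZE : Nat.card (ZE p) = p := by
  let f : ZMod p → ZE p := fun c => ⟨ut 0 0 c, ⟨c, rfl⟩⟩
  have hf : Function.Bijective f := by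
    constructor
    · intro c c' h
      exact (ut_inj (congrArg Subtype.val h)).2.2
    · rintro ⟨M, c, rfl⟩
      exact ⟨c, rfl⟩
  rw [← Nat.card_congr (Equiv.ofBijective f hf), Nat.card_zmod]

/-- `ZE p` is the centre of `E p`. -/
lemma mem_ZE_iff_central {M : Aff p} (hM : M ∈ E p) :
    M ∈ ZE p ↔ ∀ N ∈ E p, M * N = N * M := by
  obtain ⟨a, b, c, rfl⟩ := (mem_E_iff _).mp hM
  constructor
  · intro h N hN
    obtain ⟨rfl, rfl⟩ := (ut_mem_ZE_iff _ _ _).mp h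
    obtain ⟨a', b', c', rfl⟩ := (mem_E_iff _).mp hN
    rw [ut_mul, ut_mul]
    congr 1 <;> ring
  · intro h
    have h1 := h (ut 0 1 0) (ut_mem_E _ _ _)
    have h2 := h (ut 1 0 0) (ut_mem_E _ _ _)
    rw [ut_mul, ut_mul] at h1 h2
    obtain ⟨-, -, e1⟩ := ut_inj h1
    obtain ⟨-, -, e2⟩ := ut_inj h2
    rw [ut_mem_ZE_iff]
    constructor
    · linear_combination e1
    · linear_combination -e2

/-- commutators of `E p` lie in `ZE p`. -/
lemma comm_mem_ZE {M N : Aff p} (hM : M ∈ E p) (hN : N ∈ E p) : M * N * M⁻¹ * N⁻¹ ∈ ZE p := by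
  obtain ⟨a, b, c, rfl⟩ := (mem_E_iff _).mp hM
  obtain ⟨a', b', c', rfl⟩ := (mem_E_iff _).mp hN
  rw [ut_inv, ut_inv, ut_mul, ut_mul, ut_mul, ut_mem_ZE_iff]
  constructor <;> ring

/-- the explicit commutator. -/
lemma comm_ut (a b c a' b' c' : ZMod p) :
    ut a b c * ut a' b' c' * (ut a b c)⁻¹ * (ut a' b' c')⁻¹ = ut 0 0 (a * b' - a' * b) := by
  rw [ut_inv, ut_inv, ut_mul, ut_mul, ut_mul]
  congr 1 <;> ring

/-! ### the torus -/

/-- the diagonal matrix `diag(x, x⁻¹, 1)`. -/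
def torMat (x : ZMod p) : Matrix (Fin 3) (Fin 3) (ZMod p) :=
  !![x, 0, 0; 0, x⁻¹, 0; 0, 0, 1]

lemma torMat_det (x : ZMod p) (hx : x ≠ 0) : (torMat x).det = 1 := by
  rw [Matrix.det_fin_three]
  simp [torMat, hx]

lemma torMat_row (x : ZMod p) : torMat x 2 0 = 0 ∧ torMat x 2 1 = 0 ∧ torMat x 2 2 = 1 := by
  simp [torMat]

/-- the torus element `diag(l, l⁻¹, 1)` of `Aff p`. -/
def tor (l : (ZMod p)ˣ) : Aff p :=
  ⟨⟨torMat (l : ZMod p), torMat_det _ l.ne_zero⟩, (mem_Aff _).mpr (torMat_row _)⟩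

lemma tor_val (l : (ZMod p)ˣ) :
    ((tor l : Aff p) : SpecialLinearGroup (Fin 3) (ZMod p)).1 = torMat (l : ZMod p) := rfl

lemma tor_mul_ut (l : (ZMod p)ˣ) (a b c : ZMod p) :
    tor l * ut a b c =
      ut ((l : ZMod p) ^ 2 * a) ((l : ZMod p)⁻¹ * b) ((l : ZMod p) * c) * tor l := by
  have hl : (l : ZMod p) ≠ 0 := l.ne_zero
  apply Subtype.ext
  apply Subtype.ext
  show torMat (l : ZMod p) * _ = _ * torMat (l : ZMod p)
  rw [ut_val, ut_val]
  generalize (l : ZMod p) = x at hl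
  ext i j
  fin_cases i <;> fin_cases j <;>
    simp [torMat, Matrix.mul_apply, Fin.sum_univ_three]
  field_simp

lemma tor_conj_ut (l : (ZMod p)ˣ) (a b c : ZMod p) :
    tor l * ut a b c * (tor l)⁻¹ =
      ut ((l : ZMod p) ^ 2 * a) ((l : ZMod p)⁻¹ * b) ((l : ZMod p) * c) := by
  rw [tor_mul_ut, mul_inv_cancel_right]

lemma tor_conj_mem_E (l : (ZMod p)ˣ) {M : Aff p} (hM : M ∈ E p) : tor l * M * (tor l)⁻¹ ∈ E p := by
  obtain ⟨a, b, c, rfl⟩ := (mem_E_iff _).mp hM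
  rw [tor_conj_ut]; exact ut_mem_E _ _ _

/-- the torus has no fixed points on `E / Z(E)`. -/
lemma no_fixed (l : (ZMod p)ˣ) (h1 : (l : ZMod p) ^ 2 ≠ 1) (h2 : (l : ZMod p) ≠ 1) {M : Aff p}
    (hM : M ∈ E p) (h : tor l * M * (tor l)⁻¹ * M⁻¹ ∈ ZE p) : M ∈ ZE p := by
  have hl : (l : ZMod p) ≠ 0 := l.ne_zero
  obtain ⟨a, b, c, rfl⟩ := (mem_E_iff _).mp hM
  rw [tor_conj_ut, ut_inv, ut_mul, ut_mem_ZE_iff] at h
  obtain ⟨e1, e2⟩ := h
  rw [ut_mem_ZE_iff]
  constructor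
  · have : ((l : ZMod p) ^ 2 - 1) * a = 0 := by linear_combination e1
    rcases mul_eq_zero.mp this with h3 | h3
    · exact absurd (sub_eq_zero.mp h3) h1
    · exact h3
  · have : ((l : ZMod p)⁻¹ - 1) * b = 0 := by linear_combination e2
    rcases mul_eq_zero.mp this with h3 | h3
    · exfalso
      apply h2
      have h4 : (l : ZMod p)⁻¹ = 1 := sub_eq_zero.mp h3
      have h5 := inv_inv (l : ZMod p)
      rw [h4, inv_one] at h5
      exact h5.symm
    · exact h3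

lemma exists_good_unit (hp : 3 < p) : ∃ l : (ZMod p)ˣ, (l : ZMod p) ^ 2 ≠ 1 ∧ (l : ZMod p) ≠ 1 := by
  have h2 : (2 : ZMod p) ≠ 0 := by
    intro h
    have h' : ((2 : ℕ) : ZMod p) = 0 := by exact_mod_cast h
    rw [ZMod.natCast_eq_zero_iff] at h'
    have := Nat.le_of_dvd (by norm_num) h'
    omega
  have h3 : (3 : ZMod p) ≠ 0 := by
    intro h
    have h' : ((3 : ℕ) : ZMod p) = 0 := by exact_mod_cast h
    rw [ZMod.natCast_eq_zero_iff] at h'
    have := Nat.le_of_dvd (by norm_num) h'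
    omega
  have : Nontrivial (ZMod p) := ZMod.nontrivial_iff.mpr (Fact.out : p.Prime).one_lt.ne'
  refine ⟨Units.mk0 2 h2, ?_, ?_⟩
  · intro h
    apply h3
    have h' : (2 : ZMod p) ^ 2 = 1 := h
    linear_combination h'
  · intro h
    have h' : (2 : ZMod p) = 1 := h
    have : (1 : ZMod p) = 0 := by linear_combination h'
    exact one_ne_zero this

/-! ### irreducibility of the translation group -/

lemma LT_mul_ut (s b c : ZMod p) :
    LT p (Multiplicative.ofAdd s) * ut 0 b c = ut 0 (b + s * c) c * LT p (Multiplicative.ofAdd s) := by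
  apply Subtype.ext
  apply Subtype.ext
  show ltMat _ * _ = _ * ltMat _
  rw [ut_val, ut_val]
  ext i j
  fin_cases i <;> fin_cases j <;>
    simp [ltMat, Matrix.mul_apply, Fin.sum_univ_three]
  ring

lemma LT_conj_ut (s b c : ZMod p) :
    LT p (Multiplicative.ofAdd s) * ut 0 b c * (LT p (Multiplicative.ofAdd s))⁻¹ =
      ut 0 (b + s * c) c := by
  rw [LT_mul_ut, mul_inv_cancel_right]

lemma ut_conj_ut (s b c : ZMod p) : ut s 0 0 * ut 0 b c * (ut s 0 0)⁻¹ = ut 0 b (c + s * b) := by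
  rw [mul_inv_eq_iff_eq_mul, ut_mul, ut_mul]
  congr 1 <;> ring

/-- the translation group has no proper nontrivial subgroup normal in `Aff p`. -/
theorem irreducible_Tr (L : Subgroup (Aff p)) [hL : L.Normal] (hLT : L ≤ Tr p) :
    L = ⊥ ∨ L = Tr p := by
  by_cases hbot : L = ⊥
  · exact Or.inl hbot
  right
  obtain ⟨M, hM1⟩ := (Subgroup.ne_bot_iff_exists_ne_one).mp hbot
  have hM1' : (M : Aff p) ≠ 1 := fun h => hM1 (OneMemClass.coe_eq_one.mp h)
  obtain ⟨b, c, hM⟩ := (mem_Tr_iff _).mp (hLT M.2)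
  have hbc : ¬ (b = 0 ∧ c = 0) := by
    rintro ⟨rfl, rfl⟩
    exact hM1' (hM.trans ut_zero)
  have hmem : ut 0 b c ∈ L := hM ▸ M.2
  -- horizontal and vertical translations
  have key1 : ∀ b₀ c₀ : ZMod p, ut 0 b₀ c₀ ∈ L → ∀ s, ut 0 0 (s * b₀) ∈ L := by
    intro b₀ c₀ h s
    have h1 := hL.conj_mem _ h (ut s 0 0)
    rw [ut_conj_ut] at h1
    have h2 := L.mul_mem h1 (L.inv_mem h)
    rw [ut_inv, ut_mul] at h2
    convert h2 using 2 <;> ring
  have key2 : ∀ b₀ c₀ : ZMod p, ut 0 b₀ c₀ ∈ L → ∀ s, ut 0 (s * c₀) 0 ∈ L := by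
    intro b₀ c₀ h s
    have h1 := hL.conj_mem _ h (LT p (Multiplicative.ofAdd s))
    rw [LT_conj_ut] at h1
    have h2 := L.mul_mem h1 (L.inv_mem h)
    rw [ut_inv, ut_mul] at h2
    convert h2 using 2 <;> ring
  have hc1 : ∀ x : ZMod p, ut 0 0 x ∈ L := by
    by_cases hb : b = 0
    · have hc : c ≠ 0 := fun h => hbc ⟨hb, h⟩
      -- vertical first, then horizontal
      have hv : ut 0 1 0 ∈ L := by
        have := key2 b c hmem c⁻¹
        rwa [inv_mul_cancel₀ hc] at this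
      intro x
      have := key1 1 0 hv x
      rwa [mul_one] at this
    · intro x
      have := key1 b c hmem (x * b⁻¹)
      rwa [mul_assoc, inv_mul_cancel₀ hb, mul_one] at this
  have hc2 : ∀ y : ZMod p, ut 0 y 0 ∈ L := by
    intro y
    have := key2 0 1 (hc1 1) y
    rwa [mul_one] at this
  apply le_antisymm hLT
  intro N hN
  obtain ⟨y, x, rfl⟩ := (mem_Tr_iff _).mp hN
  have := L.mul_mem (hc2 y) (hc1 x)
  rw [ut_mul] at this
  convert this using 2 <;> ring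

end Cfsg.Agent.Helper68.QdFacts
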