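import Mathlib
import Cfsg.Prelude.Def_LocalEven
import Cfsg.Prelude.Def_EvenType
import Cfsg.Prelude.Def_CaseTheorems
import Cfsg.Prelude.Def_PLocal
import Cfsg.Agent.Lib.Helper68.QdFacts
import Cfsg.Agent.Lib.Helper24.RankTwoSolv
import Cfsg.Agent.Lib.Helper24.BlkBasic3
import Cfsg.Agent.Lib.Helper20.RankTwoData
import Cfsg.Agent.S0636

set_option autoImplicit false

/-!
# Reduction of S1925 to S1926 (helper68)

If a group of `p`-rank two involves `Qd(p)`, then some section `H/K` with `K` a `p'`-group is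
isomorphic to `Qd(p)`, provided (S1926) no nontrivial normal `p`-subgroup `U` of a group of `p`-rank
two has quotient `Qd(p)`.
-/

namespace Cfsg.Agent.Helper68.QdInvolves

open Cfsg

universe u

/-- The statement of S1926, as a hypothesis. -/
def Hyp1926 (p : ℕ) [Fact p.Prime] : Prop :=
  ∀ {G : Type u} [Group G] [Finite G] (U : Subgroup G) [U.Normal], IsPGroup p ↥U →
    Nonempty (G ⧸ U ≃* ↥(Cfsg.qd p)) → Cfsg.PRankAtLeast p 2 G ∧ Cfsg.PRankLE p 2 G → U = ⊥

/-- a group mapping onto `Qd(p)` with a `p`-group as kernel has `p`-rank at least two. -/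
theorem prankAtLeast_of_surj {p : ℕ} [Fact p.Prime] (hp2 : p ≠ 2) {H : Type*} [Group H] [Finite H]
    (ψ : H →* ↥(Cfsg.qd p)) (hψ : Function.Surjective ψ) (hker : IsPGroup p ψ.ker) :
    Cfsg.PRankAtLeast p 2 H := by
  obtain ⟨E', hE'⟩ : ∃ E' : Subgroup ↥(Cfsg.qd p),
      E' = (QdFacts.E p).comap (QdFacts.qdIso p).toMonoidHom := ⟨_, rfl⟩
  have hE'p : IsPGroup p E' := by
    rw [hE']
    exact QdFacts.isPGroup_E.comap_of_injective _ (QdFacts.qdIso p).injective
  obtain ⟨P, hP⟩ : ∃ P : Subgroup H, P = E'.comap ψ := ⟨_, rfl⟩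
  have hPp : IsPGroup p P := by rw [hP]; exact hE'p.comap_of_ker_isPGroup ψ hker
  have hnc : ¬ IsCyclic P := by
    intro hcyc
    obtain ⟨M, hM, N, hN, hne⟩ := QdFacts.E_not_comm (p := p)
    obtain ⟨m, hm⟩ := hψ ((QdFacts.qdIso p).symm M)
    obtain ⟨n, hn⟩ := hψ ((QdFacts.qdIso p).symm N)
    have hmP : m ∈ P := by
      rw [hP, Subgroup.mem_comap, hm, hE', Subgroup.mem_comap]
      simpa using hM
    have hnP : n ∈ P := by
      rw [hP, Subgroup.mem_comap, hn, hE', Subgroup.mem_comap]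
      simpa using hN
    obtain ⟨g, hg⟩ := hcyc.exists_generator
    obtain ⟨i, hi⟩ := Subgroup.mem_zpowers_iff.mp (hg ⟨m, hmP⟩)
    obtain ⟨j, hj⟩ := Subgroup.mem_zpowers_iff.mp (hg ⟨n, hnP⟩)
    have hcomm : (⟨m, hmP⟩ : P) * ⟨n, hnP⟩ = ⟨n, hnP⟩ * ⟨m, hmP⟩ := by
      rw [← hi, ← hj]
      exact ((Commute.refl g).zpow_zpow i j)
    have h1 : m * n = n * m := congrArg Subtype.val hcomm
    apply hne
    have h2 := congrArg (fun x => (QdFacts.qdIso p) (ψ x)) h1
    simp only [map_mul, hm, hn, MulEquiv.apply_symm_apply] at h2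
    exact h2
  obtain ⟨A, hAn, hAc, hAnc⟩ := Cfsg.Agent.Helper20.exists_normal_abelian_noncyclic hPp hp2 hnc
  obtain ⟨M, -, -, hMc, hMe, hMcard⟩ := Cfsg.Agent.S0636.noncyclic_case hPp A hAn
    (fun x hx y hy => congrArg Subtype.val (hAc.is_comm.comm ⟨x, hx⟩ ⟨y, hy⟩)) hAnc
  refine ⟨M.map P.subtype, ⟨⟨?_⟩⟩, ?_, ?_⟩
  · rintro ⟨_, x, hx, rfl⟩ ⟨_, y, hy, rfl⟩
    apply Subtype.ext
    have h := congrArg (fun z : ↥P => (z : H)) (hMc x hx y hy)
    simpa using h
  · rintro _ ⟨x, hx, rfl⟩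
    have := congrArg Subtype.val (hMe x hx)
    simpa using this
  · rw [Subgroup.card_map_of_injective P.subtype_injective, hMcard]

/-- the inductive core. -/
theorem key {p : ℕ} [Fact p.Prime] (hp : 3 < p) (h1926 : Hyp1926.{u} p) :
    ∀ n : ℕ, ∀ (H : Type u) [Group H] [Finite H], Nat.card H = n → Cfsg.PRankLE p 2 H →
      ∀ ψ : H →* ↥(Cfsg.qd p), Function.Surjective ψ →
        ∃ (H' : Subgroup H) (φ : ↥H' →* ↥(Cfsg.qd p)), Function.Surjective φ ∧
          ∀ x : ↥H', φ x = 1 → x ^ p = 1 → x = 1 := by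
  intro n
  induction n using Nat.strong_induction_on with
  | _ n ih =>
  intro H _ _ hcard hrk ψ hψ
  have hpp : p.Prime := Fact.out
  have hp2 : p ≠ 2 := by omega
  by_cases hA : ∃ M : Subgroup H, IsCoatom M ∧ ¬ ψ.ker ≤ M
  · -- a maximal subgroup supplementing the kernel
    obtain ⟨M, hM, hNM⟩ := hA
    have hsup : M ⊔ ψ.ker = ⊤ :=
      hM.2 _ (lt_of_le_of_ne le_sup_left (fun h => hNM (le_sup_right.trans h.ge)))
    have hψM : Function.Surjective (ψ.comp M.subtype) := by
      intro q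
      obtain ⟨h, rfl⟩ := hψ q
      have hh : h ∈ M ⊔ ψ.ker := by rw [hsup]; trivial
      obtain ⟨m, hm, k, hk, rfl⟩ := Subgroup.mem_sup_of_normal_right.mp hh
      refine ⟨⟨m, hm⟩, ?_⟩
      show ψ m = ψ (m * k)
      rw [map_mul, MonoidHom.mem_ker.mp hk, mul_one]
    have hcardM : Nat.card M < n := by
      rw [← hcard]
      exact lt_of_le_of_ne (Subgroup.card_le_card_group M)
        (fun h => hM.1 ((Subgroup.card_eq_iff_eq_top M).mp h))
    obtain ⟨H'', φ, hφ, hprop⟩ := ih (Nat.card M) hcardM ↥M rfl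
      (Cfsg.Agent.Helper24.Blk.prankLE_subgroup hrk M) (ψ.comp M.subtype) hψM
    obtain ⟨e⟩ : Nonempty (↥H'' ≃* ↥(H''.map M.subtype)) :=
      ⟨H''.equivMapOfInjective M.subtype M.subtype_injective⟩
    refine ⟨H''.map M.subtype, φ.comp e.symm.toMonoidHom, ?_, ?_⟩
    · exact hφ.comp e.symm.surjective
    · intro x hx hxp
      have h1 : e.symm x = 1 := hprop (e.symm x) hx (by rw [← map_pow, hxp, map_one])
      exact (MulEquiv.map_eq_one_iff e.symm).mp h1
  · push Not at hA
    have hfr : ψ.ker ≤ frattini H := by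
      show ψ.ker ≤ ⨅ a ∈ {M : Subgroup H | IsCoatom M}, a
      exact le_iInf₂ (fun M hM => hA M hM)
    by_cases hB : ∃ r : ℕ, r.Prime ∧ r ≠ p ∧ r ∣ Nat.card ψ.ker
    · -- a nontrivial normal `r`-subgroup inside the kernel: pass to the quotient
      obtain ⟨r, hr, hrp, hrd⟩ := hB
      have : Fact r.Prime := ⟨hr⟩
      obtain ⟨R⟩ : Nonempty (Sylow r ↥ψ.ker) := inferInstance
      obtain ⟨R', hR'⟩ : ∃ R' : Subgroup H, R' = (R : Subgroup ↥ψ.ker).map ψ.ker.subtype :=
        ⟨_, rfl⟩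
      have hR'n : R'.Normal := by
        rw [← Subgroup.normalizer_eq_top_iff]
        apply frattini_nongenerating
        have h1 : Subgroup.normalizer (R' : Set H) ⊔ ψ.ker = ⊤ := by
          rw [hR']; exact Sylow.normalizer_sup_eq_top R
        rw [eq_top_iff, ← h1]
        exact sup_le_sup_left hfr _
      have hR'ker : R' ≤ ψ.ker := by rw [hR']; exact Subgroup.map_subtype_le _
      have hR'card : Nat.card R' = Nat.card R := by
        rw [hR']; exact Subgroup.card_map_of_injective (Subgroup.subtype_injective _)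
      have hR'p : IsPGroup r R' := by rw [hR']; exact R.isPGroup'.map _
      have hR'1 : 1 < Nat.card R' := by
        rw [hR'card]
        have hne : (R : Subgroup ↥ψ.ker) ≠ ⊥ := R.ne_bot_of_dvd_card hrd
        have h1 : Nat.card R ≠ 1 := fun h => hne (Subgroup.card_eq_one.mp h)
        have h2 : 0 < Nat.card R := Nat.card_pos
        omega
      obtain ⟨ψ', hψ'def⟩ : ∃ ψ' : H ⧸ R' →* ↥(Cfsg.qd p),
          ∀ h : H, ψ' (QuotientGroup.mk h) = ψ h :=
        ⟨QuotientGroup.lift R' ψ hR'ker, fun h => rfl⟩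
      have hψ' : Function.Surjective ψ' := by
        intro q
        obtain ⟨h, rfl⟩ := hψ q
        exact ⟨QuotientGroup.mk h, hψ'def h⟩
      have hcard' : Nat.card (H ⧸ R') < n := by
        rw [← hcard, ← Subgroup.index_eq_card, ← Subgroup.index_mul_card R']
        have hpos : 0 < R'.index := Nat.pos_of_ne_zero Subgroup.index_ne_zero_of_finite
        nlinarith
      have hcop : (Nat.card R').Coprime p := by
        obtain ⟨k, hk⟩ := IsPGroup.iff_card.mp hR'p
        rw [hk]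
        exact Nat.Coprime.pow_left k ((Nat.coprime_primes hr hpp).mpr hrp)
      have hrk' := Cfsg.Agent.Helper24.RankTwoSolv.pRankLE_quotient_coprime R' hcop hrk
      obtain ⟨Hb, φb, hφb, hprop⟩ := ih _ hcard' (H ⧸ R') rfl hrk' ψ' hψ'
      refine ⟨Hb.comap (QuotientGroup.mk' R'),
        φb.comp ((QuotientGroup.mk' R').subgroupComap Hb), ?_, ?_⟩
      · exact hφb.comp (MonoidHom.subgroupComap_surjective_of_surjective _ _
          (QuotientGroup.mk'_surjective R'))
      · intro x hx hxp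
        have h1 : (QuotientGroup.mk' R').subgroupComap Hb x = 1 :=
          hprop _ hx (by rw [← map_pow, hxp, map_one])
        have h2 : (x : H) ∈ R' := by
          have h3 : (QuotientGroup.mk' R') (x : H) = 1 := congrArg Subtype.val h1
          exact (QuotientGroup.eq_one_iff _).mp h3
        have h3 : (x : H) ^ p = 1 := by
          have := congrArg Subtype.val hxp
          simpa using this
        obtain ⟨k, hk⟩ := hR'p ⟨(x : H), h2⟩
        have h4 : (x : H) ^ r ^ k = 1 := by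
          have := congrArg Subtype.val hk
          simpa using this
        have h5 : orderOf (x : H) ∣ Nat.gcd p (r ^ k) :=
          Nat.dvd_gcd (orderOf_dvd_of_pow_eq_one h3) (orderOf_dvd_of_pow_eq_one h4)
        have h6 : Nat.gcd p (r ^ k) = 1 :=
          Nat.Coprime.pow_right k ((Nat.coprime_primes hpp hr).mpr hrp.symm)
        rw [h6, Nat.dvd_one, orderOf_eq_one_iff] at h5
        exact Subtype.ext h5
    · -- the kernel is a `p`-group: S1926 applies
      push Not at hB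
      have hkerp : IsPGroup p ψ.ker := by
        have hpos : Nat.card ψ.ker ≠ 0 := Nat.card_pos.ne'
        have h1 : Nat.card ψ.ker = p ^ (Nat.card ψ.ker).primeFactorsList.length :=
          Nat.eq_prime_pow_of_unique_prime_dvd hpos
            (fun {q} hq hd => by_contra fun hne => hB q hq hne hd)
        exact IsPGroup.of_card h1
      have hiso : Nonempty (H ⧸ ψ.ker ≃* ↥(Cfsg.qd p)) :=
        ⟨QuotientGroup.quotientKerEquivOfSurjective ψ hψ⟩
      have hbot := h1926 ψ.ker hkerp hiso ⟨prankAtLeast_of_surj hp2 ψ hψ hkerp, hrk⟩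
      refine ⟨⊤, ψ.comp (⊤ : Subgroup H).subtype, ?_, ?_⟩
      · intro q
        obtain ⟨h, rfl⟩ := hψ q
        exact ⟨⟨h, Subgroup.mem_top h⟩, rfl⟩
      · intro x hx _
        have h1 : (x : H) ∈ ψ.ker := hx
        rw [hbot, Subgroup.mem_bot] at h1
        exact Subtype.ext h1

/-- **S1925 from S1926.** -/
theorem involves_iff {G : Type u} [Group G] [Finite G] (p : ℕ) [Fact p.Prime] (hp : 3 < p)
    (h1926 : Hyp1926.{u} p) (hr : Cfsg.PRankAtLeast p 2 G ∧ Cfsg.PRankLE p 2 G) :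
    Cfsg.Involves ↥(Cfsg.qd p) G ↔
      ∃ (H K : Subgroup G) (_ : (K.subgroupOf H).Normal), K ≤ H ∧ (Nat.card ↥K).Coprime p ∧
        Nonempty (↥H ⧸ K.subgroupOf H ≃* ↥(Cfsg.qd p)) := by
  have hpp : p.Prime := Fact.out
  constructor
  · rintro ⟨K, R, hn, ⟨e⟩⟩
    obtain ⟨ψ, hψdef⟩ : ∃ ψ : ↥K →* ↥(Cfsg.qd p),
        ψ = e.toMonoidHom.comp (QuotientGroup.mk' (R.subgroupOf K)) := ⟨_, rfl⟩
    have hψ : Function.Surjective ψ := by
      rw [hψdef]; exact e.surjective.comp (QuotientGroup.mk'_surjective _)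
    obtain ⟨H'', φ, hφ, hprop⟩ := key hp h1926 _ ↥K rfl
      (Cfsg.Agent.Helper24.Blk.prankLE_subgroup hr.2 K) ψ hψ
    obtain ⟨ε⟩ : Nonempty (↥H'' ≃* ↥(H''.map K.subtype)) :=
      ⟨H''.equivMapOfInjective K.subtype K.subtype_injective⟩
    obtain ⟨H', hH'⟩ : ∃ H' : Subgroup G, H' = H''.map K.subtype := ⟨_, rfl⟩
    subst hH'
    obtain ⟨φ', hφ'def⟩ : ∃ φ' : ↥(H''.map K.subtype) →* ↥(Cfsg.qd p),
        φ' = φ.comp ε.symm.toMonoidHom := ⟨_, rfl⟩
    have hφ' : Function.Surjective φ' := by rw [hφ'def]; exact hφ.comp ε.symm.surjective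
    have hprop' : ∀ x : ↥(H''.map K.subtype), φ' x = 1 → x ^ p = 1 → x = 1 := by
      intro x hx hxp
      rw [hφ'def] at hx
      have h1 : ε.symm x = 1 := hprop (ε.symm x) hx (by rw [← map_pow, hxp, map_one])
      exact (MulEquiv.map_eq_one_iff ε.symm).mp h1
    have heq : (φ'.ker.map (H''.map K.subtype).subtype).subgroupOf (H''.map K.subtype) = φ'.ker :=
      Subgroup.comap_map_eq_self_of_injective (Subgroup.subtype_injective _) _
    have hnorm : ((φ'.ker.map (H''.map K.subtype).subtype).subgroupOf (H''.map K.subtype)).Normal := by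
      rw [heq]; infer_instance
    refine ⟨H''.map K.subtype, φ'.ker.map (H''.map K.subtype).subtype, hnorm,
      Subgroup.map_subtype_le _, ?_, ?_⟩
    · rw [Subgroup.card_map_of_injective (Subgroup.subtype_injective _), Nat.coprime_comm,
        Nat.Prime.coprime_iff_not_dvd hpp]
      intro hdvd
      obtain ⟨x, hx⟩ := exists_prime_orderOf_dvd_card' p hdvd
      have hx1 : x ^ p = 1 := by
        have h0 := pow_orderOf_eq_one x
        rwa [hx] at h0
      have h1 : (x : ↥(H''.map K.subtype)) = 1 :=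
        hprop' x x.2 (by rw [← Subgroup.coe_pow, hx1]; rfl)
      have h2 : x = 1 := Subtype.ext h1
      rw [h2, orderOf_one] at hx
      exact hpp.one_lt.ne hx
    · exact ⟨(QuotientGroup.quotientMulEquivOfEq heq).trans
        (QuotientGroup.quotientKerEquivOfSurjective φ' hφ')⟩
  · rintro ⟨H, K, hn, -, -, hiso⟩
    exact ⟨H, K, hn, hiso⟩

end Cfsg.Agent.Helper68.QdInvolves
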