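import Mathlib
import Cfsg.Agent.Lib.Helper62.SLN0

/-!
# SLNC sub-project (piece TOP-C of the SLN server, S2332), piece L2 (helper68):
`wt (a e_j) ≤ X ⊓ wt* 0`.
-/

set_option autoImplicit false

namespace Cfsg.Agent.Helper68.SLNC

open Matrix Module Cfsg.Agent.Helper93.U2 Cfsg.Agent.Helper62.SLN

section SLN

variable {F : Type*} [Field F] [Fintype F] [DecidableEq F] {κ : Type} [Fintype κ] [DecidableEq κ]
  {V : Type*} [AddCommGroup V] [Module ℂ V] [FiniteDimensional ℂ V]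
  (ψ : AddChar F ℂ) (pr : Pairing (κ → F)) (hpr : ∀ w u, pr.β w u = ψ (w ⬝ᵥ u))
  (ρ : Representation ℂ (SpecialLinearGroup (Unit ⊕ κ) F) V)

include hpr

omit [Fintype F] [DecidableEq F] [FiniteDimensional ℂ V] in
/-- piece L2 [M-L]: `wt (a e_j) ≤ X ⊓ wt* 0`. -/
theorem A1_le
    (σ : SpecialLinearGroup (Unit ⊕ κ) F ≃* SpecialLinearGroup (Unit ⊕ κ) F) (jn : κ)
    (hσ2 : ∀ g, σ (σ g) = g)
    (hσ1 : ∀ i : κ, i ≠ jn → ∀ s : F,
      σ (qEl i (s • (Pi.single jn 1 : κ → F))) = uEl ((-s) • (Pi.single i 1 : κ → F)))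
    (hσ3 : ∀ s : F, σ (uEl (s • (Pi.single jn 1 : κ → F))) = uEl ((-s) • (Pi.single jn 1 : κ → F)))
    (hgenu : ∀ v : V,
      (∀ i : κ, ∀ s : F, (ρ.comp σ.toMonoidHom) (uEl (s • (Pi.single i 1 : κ → F))) v = v) →
      v ∈ wt pr (ρ.comp σ.toMonoidHom) 0)
    (j : κ) (hjn : j ≠ jn) (a : F) (ha : a ≠ 0)
    (h1a : ∀ t : κ → F, ∀ v ∈ wt pr ρ (a • (Pi.single j 1 : κ → F)), ρ (qEl j t) v = v)
    (hB : ∀ i : κ, i ≠ j → i ≠ jn → ∀ s : F,
      ∀ v ∈ wt pr ρ (a • (Pi.single j 1 : κ → F)), ρ (qEl i (s • (Pi.single jn 1 : κ → F))) v = v)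
    (v : V) (hv : v ∈ wt pr ρ (a • (Pi.single j 1 : κ → F))) :
    v ∈ (fixSp ρ (U0set (F := F) j ∪ Qset (F := F) j) ⊓ wt pr (ρ.comp σ.toMonoidHom) 0 :
      Submodule ℂ V) := by
  have hwt := (mem_wsp pr uEl ρ _ v).mp hv
  have hψ0 : ∀ u : κ → F, u j = 0 → ρ (uEl u) v = v := by
    intro u hu
    rw [hwt u, hpr, smul_dotProduct, single_dotProduct, hu, mul_zero, smul_zero,
      AddChar.map_zero_eq_one, one_smul]
  refine Submodule.mem_inf.mpr ⟨?_, ?_⟩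
  · rw [mem_fixSp]
    rintro g (⟨u, hu, rfl⟩ | ⟨t, rfl⟩)
    · exact hψ0 u hu
    · exact h1a t v hv
  · apply hgenu
    intro i s
    change ρ (σ (uEl (s • (Pi.single i 1 : κ → F)))) v = v
    by_cases hi : i = jn
    · subst hi
      rw [hσ3]
      apply hψ0
      rw [Pi.smul_apply, Pi.single_apply, if_neg hjn, smul_zero]
    · have h1 := hσ1 i hi (-s)
      rw [neg_neg] at h1
      rw [← h1, hσ2]
      by_cases hij : i = j
      · subst hij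
        exact h1a _ v hv
      · exact hB i hij hi (-s) v hv

end SLN

end Cfsg.Agent.Helper68.SLNC
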