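import Mathlib
import Cfsg.Agent.Lib.Helper62.SLN0

/-!
# SLNC sub-project (piece TOP-C of the SLN server, S2332), piece LOW (helper68): the lower bound.
-/

set_option autoImplicit false

namespace Cfsg.Agent.Helper68.SLNC

open Matrix Module Cfsg.Agent.Helper93.U2 Cfsg.Agent.Helper62.SLN

section SLN

variable {F : Type*} [Field F] [Fintype F] [DecidableEq F] {κ : Type} [Fintype κ] [DecidableEq κ]
  {V : Type*} [AddCommGroup V] [Module ℂ V] [FiniteDimensional ℂ V]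
  (ψ : AddChar F ℂ) (pr : Pairing (κ → F)) (hpr : ∀ w u, pr.β w u = ψ (w ⬝ᵥ u))
  (ρ : Representation ℂ (SpecialLinearGroup (Unit ⊕ κ) F) V)

include hpr

omit hpr in
/-- piece LOW [M-L]: the lower bound. -/
theorem lower_bound
    (ρ' : Representation ℂ (SpecialLinearGroup (Unit ⊕ κ) F) V) (j jn : κ) (hjn : j ≠ jn)
    (X : Submodule ℂ V)
    (hind : ∀ (Y : Submodule ℂ V) (S : Finset (κ → F)),
      ∑ a ∈ S, finrank ℂ (Y ⊓ wt pr ρ a : Submodule ℂ V) ≤ finrank ℂ Y)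
    (hind' : ∀ (Y : Submodule ℂ V) (S : Finset (κ → F)),
      ∑ a ∈ S, finrank ℂ (Y ⊓ wt pr ρ' a : Submodule ℂ V) ≤ finrank ℂ Y)
    (hcard : (Finset.univ.filter (fun w : κ → F => w j = 0 ∧ w jn = 0 ∧ w ≠ 0)).card =
      Fintype.card F ^ (Fintype.card κ - 2) - 1)
    (hd1 : ∀ w : κ → F, w ≠ 0 → finrank ℂ (wt pr ρ w) = 1)
    (hd1' : ∀ w : κ → F, w ≠ 0 → finrank ℂ (wt pr ρ' w) = 1)
    (hL1 : ∀ w : κ → F, w j = 0 → w jn = 0 → w ≠ 0 → wt pr ρ' w ≤ X)
    (hL2 : ∀ a : F, a ≠ 0 → wt pr ρ (a • (Pi.single j 1 : κ → F)) ≤ X ⊓ wt pr ρ' 0) :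
    (Fintype.card F - 1) + (Fintype.card F ^ (Fintype.card κ - 2) - 1) ≤ finrank ℂ X := by
  have h0 : (0 : κ → F) ∉ Finset.univ.filter (fun w : κ → F => w j = 0 ∧ w jn = 0 ∧ w ≠ 0) := by
    rw [Finset.mem_filter]
    rintro ⟨_, _, _, h⟩
    exact h rfl
  have hA := hind' X (insert 0 (Finset.univ.filter (fun w : κ → F => w j = 0 ∧ w jn = 0 ∧ w ≠ 0)))
  rw [Finset.sum_insert h0] at hA
  have hA2 : ∑ w ∈ Finset.univ.filter (fun w : κ → F => w j = 0 ∧ w jn = 0 ∧ w ≠ 0),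
      finrank ℂ (X ⊓ wt pr ρ' w : Submodule ℂ V) =
      (Finset.univ.filter (fun w : κ → F => w j = 0 ∧ w jn = 0 ∧ w ≠ 0)).card := by
    rw [Finset.card_eq_sum_ones]
    refine Finset.sum_congr rfl (fun w hw => ?_)
    rw [Finset.mem_filter] at hw
    obtain ⟨_, h1, h2, h3⟩ := hw
    rw [inf_eq_right.mpr (hL1 w h1 h2 h3), hd1' w h3]
  rw [hA2, hcard] at hA
  have hinj : Function.Injective (fun a : F => a • (Pi.single j 1 : κ → F)) := by
    intro a b hab
    have := congrFun hab j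
    simpa using this
  have hB := hind (X ⊓ wt pr ρ' 0)
    ((Finset.univ.erase (0 : F)).image (fun a : F => a • (Pi.single j 1 : κ → F)))
  have hB2 : ∑ x ∈ (Finset.univ.erase (0 : F)).image (fun a : F => a • (Pi.single j 1 : κ → F)),
      finrank ℂ ((X ⊓ wt pr ρ' 0) ⊓ wt pr ρ x : Submodule ℂ V) =
      ((Finset.univ.erase (0 : F)).image (fun a : F => a • (Pi.single j 1 : κ → F))).card := by
    rw [Finset.card_eq_sum_ones]
    refine Finset.sum_congr rfl (fun x hx => ?_)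
    rw [Finset.mem_image] at hx
    obtain ⟨a, ha, rfl⟩ := hx
    have ha0 : a ≠ 0 := (Finset.mem_erase.mp ha).1
    have hne : a • (Pi.single j 1 : κ → F) ≠ 0 := by
      intro h
      have := congrFun h j
      simp at this
      exact ha0 this
    rw [inf_eq_right.mpr (hL2 a ha0), hd1 _ hne]
  rw [hB2, Finset.card_image_of_injective _ hinj, Finset.card_erase_of_mem (Finset.mem_univ _),
    Finset.card_univ] at hB
  omega

end SLN

end Cfsg.Agent.Helper68.SLNC
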