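import Mathlib
import Cfsg.Agent.S1017
import Cfsg.Agent.Lib.Helper17.Sieve
import Cfsg.Agent.Lib.Helper75.FixKill

/-!
# No nonabelian simple group of order 5148 = 2^2 * 3^2 * 11 * 13 (helper68, for S0983)

`n_11 = 78` is forced, `|N(P)| = 66`, `|C(P)| = 33`: an element `u` of order 3 centralises a Sylow
11-subgroup `P`.  Its fixed points on `Syl_11` number 12 or 45 and then `|C(u)| = 396`, a subgroup
of index 13.  On its 13 cosets an element `g` of order 11 of `P` fixes exactly 2 points, `u`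
(commuting with `g`) fixes both, so `|Fix u| ≡ 2 mod 11` and `|Fix u| ≡ 13 mod 3`, `|Fix u| < 13`:
impossible.
-/

set_option autoImplicit false

namespace Cfsg.Agent.Helper68.SV

open Nat MulAction Cfsg.Agent.Helper17 Cfsg.Agent.Helper17.Sieve

set_option maxRecDepth 100000 in
theorem key_5148_11 : ∀ d ≤ 468, d ∣ 468 → d % 11 = 1 → ¬ Bad (11 ^ 1 * 468) 11 1 468 d → d = 78 := by
  decide +kernel

/-- no nonabelian simple group of order 5148 -/
theorem no_5148.{u} : Cfsg.Agent.Helper17.Sieve.NoSimple.{u} 5148 := by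
  intro G _ _ _ hna hn0
  have h11 : Fact (Nat.Prime 11) := ⟨by norm_num⟩
  have h3 : Fact (Nat.Prime 3) := ⟨by norm_num⟩
  have hn : Nat.card G = 11 ^ 1 * 468 := hn0.trans (by norm_num)
  have hpm : ¬ 11 ∣ 468 := by norm_num
  have h2G : 2 < Nat.card G := by rw [hn0]; norm_num
  obtain ⟨hdm, hdp⟩ := sylow_count (G := G) hn hpm
  have hnb := Cfsg.Agent.Helper75.FixKill.not_bad hna 11 1 468 one_ne_zero (by norm_num) hn hpm
  have hdle : Nat.card (Sylow 11 G) ≤ 468 := Nat.le_of_dvd (by norm_num) hdm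
  have hd : Nat.card (Sylow 11 G) = 78 := key_5148_11 _ hdle hdm hdp hnb
  obtain ⟨P⟩ : Nonempty (Sylow 11 G) := inferInstance
  have hP : Nat.card (P : Subgroup G) = 11 := by
    have h0 := Cfsg.Agent.S1017.sylow_card_eq P 1 468 hn hpm
    rwa [pow_one] at h0
  have hNd := Cfsg.Agent.S1017.card_sylow_mul_card_normalizer P
  rw [hd, hn0] at hNd
  have hN : Nat.card ↥(Subgroup.normalizer ((P : Subgroup G) : Set G)) = 66 := by omega
  obtain ⟨k, c, hk10, hk1, hC, hNk⟩ :=
    Cfsg.Agent.S1017.normalizer_structure P hP (by rw [hn0]; norm_num)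
  rw [hN] at hNk
  have hk : k = 2 ∧ c = 3 := by
    have hkle : k ≤ 10 := Nat.le_of_dvd (by norm_num) hk10
    interval_cases k <;> simp_all <;> omega
  obtain ⟨rfl, rfl⟩ := hk
  have hrC : 3 ∣ Nat.card ↥(Subgroup.centralizer ((P : Subgroup G) : Set G)) := by
    rw [hC]; norm_num
  -- the element `u` of order 3
  obtain ⟨u', hu'⟩ := exists_prime_orderOf_dvd_card'
    (G := ↥(Subgroup.centralizer ((P : Subgroup G) : Set G))) 3 hrC
  have hu : orderOf (u' : G) = 3 := by rw [Subgroup.orderOf_coe]; exact hu'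
  have huC : (u' : G) ∈ Subgroup.centralizer ((P : Subgroup G) : Set G) := u'.2
  set u : G := (u' : G) with hudef
  have hu1 : u ≠ 1 := Cfsg.Agent.S1017.ne_one_of_orderOf_prime u h3.out hu
  have hd1 : 1 < Nat.card (Sylow 11 G) := by rw [hd]; norm_num
  -- fixed points of `u` on `Syl_11`
  have hf1 := Cfsg.Agent.S1017.card_fixedBy_sylow_modEq P hP u huC
  have hf2 := Cfsg.Agent.S1017.card_modEq_card_fixedBy (α := Sylow 11 G) u hu
  have hf3 := Cfsg.Agent.S1017.card_fixedBy_le (α := Sylow 11 G) u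
  have hf4 := Cfsg.Agent.S1017.card_fixedBy_ne (α := Sylow 11 G)
    (Cfsg.Agent.S1017.sylow_action_nontrivial hd1) u hu1
  rw [hd] at hf2 hf3 hf4
  unfold Nat.ModEq at hf1 hf2
  have hf : Nat.card (fixedBy (Sylow 11 G) u) = 12 ∨ Nat.card (fixedBy (Sylow 11 G) u) = 45 := by
    omega
  have hbig : Nat.card (Sylow 11 G) - 1 < 11 * (Nat.card (fixedBy (Sylow 11 G) u) - 1) := by
    rw [hd]; omega
  have hcard := Cfsg.Agent.S1017.card_centralizer_eq P hP u huC hbig
  -- the group `N(P) ⊓ C(u)`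
  have hPle : (P : Subgroup G) ≤ Subgroup.normalizer ((P : Subgroup G) : Set G) ⊓
      Subgroup.centralizer ({u} : Set G) :=
    le_inf Subgroup.le_normalizer ((Cfsg.Agent.S1017.le_centralizer_singleton_iff _ u).2 huC)
  have hpd : 11 ∣ Nat.card ↥(Subgroup.normalizer ((P : Subgroup G) : Set G) ⊓
      Subgroup.centralizer ({u} : Set G)) := by
    conv_lhs => rw [← hP]
    exact Subgroup.card_dvd_of_le hPle
  have humem : u ∈ Subgroup.normalizer ((P : Subgroup G) : Set G) ⊓
      Subgroup.centralizer ({u} : Set G) := by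
    refine ⟨Subgroup.centralizer_le_normalizer _ huC, ?_⟩
    show u ∈ Subgroup.centralizer ({u} : Set G)
    rw [Subgroup.mem_centralizer_iff]
    intro y hy
    rw [Set.mem_singleton_iff] at hy
    rw [hy]
  have hrd : 3 ∣ Nat.card ↥(Subgroup.normalizer ((P : Subgroup G) : Set G) ⊓
      Subgroup.centralizer ({u} : Set G)) := by
    rw [← hu]
    exact Subgroup.orderOf_dvd_natCard _ humem
  have h33 : 33 ∣ Nat.card ↥(Subgroup.normalizer ((P : Subgroup G) : Set G) ⊓
      Subgroup.centralizer ({u} : Set G)) :=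
    (by norm_num : Nat.Coprime 11 3).mul_dvd_of_dvd_of_dvd hpd hrd
  have h66 : Nat.card ↥(Subgroup.normalizer ((P : Subgroup G) : Set G) ⊓
      Subgroup.centralizer ({u} : Set G)) ∣ 66 := by
    rw [← hN]
    exact Subgroup.card_dvd_of_le inf_le_left
  have hHdvd : Nat.card ↥(Subgroup.centralizer ({u} : Set G)) ∣ 5148 := by
    rw [← hn0]
    exact Subgroup.card_subgroup_dvd_card _
  set H : Subgroup G := Subgroup.centralizer ({u} : Set G) with hHdef
  set m' := Nat.card ↥(Subgroup.normalizer ((P : Subgroup G) : Set G) ⊓ H) with hm'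
  have hH : Nat.card ↥H = 396 := by
    have hm'' : m' = 33 ∨ m' = 66 := by
      obtain ⟨j, hj⟩ := h33
      have hle : m' ≤ 66 := Nat.le_of_dvd (by norm_num) h66
      have hj0 : j ≠ 0 := by
        rintro rfl
        rw [hj] at h66
        simp at h66
      have : j = 1 ∨ j = 2 := by omega
      rcases this with rfl | rfl <;> omega
    rcases hf with hf | hf <;> rcases hm'' with hm'' | hm'' <;> rw [hcard, hf, hm''] at hHdvd ⊢ <;>
      first
        | rfl
        | (exfalso; revert hHdvd; decide)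
  -- the action on the 13 cosets of `H`
  have hidx : Nat.card (G ⧸ H) = 13 := by
    have h0 := Subgroup.card_mul_index H
    rw [hH, hn0] at h0
    rw [← Subgroup.index_eq_card]
    omega
  have hHtop : H ≠ ⊤ := by
    intro htop
    have h0 : Nat.card ↥H = Nat.card G := by rw [htop]; exact Subgroup.card_top
    rw [hH, hn0] at h0
    omega
  have hnt := Cfsg.Agent.S1017.coset_action_nontrivial H hHtop
  -- an element `g` of order 11 in `P`
  obtain ⟨g', hg'⟩ := exists_prime_orderOf_dvd_card' (G := ↥(P : Subgroup G)) 11 (by rw [hP])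
  have hg : orderOf (g' : G) = 11 := by rw [Subgroup.orderOf_coe]; exact hg'
  set g : G := (g' : G) with hgdef
  have hg1 : g ≠ 1 := Cfsg.Agent.S1017.ne_one_of_orderOf_prime g h11.out hg
  have hc : Commute g u := Subgroup.mem_centralizer_iff.mp huC g g'.2
  -- fixed points of `g`
  have e1 := Cfsg.Agent.S1017.card_modEq_card_fixedBy (α := G ⧸ H) g hg
  have e2 := Cfsg.Agent.S1017.card_fixedBy_le (α := G ⧸ H) g
  have e3 := Cfsg.Agent.S1017.card_fixedBy_ne (α := G ⧸ H) hnt g hg1
  rw [hidx] at e1 e2 e3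
  unfold Nat.ModEq at e1
  have hFg : Nat.card (fixedBy (G ⧸ H) g) = 2 := by omega
  -- `u` fixes both of them
  have e4 := Cfsg.Agent.S1017.card_fixedBy_modEq_inter (α := G ⧸ H) u g hc.symm hu
  have e5 := Cfsg.Agent.S1017.card_inter_le_left (fixedBy (G ⧸ H) g) (fixedBy (G ⧸ H) u)
  rw [hFg] at e4 e5
  unfold Nat.ModEq at e4
  have hX : Nat.card ↥(fixedBy (G ⧸ H) g ∩ fixedBy (G ⧸ H) u) = 2 := by omega
  -- fixed points of `u`
  have e6 := Cfsg.Agent.S1017.card_fixedBy_modEq_inter (α := G ⧸ H) g u hc hg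
  rw [Cfsg.Agent.S1017.card_inter_comm, hX] at e6
  have e7 := Cfsg.Agent.S1017.card_modEq_card_fixedBy (α := G ⧸ H) u hu
  have e8 := Cfsg.Agent.S1017.card_fixedBy_le (α := G ⧸ H) u
  have e9 := Cfsg.Agent.S1017.card_fixedBy_ne (α := G ⧸ H) hnt u hu1
  rw [hidx] at e7 e8 e9
  unfold Nat.ModEq at e6 e7
  omega

end Cfsg.Agent.Helper68.SV
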