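import Mathlib
import Cfsg.Agent.Lib.Helper93.U30

/-! U3 project (S2334, helper93): piece T4 -/

set_option autoImplicit false

namespace Cfsg.Agent.Helper68.U3

open Matrix Cfsg.Agent.Helper13 Cfsg.Agent.Helper93.U2 Cfsg.Agent.Helper93.U3

section GRP

variable {F : Type*} [Field F] [Fintype F] {q : ℕ} (hF : Fintype.card F = q ^ 2)

include hF in
/-- piece T4 (hF first explicit argument) -/
theorem exists_norm_ne_one (hq : 2 < q) : ∃ t : F, t ≠ 0 ∧ t * t ^ q ≠ 1 := by
  classical
  by_contra hcon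
  push Not at hcon
  have hall : ∀ t : F, t ≠ 0 → t ^ (q + 1) = 1 := fun t ht => by
    rw [pow_succ']; exact hcon t ht
  have hsub : (Finset.univ.erase (0 : F)) ⊆ (Polynomial.nthRoots (q + 1) (1 : F)).toFinset := by
    intro t ht
    rw [Multiset.mem_toFinset, Polynomial.mem_nthRoots (Nat.succ_pos q)]
    exact hall t (Finset.ne_of_mem_erase ht)
  have h1 := Finset.card_le_card hsub
  have h2 : (Polynomial.nthRoots (q + 1) (1 : F)).toFinset.card ≤ q + 1 :=
    (Multiset.toFinset_card_le _).trans (Polynomial.card_nthRoots (q + 1) (1 : F))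
  rw [Finset.card_erase_of_mem (Finset.mem_univ _), Finset.card_univ, hF] at h1
  have h3 : q ^ 2 - 1 ≤ q + 1 := h1.trans h2
  have h4 : 3 * q ≤ q ^ 2 := by nlinarith
  omega

end GRP

end Cfsg.Agent.Helper68.U3
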