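import Mathlib
import Cfsg.Agent.Lib.Helper93.U30
import Cfsg.Agent.Lib.Helper13.HermWitt

/-! U3 project (S2334, helper93): piece T5 -/

set_option autoImplicit false

namespace Cfsg.Agent.Helper68.U3

open Matrix Cfsg.Agent.Helper13 Cfsg.Agent.Helper93.U2 Cfsg.Agent.Helper93.U3

section GRP

variable {F : Type*} [Field F] [Fintype F] {q : ℕ} (hF : Fintype.card F = q ^ 2)

include hF in
/-- piece T5 (hF first explicit argument) -/
theorem exists_c₀ : ∃ c₀ : F, c₀ + c₀ ^ q = -1 := by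
  obtain ⟨a, ha⟩ := trace_surj_involution (frobQ hF) (frobQ_ne_id hF) (frobQ_frobQ hF) (-1)
    (by rw [map_neg, map_one])
  exact ⟨a, ha⟩

end GRP

end Cfsg.Agent.Helper68.U3
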